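import Cfsg.Agent.Lib.Bender.Full.Main
import Cfsg.Agent.Lib.Bender.Full.Basic
import Cfsg.Agent.Lib.OddConseq.AbelianSolv.Final
import Cfsg.Agent.Lib.PushUpTwo.SLFacts
import Cfsg.Agent.S1120
import Cfsg.Agent.S1132
import Cfsg.Agent.S1137
import Cfsg.Agent.S1138
import Cfsg.Agent.S0205

/-!
# The regular two-group of a core-free strongly embedded subgroup

With two commuting involutions it has order `q`, `q ^ 2` or `q ^ 3`, where `q - 1` is the number of its
involutions: abelian means elementary, otherwise it is a Suzuki two-group.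
-/

set_option autoImplicit false
set_option linter.style.haveILetI false

namespace CfsgLib.SECrit.Shape

open Subgroup CfsgLib.Invol MulAction

universe u

/-- The situation of Bender's theorem. -/
structure Data {G : Type u} [Group G] (H Q : Subgroup G) : Prop where
  se : Cfsg.IsStronglyEmbedded H
  core : H.normalCore = ⊥
  pair : CfsgLib.Bender.HasPair G
  le : Q ≤ H
  norm : H ≤ normalizer (Q : Set G)
  two : IsPGroup 2 Q
  reg : ∀ g k : G, g ∉ H → k ∉ H → ∃! x, x ∈ Q ∧ k⁻¹ * (x * g) ∈ H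

namespace Data

variable {G : Type u} [Group G] [Finite G] {H Q : Subgroup G} (h : Data H Q)
include h

theorem exists_notMem : ∃ g : G, g ∉ H := by
  by_contra hh
  push Not at hh
  exact h.se.1 (eq_top_iff.2 fun g _ => hh g)

/-- The two-elements of `H` lie in `Q`. -/
theorem mem_of_two {g : G} (hg : g ∈ H) {k : ℕ} (hk : g ^ 2 ^ k = 1) : g ∈ Q := by
  haveI : Fact (Nat.Prime 2) := ⟨Nat.prime_two⟩
  obtain ⟨c, hc⟩ := h.exists_notMem
  obtain ⟨y, hy, d, hd, hgd⟩ := CfsgLib.Bender.Full.exists_mul h.le h.reg hc hg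
  have hR : IsPGroup 2 (zpowers g ⊔ Q : Subgroup G) := by
    refine IsPGroup.to_sup_of_normal_right' ?_ h.two ((zpowers_le.2 hg).trans h.norm)
    rintro ⟨_, i, rfl⟩
    refine ⟨k, Subtype.ext ?_⟩
    show (g ^ i) ^ (2 ^ k) = 1
    rw [← zpow_natCast, zpow_comm, zpow_natCast, hk, one_zpow]
  have hdR : d ∈ (zpowers g ⊔ Q : Subgroup G) := by
    rw [show d = y⁻¹ * g by rw [hgd, inv_mul_cancel_left]]
    exact mul_mem (inv_mem (mem_sup_right hy)) (mem_sup_left (mem_zpowers g))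
  obtain ⟨j, hj⟩ := hR ⟨d, hdR⟩
  have hd1 : d = 1 := CfsgLib.Bender.Full.eq_of_two_element (h.se.2.2 c hc) hd
    (show d ^ 2 ^ j = 1 from congrArg Subtype.val hj)
  rw [hgd, hd1, mul_one]
  exact hy

theorem mem_of_invol {g : G} (hg : g ∈ H) (hg2 : g * g = 1) : g ∈ Q :=
  h.mem_of_two hg (k := 1) (by rw [pow_one, pow_two, hg2])

/-- There is one point more than elements of `Q`. -/
theorem card_points : Nat.card (G ⧸ H) = Nat.card Q + 1 := by
  classical
  obtain ⟨c, hc⟩ := h.exists_notMem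
  set a : G ⧸ H := ((1 : G) : G ⧸ H)
  have hne : ∀ g : G, g ∉ H → (g : G ⧸ H) ≠ a := fun g hg e => hg (by
    have := QuotientGroup.eq.1 e
    simpa using inv_mem this)
  have hQne : ∀ y ∈ Q, y * c ∉ H := fun y hy e => hc ((mul_mem_cancel_left (h.le hy)).1 e)
  let f : Q → {b : G ⧸ H // b ≠ a} := fun y => ⟨(((y : G) * c : G) : G ⧸ H), hne _ (hQne y y.2)⟩
  have hf : Function.Bijective f := by
    refine ⟨fun y y' e => ?_, fun ⟨b, hb⟩ => ?_⟩
    · have e1 : (((y : G) * c : G) : G ⧸ H) = (((y' : G) * c : G) : G ⧸ H) := congrArg Subtype.val e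
      obtain ⟨w, -, huniq⟩ := h.reg c ((y : G) * c) hc (hQne y y.2)
      refine Subtype.ext ((huniq y ⟨y.2, ?_⟩).trans (huniq y' ⟨y'.2, ?_⟩).symm)
      · rw [inv_mul_cancel]; exact one_mem _
      · exact QuotientGroup.eq.1 e1
    · obtain ⟨k, rfl⟩ := QuotientGroup.mk_surjective b
      have hk : k ∉ H := fun e => hb (QuotientGroup.eq.2 (by simpa using inv_mem e))
      obtain ⟨y, ⟨hy, hyk⟩, -⟩ := h.reg c k hc hk
      exact ⟨⟨y, hy⟩, Subtype.ext (QuotientGroup.eq.2 hyk).symm⟩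
  rw [Nat.card_eq_of_bijective f hf]
  have := Nat.card_congr (Equiv.optionSubtypeNe a)
  rw [Finite.card_option] at this
  exact this.symm

theorem even_card : Even (Nat.card Q) := by
  obtain ⟨t, ht, hto⟩ := exists_invol_mem h.se.2.1
  have htQ := h.mem_of_invol ht (invol_mul_self hto)
  exact even_iff_two_dvd.2 (hto ▸ Subgroup.orderOf_dvd_natCard Q htQ)

/-- A two-subgroup of `G` is conjugate into `Q`. -/
theorem exists_conj_le {P : Subgroup G} (hP : IsPGroup 2 P) : ∃ g : G, ∀ a ∈ P, g⁻¹ * a * g ∈ Q := by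
  haveI : Fact (Nat.Prime 2) := ⟨Nat.prime_two⟩
  obtain ⟨b, hb⟩ := hP.nonempty_fixed_point_of_prime_not_dvd_card (G ⧸ H) (by
    rw [h.card_points]
    have := h.even_card
    rw [Nat.even_iff] at this
    omega)
  obtain ⟨g, rfl⟩ := QuotientGroup.mk_surjective b
  refine ⟨g, fun a ha => ?_⟩
  have h1 : a • (g : G ⧸ H) = (g : G ⧸ H) := hb ⟨a, ha⟩
  rw [MulAction.Quotient.smul_coe, smul_eq_mul, QuotientGroup.eq] at h1
  obtain ⟨k, hk⟩ := hP ⟨a, ha⟩
  refine h.mem_of_two (by simpa [mul_assoc] using inv_mem h1) (k := k) ?_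
  rw [show (g⁻¹ * a * g) ^ 2 ^ k = g⁻¹ * a ^ 2 ^ k * g by simpa using (conj_pow (i := 2 ^ k) (a := g⁻¹) (b := a)),
    show a ^ 2 ^ k = 1 from congrArg Subtype.val hk, mul_one, inv_mul_cancel]

/-- `Q` is a Sylow two-subgroup. -/
theorem exists_sylow : ∃ S : Sylow 2 G, (S : Subgroup G) = Q := by
  haveI : Fact (Nat.Prime 2) := ⟨Nat.prime_two⟩
  obtain ⟨S, hS⟩ := h.two.exists_le_sylow
  obtain ⟨g, hg⟩ := h.exists_conj_le S.2
  refine ⟨S, (eq_of_le_of_card_ge hS ?_).symm⟩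
  exact Nat.card_le_card_of_injective (fun a : (S : Subgroup G) => (⟨_, hg a a.2⟩ : Q)) fun a b e =>
    Subtype.ext (mul_left_cancel (mul_right_cancel (congrArg Subtype.val e)))

theorem exists_setup : ∃ t : G, Cfsg.IsRankOneSetup G (G ⧸ H) ((1 : G) : G ⧸ H) t Q := by
  obtain ⟨s, hs, hso⟩ := exists_invol_mem h.se.2.1
  obtain ⟨c, hc⟩ := h.exists_notMem
  set t := c * s * c⁻¹ with ht
  have hto : orderOf t = 2 := invol_conj hso c
  have htH : t ∉ H := fun e => hc (mem_of_conj_mem h.se hs hso e)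
  set a : G ⧸ H := ((1 : G) : G ⧸ H) with ha
  have hstab : ∀ g : G, g • a = a ↔ g ∈ H := fun g => by
    rw [ha, MulAction.Quotient.smul_coe, smul_eq_mul, mul_one, QuotientGroup.eq, mul_one, inv_mem_iff]
  have hta : ∀ g : G, g • (t • a) = t • a ↔ t⁻¹ * g * t ∈ H := fun g => by
    rw [← hstab, mul_smul (t⁻¹ * g) t, mul_smul t⁻¹ g, inv_smul_eq_iff]
  -- `Q` is transitive on the other points
  have htr : ∀ b c : G ⧸ H, b ≠ a → c ≠ a → ∃ y ∈ Q, y • b = c := by
    intro b c hb hc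
    obtain ⟨g, rfl⟩ := QuotientGroup.mk_surjective b
    obtain ⟨k, rfl⟩ := QuotientGroup.mk_surjective c
    have hg : g ∉ H := fun e => hb (QuotientGroup.eq.2 (by simpa using inv_mem e))
    have hk : k ∉ H := fun e => hc (QuotientGroup.eq.2 (by simpa using inv_mem e))
    obtain ⟨y, ⟨hy, hyk⟩, -⟩ := h.reg g k hg hk
    exact ⟨y, hy, by rw [MulAction.Quotient.smul_coe, smul_eq_mul]; exact (QuotientGroup.eq.2 hyk).symm⟩
  refine ⟨t, ?_, invol_mul_self hto, invol_ne_one hto, ?_, ?_, ?_, ?_, ?_, h.even_card, ?_⟩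
  · refine MulAction.is_two_pretransitive_iff.2 fun {p q r s} hpq hrs => ?_
    obtain ⟨g, rfl⟩ := MulAction.exists_smul_eq G a p
    obtain ⟨k, rfl⟩ := MulAction.exists_smul_eq G a r
    obtain ⟨y, hy, hyq⟩ := htr (g⁻¹ • q) (k⁻¹ • s)
      (fun e => hpq (by rw [← e, smul_inv_smul])) (fun e => hrs (by rw [← e, smul_inv_smul]))
    refine ⟨k * y * g⁻¹, ?_, ?_⟩
    · rw [mul_smul, mul_smul, inv_smul_smul, (hstab y).2 (h.le hy)]
    · rw [mul_smul, mul_smul, hyq, smul_inv_smul]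
  · rw [MulAction.mem_stabilizer_iff, hstab]; exact htH
  · intro y hy
    rw [MulAction.mem_stabilizer_iff, hstab]
    exact h.le hy
  · intro g hg y hy
    rw [MulAction.mem_stabilizer_iff, hstab] at hg
    exact (mem_normalizer_iff.1 (h.norm hg) y).1 hy
  · rw [eq_bot_iff]
    rintro y ⟨hy, hyt⟩
    obtain ⟨w, -, huniq⟩ := h.reg t t htH htH
    refine mem_bot.2 ((huniq y ⟨hy, ?_⟩).trans (huniq 1 ⟨one_mem _, ?_⟩).symm)
    · rw [← mul_assoc]; exact (hta y).1 hyt
    · rw [one_mul, inv_mul_cancel]; exact one_mem _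
  · refine le_antisymm (sup_le ?_ inf_le_left) fun g hg => ?_
    · intro y hy
      rw [MulAction.mem_stabilizer_iff, hstab]
      exact h.le hy
    · rw [MulAction.mem_stabilizer_iff, hstab] at hg
      obtain ⟨y, hy, d, ⟨hd, ⟨d', hd', hdd⟩⟩, rfl⟩ := CfsgLib.Bender.Full.exists_mul h.le h.reg htH hg
      refine mul_mem (mem_sup_left hy) (mem_sup_right ⟨(hstab d).2 hd, (hta d).2 ?_⟩)
      rw [← show t * d' * t⁻¹ = d from hdd]
      simpa [mul_assoc] using hd'
  · refine (h.se.2.2 t htH).of_dvd_nat (card_dvd_of_le ?_)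
    rintro g ⟨hg1, hg2⟩
    exact ⟨(hstab g).1 hg1, t⁻¹ * g * t, (hta g).1 hg2, by simp [mul_assoc]⟩

/-- `H` is solvable. -/
theorem solvable : Group.IsSolvable H := by
  haveI : Fact (Nat.Prime 2) := ⟨Nat.prime_two⟩
  haveI hn : (Q.subgroupOf H).Normal := normal_subgroupOf_of_le_normalizer h.norm
  haveI : Group.IsNilpotent (Q.subgroupOf H) := (h.two.comap_subtype).isNilpotent
  haveI : Group.IsSolvable (H ⧸ Q.subgroupOf H) := Cfsg.Agent.S0205.result (by
    obtain ⟨S, hS⟩ := h.exists_sylow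
    have h1 : ¬ 2 ∣ Q.index := hS ▸ S.not_dvd_index
    rw [← Nat.not_even_iff_odd, even_iff_two_dvd, ← index_eq_card]
    exact fun e => h1 (e.trans (relIndex_dvd_index_of_le h.le)))
  exact Group.isSolvable_of_ker_le_range (Q.subgroupOf H).subtype (QuotientGroup.mk' (Q.subgroupOf H))
    (by rw [QuotientGroup.ker_mk', range_subtype])

theorem faithful {g : G} (hg : ∀ b : G ⧸ H, g • b = b) : g = 1 := by
  have : g ∈ H.normalCore := fun k => by
    have h1 := hg ((k⁻¹ : G) : G ⧸ H)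
    rw [MulAction.Quotient.smul_coe, smul_eq_mul, QuotientGroup.eq] at h1
    simpa [mul_assoc] using inv_mem h1
  rwa [h.core, mem_bot] at this

theorem pair_mul : ∃ x y : G, x ≠ 1 ∧ y ≠ 1 ∧ x ≠ y ∧ x * x = 1 ∧ y * y = 1 ∧ x * y = y * x := by
  obtain ⟨x, y, hx, hy, hne, hc⟩ := h.pair
  exact ⟨x, y, invol_ne_one hx, invol_ne_one hy, hne, invol_mul_self hx, invol_mul_self hy, hc.eq⟩

theorem oddCore_eq_bot : Cfsg.oddCore G = ⊥ := by
  obtain ⟨t, hS⟩ := h.exists_setup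
  have := Cfsg.Agent.S1120.result hS h.pair_mul
  rw [show MulAction.stabilizer G ((1 : G) : G ⧸ H) = H from MulAction.stabilizer_quotient H, h.core] at this
  exact this

theorem solvable_centralizer {τ : G} (hτ : orderOf τ = 2) : Group.IsSolvable ↥(centralizer ({τ} : Set G)) := by
  haveI := h.solvable
  obtain ⟨g, hg⟩ := h.exists_conj_le (P := zpowers τ) (IsPGroup.of_card (n := 1) (by rw [Nat.card_zpowers, hτ, pow_one]))
  have hs : g⁻¹ * τ * g ∈ H := h.le (hg τ (mem_zpowers τ))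
  have hso : orderOf (g⁻¹ * τ * g) = 2 := by simpa using invol_conj hτ g⁻¹
  let f : centralizer ({τ} : Set G) →* H :=
    { toFun := fun c => ⟨g⁻¹ * c * g, mem_of_conj_mem h.se hs hso (by
        have e : (c : G) * τ = τ * c := mem_centralizer_singleton_iff.1 c.2
        rw [show g⁻¹ * (c : G) * g * (g⁻¹ * τ * g) * (g⁻¹ * (c : G) * g)⁻¹ =
          g⁻¹ * ((c : G) * τ * (c : G)⁻¹) * g by group, e, mul_inv_cancel_right]
        exact hs)⟩
      map_one' := Subtype.ext (by simp)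
      map_mul' := fun a b => Subtype.ext (by simp [mul_assoc]) }
  exact Group.isSolvable_of_isSolvable_injective (f := f) fun a b e =>
    Subtype.ext (mul_left_cancel (mul_right_cancel (congrArg Subtype.val e)))

theorem not_solvable : ¬ Group.IsSolvable G := by
  intro hsol
  haveI := hsol
  haveI : Fact (Nat.Prime 2) := ⟨Nat.prime_two⟩
  haveI : Nontrivial G := by
    obtain ⟨g, hg⟩ := h.exists_notMem
    exact ⟨g, 1, fun e => hg (e ▸ one_mem H)⟩
  obtain ⟨A, hA, -, hAne, hAc⟩ := CfsgLib.GW.exists_abelian_normal (K := (⊤ : Subgroup G)) top_ne_bot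
  obtain ⟨R, hR⟩ : ∃ R : Subgroup G, ∀ x, x ∈ R ↔ x ∈ A ∧ x * x = 1 := by
    refine ⟨{ carrier := {x | x ∈ A ∧ x * x = 1}, one_mem' := ⟨one_mem _, one_mul 1⟩,
              mul_mem' := ?_, inv_mem' := ?_ }, fun x => Iff.rfl⟩
    · rintro a b ⟨ha, ha'⟩ ⟨hb, hb'⟩
      exact ⟨mul_mem ha hb, by
        rw [mul_assoc, ← mul_assoc b, (hAc hb ha).eq, mul_assoc a b b, hb', mul_one, ha']⟩
    · rintro a ⟨ha, ha'⟩
      exact ⟨inv_mem ha, by rw [← mul_inv_rev, ha', inv_one]⟩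
  haveI hRn : R.Normal := ⟨fun x hx g => (hR _).2 ⟨hA.conj_mem x ((hR x).1 hx).1 g, by
    rw [conj_mul, ((hR x).1 hx).2]; group⟩⟩
  obtain ⟨S, hS⟩ := h.exists_sylow
  have hRH : R ≤ H.normalCore := normal_le_normalCore.2 ((IsPGroup.le_sylow_of_normal
    (fun x => ⟨1, Subtype.ext (by rw [SubgroupClass.coe_pow, pow_one, pow_two]; exact ((hR x).1 x.2).2)⟩) S).trans
      (hS ▸ h.le))
  have hA2 : 2 ∣ Nat.card ↥A := by
    by_contra h2
    exact hAne (CfsgLib.HallNumbers.no_odd_normal h.oddCore_eq_bot A hA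
      (Nat.not_even_iff_odd.1 fun he => h2 (even_iff_two_dvd.1 he)))
  obtain ⟨z, hz⟩ := exists_prime_orderOf_dvd_card' (G := ↥A) 2 hA2
  rw [← Subgroup.orderOf_coe] at hz
  have := hRH ((hR _).2 ⟨z.2, by rw [← pow_two, ← hz, pow_orderOf_eq_one]⟩)
  rw [h.core, mem_bot] at this
  exact invol_ne_one hz this

/-- Two involutions in `Q` besides the identity. -/
theorem two_lt_card_invol : 2 < Nat.card {x : Q // x * x = 1} := by
  classical
  haveI : Fact (Nat.Prime 2) := ⟨Nat.prime_two⟩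
  obtain ⟨x, y, hx1, hy1, hne, hx2, hy2, hxy⟩ := h.pair_mul
  have hP : IsPGroup 2 (zpowers x ⊔ zpowers y : Subgroup G) := by
    have hpg : ∀ {u : G}, u * u = 1 → IsPGroup 2 (zpowers u) := fun {u} hu =>
      by
        rintro ⟨_, i, rfl⟩
        refine ⟨1, Subtype.ext ?_⟩
        show (u ^ i) ^ 2 ^ 1 = 1
        rw [pow_one, ← zpow_natCast, zpow_comm, zpow_natCast, pow_two, hu, one_zpow]
    refine IsPGroup.to_sup_of_normal_right' (hpg hx2) (hpg hy2) (zpowers_le.2 ?_)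
    refine centralizer_le_normalizer _ (mem_centralizer_iff.2 fun b hb => ?_)
    obtain ⟨i, rfl⟩ := mem_zpowers_iff.1 hb
    exact ((show Commute x y from hxy).zpow_right i).symm.eq
  obtain ⟨g, hg⟩ := h.exists_conj_le hP
  have hsq : ∀ {u : G}, u * u = 1 → (g⁻¹ * u * g) * (g⁻¹ * u * g) = 1 := fun {u} hu => by
    rw [show g⁻¹ * u * g * (g⁻¹ * u * g) = g⁻¹ * (u * u) * g by group, hu, mul_one, inv_mul_cancel]
  let X : {x : Q // x * x = 1} := ⟨⟨_, hg x (mem_sup_left (mem_zpowers x))⟩, Subtype.ext (hsq hx2)⟩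
  let Y : {x : Q // x * x = 1} := ⟨⟨_, hg y (mem_sup_right (mem_zpowers y))⟩, Subtype.ext (hsq hy2)⟩
  let O : {x : Q // x * x = 1} := ⟨1, one_mul 1⟩
  letI := Fintype.ofFinite {x : Q // x * x = 1}
  rw [Nat.card_eq_fintype_card, Fintype.two_lt_card_iff]
  refine ⟨X, Y, O, fun e => hne ?_, fun e => hx1 ?_, fun e => hy1 ?_⟩ <;>
    have e' : (_ : G) = _ := congrArg (fun t => ((t.1 : Q) : G)) e
  · exact mul_left_cancel (mul_right_cancel e')
  · exact mul_left_cancel (mul_right_cancel (e'.trans (show (1 : G) = g⁻¹ * 1 * g by group)))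
  · exact mul_left_cancel (mul_right_cancel (e'.trans (show (1 : G) = g⁻¹ * 1 * g by group)))

omit [Finite G] h in
/-- The two-elements of `L2(2^n)` are involutions. -/
theorem sq_eq_one_psl {F : Type} [Field F] [Fintype F] {n : ℕ} (hF : Fintype.card F = 2 ^ n)
    (P : Sylow 2 (Matrix.ProjectiveSpecialLinearGroup (Fin 2) F)) {g : Matrix.ProjectiveSpecialLinearGroup (Fin 2) F}
    (hg : g ∈ (P : Subgroup (Matrix.ProjectiveSpecialLinearGroup (Fin 2) F))) : g * g = 1 := by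
  haveI : Fact (Nat.Prime 2) := ⟨Nat.prime_two⟩
  haveI := (CfsgLib.PushUp.charP_of_card (p := 2) hF).1
  obtain ⟨e, he⟩ : ∃ e : Matrix.SpecialLinearGroup (Fin 2) F ≃* Matrix.ProjectiveSpecialLinearGroup (Fin 2) F,
      ∀ g, e g = CfsgLib.PushUpTwo.toPSL g :=
    ⟨MulEquiv.ofBijective _ CfsgLib.PushUpTwo.toPSL_bijective, fun _ => rfl⟩
  have hc : Nat.card ((CfsgLib.PushUpTwo.upGroup F).map e.toMonoidHom) =
      2 ^ (Nat.card (Matrix.ProjectiveSpecialLinearGroup (Fin 2) F)).factorization 2 := by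
    rw [Subgroup.card_map_of_injective e.injective, CfsgLib.PushUpTwo.card_upGroup, Nat.card_eq_fintype_card, hF,
      CfsgLib.PushUp.psl_factorization hF]
  obtain ⟨c, hcP⟩ := MulAction.exists_smul_eq (Matrix.ProjectiveSpecialLinearGroup (Fin 2) F) P (Sylow.ofCard _ hc)
  have h1 : c * g * c⁻¹ ∈ (CfsgLib.PushUpTwo.upGroup F).map e.toMonoidHom := by
    have : MulAut.conj c • g ∈ ((c • P : Sylow 2 _) : Subgroup (Matrix.ProjectiveSpecialLinearGroup (Fin 2) F)) :=
      Subgroup.smul_mem_pointwise_smul _ _ _ hg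
    rw [hcP] at this
    simpa [MulAut.smul_def] using this
  obtain ⟨u, hu, hue⟩ := h1
  have hu2 : u * u = 1 := by
    rw [CfsgLib.PushUpTwo.eq_up_of_mem hu]
    refine CfsgLib.PushUpTwo.slExt ?_ ?_ ?_ ?_ <;>
      simp [CfsgLib.PushUpTwo.up_val, Matrix.mul_apply, Fin.sum_univ_two, CharTwo.add_self_eq_zero]
  have h2 : c * (g * g) * c⁻¹ = 1 := by
    rw [show c * (g * g) * c⁻¹ = (c * g * c⁻¹) * (c * g * c⁻¹) by group, ← hue, ← map_mul, hu2, map_one]
  exact mul_left_cancel (mul_right_cancel (h2.trans (show (1 : _) = c * 1 * c⁻¹ by group)))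

/-- An abelian `Q` is elementary. -/
theorem sq_eq_one_of_comm (hQ : ∀ a ∈ Q, ∀ b ∈ Q, a * b = b * a) :
    Nat.card Q = Nat.card {x : Q // x * x = 1} := by
  classical
  haveI : Fact (Nat.Prime 2) := ⟨Nat.prime_two⟩
  obtain ⟨S, hS⟩ := h.exists_sylow
  rcases CfsgLib.AbelianSolv.core_free h.oddCore_eq_bot S (hS ▸ hQ)
    (fun τ hτ => h.solvable_centralizer hτ) with hsol | ⟨N, hN, ⟨F, iF, iF', hF, ⟨eN⟩⟩, hCN⟩
  · exact absurd hsol h.not_solvable
  haveI := hN
  -- `N` moves the point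
  set a : G ⧸ H := ((1 : G) : G ⧸ H) with ha
  have hstab : ∀ g : G, g • a = a ↔ g ∈ H := fun g => by
    rw [ha, MulAction.Quotient.smul_coe, smul_eq_mul, mul_one, QuotientGroup.eq, mul_one, inv_mem_iff]
  have hNne : N ≠ ⊥ := fun e => by
    obtain ⟨g, hg⟩ := h.exists_notMem
    refine hg ?_
    have h1 : g ∈ centralizer (N : Set G) := mem_centralizer_iff.2 fun b hb => by
      rw [e, SetLike.mem_coe, mem_bot] at hb
      rw [hb, one_mul, mul_one]
    rw [hCN, mem_bot] at h1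
    exact h1 ▸ one_mem H
  obtain ⟨n₀, hn₀, hn₀H⟩ : ∃ n ∈ N, n ∉ H := by
    by_contra hh
    push Not at hh
    exact hNne (le_bot_iff.1 ((normal_le_normalCore.2 hh).trans h.core.le))
  obtain ⟨t, hS0⟩ := h.exists_setup
  haveI := hS0.two_transitive
  have htr : ∀ b : G ⧸ H, ∃ n ∈ N, n • a = b := by
    intro b
    by_cases hb : b = a
    · exact ⟨1, one_mem N, by rw [hb, one_smul]⟩
    obtain ⟨g, hga, hgb⟩ := MulAction.is_two_pretransitive_iff.1 ‹_›
      (show n₀ • a ≠ a from fun e => hn₀H ((hstab _).1 e)) hb |>.imp fun g hg => And.intro hg.2 hg.1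
    refine ⟨g * n₀ * g⁻¹, hN.conj_mem n₀ hn₀ g, ?_⟩
    rw [mul_smul, mul_smul, inv_smul_eq_iff.2 hga.symm, hgb]
  have hHN : H.subgroupOf N ≠ ⊤ := fun e => hn₀H (subgroupOf_eq_top.1 e hn₀)
  -- the involutions lie in `N`
  have heven : Even (Nat.card N) := by
    by_contra ho
    exact hNne (CfsgLib.HallNumbers.no_odd_normal h.oddCore_eq_bot N hN (Nat.not_even_iff_odd.1 ho))
  obtain ⟨t₁, ht₁N, ht₁o⟩ := exists_invol_mem heven
  obtain ⟨t', ht'N, ht'o, ht'H⟩ : ∃ t' ∈ N, orderOf t' = 2 ∧ t' ∉ H := by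
    by_cases ht₁H : t₁ ∈ H
    · obtain ⟨g, hg⟩ := h.exists_notMem
      exact ⟨g * t₁ * g⁻¹, hN.conj_mem t₁ ht₁N g, invol_conj ht₁o g, fun e => hg (mem_of_conj_mem h.se ht₁H ht₁o e)⟩
    · exact ⟨t₁, ht₁N, ht₁o, ht₁H⟩
  have hinvN : ∀ s ∈ Q, s * s = 1 → s ∈ N := by
    intro s hs hs2
    by_cases hs1 : s = 1
    · exact hs1 ▸ one_mem N
    have hso : orderOf s = 2 := orderOf_eq_prime (by rw [pow_two, hs2]) hs1
    have hcl : ∀ {u w : G}, u ∈ H → orderOf u = 2 → Commute w u → w ∈ H := fun {u w} hu huo hwu =>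
      mem_of_conj_mem h.se hu huo (by rw [hwu.eq, mul_inv_cancel_right]; exact hu)
    have hodd : Odd (orderOf (t' * s)) := by
      by_contra hno
      have he := Nat.not_odd_iff_even.1 hno
      have hwo := orderOf_pow_half he
      have hwt := commute_pow_half (invol_conj_mul ht'o hso) he
      have hws := commute_pow_half (invol_conj_mul' ht'o hso) he
      exact ht'H (hcl (hcl (h.le hs) hso hws) hwo hwt.symm)
    obtain ⟨g, hg⟩ := isConj_iff.1 (Invol.isConj_of_odd ht'o hso hodd)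
    exact hg ▸ hN.conj_mem t' ht'N g
  obtain ⟨s₁, hs₁, hs₁o⟩ := exists_invol_mem h.se.2.1
  have hs₁N : s₁ ∈ N := hinvN s₁ (h.mem_of_invol hs₁ (invol_mul_self hs₁o)) (invol_mul_self hs₁o)
  have hev : Even (Nat.card (H.subgroupOf N)) := even_iff_two_dvd.2 <| by
    have := Subgroup.orderOf_dvd_natCard (H.subgroupOf N) (show (⟨s₁, hs₁N⟩ : N) ∈ H.subgroupOf N from hs₁)
    rwa [Subgroup.orderOf_mk, hs₁o] at this
  have hseN : Cfsg.IsStronglyEmbedded (H.subgroupOf N) := by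
    refine (stronglyEmbedded_iff hHN hev).2 fun u hu huo g hg => ?_
    exact mem_of_conj_mem h.se hu (show orderOf (u : G) = 2 by rw [Subgroup.orderOf_coe]; exact huo) hg
  have hcoreN : (H.subgroupOf N).normalCore = ⊥ := by
    refine eq_bot_iff.2 fun n hn => mem_bot.2 (Subtype.ext (h.faithful fun b => ?_))
    obtain ⟨m, hm, rfl⟩ := htr b
    have h1 := hn (⟨m, hm⟩ : N)⁻¹
    rw [← hstab] at hn₀H
    have h2 : (m⁻¹ * (n : G) * m) • a = a := (hstab _).2 (by simpa [mem_subgroupOf] using h1)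
    rwa [mul_smul, mul_smul, inv_smul_eq_iff] at h2
  have hpairN : CfsgLib.Bender.HasPair N := by
    obtain ⟨⟨⟨u, hu⟩, hu2⟩, ⟨⟨v, hv⟩, hv2⟩, huv, hu1, hv1⟩ : ∃ u v : {x : Q // x * x = 1},
        u ≠ v ∧ u.1 ≠ 1 ∧ v.1 ≠ 1 := by
      letI := Fintype.ofFinite {x : Q // x * x = 1}
      have h3 := h.two_lt_card_invol
      rw [Nat.card_eq_fintype_card, Fintype.two_lt_card_iff] at h3
      obtain ⟨u, v, w, huv, huw, hvw⟩ := h3
      have hx : ∀ {u v : {x : Q // x * x = 1}}, u.1 = 1 → u ≠ v → v.1 ≠ 1 := fun hu hne hv =>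
        hne (Subtype.ext (hu.trans hv.symm))
      by_cases h1 : u.1 = 1
      · exact ⟨v, w, hvw, hx h1 huv, hx h1 huw⟩
      by_cases h2 : v.1 = 1
      · exact ⟨u, w, huw, h1, hx h2 hvw⟩
      · exact ⟨u, v, huv, h1, h2⟩
    have hu2' : u * u = 1 := congrArg Subtype.val hu2
    have hv2' : v * v = 1 := congrArg Subtype.val hv2
    refine ⟨⟨u, hinvN u hu hu2'⟩, ⟨v, hinvN v hv hv2'⟩, ?_, ?_, fun e => huv ?_, Subtype.ext (hQ u hu v hv)⟩
    · rw [Subgroup.orderOf_mk]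
      exact orderOf_eq_prime (by rw [pow_two, hu2']) fun e => hu1 (Subtype.ext e)
    · rw [Subgroup.orderOf_mk]
      exact orderOf_eq_prime (by rw [pow_two, hv2']) fun e => hv1 (Subtype.ext e)
    · exact Subtype.ext (Subtype.ext (congrArg (fun t : N => (t : G)) e))
  obtain ⟨Q', hQ'le, hQ'n, hQ'2, hQ'reg⟩ := CfsgLib.Bender.Full.fullStatement _ _ hseN hcoreN hpairN
  have hQ'card : Nat.card Q' = Nat.card Q := by
    have hD : Data (H.subgroupOf N) Q' := ⟨hseN, hcoreN, hpairN, hQ'le, hQ'n, hQ'2, hQ'reg⟩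
    have e : Nat.card (N ⧸ H.subgroupOf N) = Nat.card (G ⧸ H) := by
      haveI : MulAction.IsPretransitive N (G ⧸ H) := ⟨fun b c => by
        obtain ⟨m, hm, rfl⟩ := htr b
        obtain ⟨m', hm', rfl⟩ := htr c
        exact ⟨⟨m' * m⁻¹, mul_mem hm' (inv_mem hm)⟩, show (m' * m⁻¹) • (m • a) = m' • a by
          rw [smul_smul, inv_mul_cancel_right]⟩⟩
      rw [← index_eq_card, show H.subgroupOf N = MulAction.stabilizer N a from Subgroup.ext fun g =>
        (hstab (g : G)).symm]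
      exact MulAction.index_stabilizer_of_transitive N a
    rw [hD.card_points, h.card_points] at e
    omega
  rcases hF with ⟨h35, -⟩ | ⟨n, -, hFn⟩
  · -- a four group
    have hodd : Odd (Fintype.card F) := by rw [Nat.odd_iff]; omega
    have hpsl := CfsgLib.AbelianSolv.two_mul_card_psl F hodd
    have hdvd : Nat.card Q' ∣ Nat.card (Matrix.ProjectiveSpecialLinearGroup (Fin 2) F) :=
      Nat.card_congr eN.toEquiv ▸ Subgroup.card_subgroup_dvd_card Q'
    obtain ⟨e₁, he₁⟩ := IsPGroup.iff_card.1 hQ'2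
    have h8 : ¬ 8 ∣ Nat.card (Matrix.ProjectiveSpecialLinearGroup (Fin 2) F) := by
      rintro ⟨c, hc⟩
      rw [hc] at hpsl
      obtain ⟨k, hk⟩ := hodd
      rw [hk, show 2 * k + 1 - 1 = 2 * k by omega] at hpsl
      have h9 : 4 * c = (2 * k + 1) * (k * (k + 1)) := by
        have : 4 * (4 * c) = 4 * ((2 * k + 1) * (k * (k + 1))) := by linarith
        omega
      rw [hk] at h35
      obtain ⟨j, rfl | rfl⟩ : ∃ j, k = 4 * j + 1 ∨ k = 4 * j + 2 := ⟨k / 4, by omega⟩
      · obtain ⟨i, hi⟩ : ∃ i, i = (2 * (4 * j + 1) + 1) * ((4 * j + 1) * (2 * j + 1)) := ⟨_, rfl⟩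
        have h10 : 4 * c = 2 * i := by rw [h9, hi]; ring
        have hiodd : Odd i := by
          rw [hi]; exact Odd.mul ⟨4 * j + 1, rfl⟩ (Odd.mul ⟨2 * j, by ring⟩ ⟨j, rfl⟩)
        rw [Nat.odd_iff] at hiodd
        omega
      · obtain ⟨i, hi⟩ : ∃ i, i = (2 * (4 * j + 2) + 1) * ((2 * j + 1) * (4 * j + 3)) := ⟨_, rfl⟩
        have h10 : 4 * c = 2 * i := by rw [h9, hi]; ring
        have hiodd : Odd i := by
          rw [hi]; exact Odd.mul ⟨4 * j + 2, rfl⟩ (Odd.mul ⟨j, rfl⟩ ⟨2 * j + 1, by ring⟩)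
        rw [Nat.odd_iff] at hiodd
        omega
    have hle4 : e₁ ≤ 2 := by
      by_contra hh
      exact h8 ((show 8 ∣ Nat.card Q' by rw [he₁]; exact pow_dvd_pow 2 (show 3 ≤ e₁ by omega)).trans hdvd)
    have h4 : Nat.card Q ≤ 4 := by
      rw [← hQ'card, he₁]
      exact Nat.pow_le_pow_right two_pos hle4
    have h3 := h.two_lt_card_invol
    let Inv : Subgroup Q :=
      { carrier := {x | x * x = 1}
        one_mem' := one_mul 1
        mul_mem' := fun {u v} hu hv => by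
          show u * v * (u * v) = 1
          rw [mul_assoc, ← mul_assoc v, show v * u = u * v from Subtype.ext (hQ v v.2 u u.2), mul_assoc u v v,
            show v * v = 1 from hv, mul_one, show u * u = 1 from hu]
        inv_mem' := fun {u} hu => by
          show u⁻¹ * u⁻¹ = 1
          rw [← mul_inv_rev, show u * u = 1 from hu, inv_one] }
    have hI : Nat.card {x : Q // x * x = 1} ∣ Nat.card Q := Subgroup.card_subgroup_dvd_card Inv
    obtain ⟨c, hc⟩ := hI
    rcases c with - | - | c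
    · rw [mul_zero] at hc
      exact absurd hc Nat.card_pos.ne'
    · omega
    · nlinarith
  · -- even characteristic
    obtain ⟨P, hP⟩ := hQ'2.exists_le_sylow
    haveI : Fact (Nat.Prime 2) := ⟨Nat.prime_two⟩
    have hsq : ∀ u ∈ Q', u * u = 1 := fun u hu => eN.injective (by
      rw [map_mul, map_one]
      exact sq_eq_one_psl hFn (P.mapSurjective (f := eN.toMonoidHom) (show Function.Surjective eN.toMonoidHom from eN.surjective)) (g := eN u) (by
        rw [Sylow.coe_mapSurjective]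
        exact ⟨u, hP hu, rfl⟩))
    obtain ⟨g, hg⟩ := h.exists_conj_le (hQ'2.map N.subtype)
    let f : Q' → {x : Q // x * x = 1} := fun u => ⟨⟨_, hg (u : N) ⟨u, u.2, rfl⟩⟩, Subtype.ext (by
      show g⁻¹ * ((u : N) : G) * g * (g⁻¹ * ((u : N) : G) * g) = 1
      rw [show g⁻¹ * ((u : N) : G) * g * (g⁻¹ * ((u : N) : G) * g) = g⁻¹ * (((u : N) : G) * (u : N)) * g by group,
        show ((u : N) : G) * (u : N) = 1 from congrArg Subtype.val (hsq u u.2), mul_one, inv_mul_cancel])⟩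
    have hf : Function.Injective f := fun u v e => Subtype.ext (Subtype.ext
      (mul_left_cancel (mul_right_cancel (congrArg (fun t : {x : Q // x * x = 1} => ((t.1 : Q) : G)) e))))
    refine le_antisymm (hQ'card ▸ Nat.card_le_card_of_injective f hf) ?_
    exact Nat.card_le_card_of_injective _ Subtype.val_injective

/-- **The order of `Q`.** -/
theorem card_cases : Nat.card Q = Nat.card {x : Q // x * x = 1} ∨
    Nat.card Q = Nat.card {x : Q // x * x = 1} ^ 2 ∨ Nat.card Q = Nat.card {x : Q // x * x = 1} ^ 3 := by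
  haveI : Fact (Nat.Prime 2) := ⟨Nat.prime_two⟩
  obtain ⟨t, hS⟩ := h.exists_setup
  haveI : FaithfulSMul G (G ⧸ H) := ⟨fun {g₁ g₂} hg => by
    refine inv_mul_eq_one.1 (h.faithful fun b => ?_)
    rw [mul_smul, ← hg, inv_smul_smul]⟩
  obtain ⟨S, hS'⟩ : ∃ S : Sylow 2 Q, (S : Subgroup Q) = ⊤ :=
    ⟨⟨⊤, h.two.to_subgroup ⊤ |>.of_equiv (MulEquiv.refl _), fun _ hle => le_antisymm le_top hle⟩, rfl⟩
  rcases Cfsg.Agent.S1132.result hS h.pair_mul S with hab | hsuz
  · refine Or.inl (h.sq_eq_one_of_comm fun a ha b hb => ?_)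
    exact congrArg (fun t : (S : Subgroup Q) => ((t : Q) : G))
      (hab.is_comm.comm (⟨⟨a, ha⟩, hS' ▸ mem_top _⟩ : (S : Subgroup Q)) ⟨⟨b, hb⟩, hS' ▸ mem_top _⟩)
  · refine Or.inr ?_
    obtain ⟨hinv, hcen⟩ := Cfsg.Agent.S1137.result hsuz
    obtain ⟨-, -, hcard, -⟩ := Cfsg.Agent.S1138.result hsuz
    have e : Nat.card {x : Q // x * x = 1} = Nat.card (Subgroup.center (S : Subgroup Q)) := by
      refine Nat.card_congr
        { toFun := fun x => ⟨⟨x.1, hS' ▸ mem_top _⟩, ?_⟩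
          invFun := fun x => ⟨((x.1 : (S : Subgroup Q)) : Q), congrArg Subtype.val (hcen _ x.2)⟩
          left_inv := fun x => rfl
          right_inv := fun x => rfl }
      by_cases hx : x.1 = 1
      · exact (show (⟨x.1, hS' ▸ mem_top _⟩ : (S : Subgroup Q)) = 1 from Subtype.ext hx) ▸ one_mem _
      · exact ((hinv _).1 ⟨fun e => hx (congrArg Subtype.val e), Subtype.ext x.2⟩).1
    have eS : Nat.card (S : Subgroup Q) = Nat.card Q := by rw [hS', Subgroup.card_top]
    rw [e, ← eS]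
    exact hcard

end Data

end CfsgLib.SECrit.Shape
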