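import Cfsg.Agent.Lib.Invol.SECriterion.Shape.KernelLine
import Cfsg.Agent.Lib.Invol.SECriterion.Cube.Disjoint

/-!
# The strong embedding criterion: one bad involution fixes two given points

In the small type with `q ^ 3 + 1` fixed points a second bad involution commuting with `x` and fixing two
of its fixed points would centralize the line, against disjointness, or fix exactly the square root of it
at each of the lines, against the four group formula and the arithmetic.
-/

set_option autoImplicit false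
set_option linter.unusedSectionVars false

namespace CfsgLib.SECrit

open CfsgLib.Invol Subgroup

universe u

namespace Shape

/-- The four group formula with `a = c (c + 2)`, `q = (c + 1) ^ 2` has no solution. -/
theorem klein_cube_arith {c j i a₁ a₂ q : ℕ} (hc : 1 ≤ c) (hj : 1 ≤ j) (hq : q = (c + 1) * (c + 1))
    (h₁ : a₁ = c ∨ a₁ = c * (c + 2)) (h₂ : a₂ = c ∨ a₂ = c * (c + 2))
    (hk : (q * j + 1) * (c * c) = a₁ * a₂)
    (harith : (q * j + 1) * (q * i - 1) + (q ^ 3 + 1) = (q ^ 3 + 1) * q) : False := by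
  have hpos : 0 < c * c := Nat.mul_pos hc hc
  have hj' : q ≤ q * j := Nat.le_mul_of_pos_right _ hj
  have key : q * j + 1 = 1 ∨ q * j + 1 = c + 2 ∨ q * j + 1 = (c + 2) * (c + 2) := by
    rcases h₁ with rfl | rfl <;> rcases h₂ with rfl | rfl
    · exact Or.inl (Nat.eq_of_mul_eq_mul_right hpos (by rw [hk, one_mul]))
    · exact Or.inr (Or.inl (Nat.eq_of_mul_eq_mul_right hpos (by rw [hk]; ring)))
    · exact Or.inr (Or.inl (Nat.eq_of_mul_eq_mul_right hpos (by rw [hk]; ring)))
    · exact Or.inr (Or.inr (Nat.eq_of_mul_eq_mul_right hpos (by rw [hk]; ring)))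
  rcases key with e | e | e
  · subst hq; nlinarith
  · subst hq; nlinarith
  · rcases Nat.lt_or_ge j 2 with hj2 | hj2
    · obtain rfl : j = 1 := by omega
      subst hq; nlinarith
    · have h2 : q * 2 ≤ q * j := Nat.mul_le_mul_left _ hj2
      obtain rfl : c = 1 := by subst hq; nlinarith
      subst hq
      obtain rfl : j = 2 := by omega
      norm_num at harith
      omega

end Shape

variable {G : Type u} [Group G] [Finite G] {M : Subgroup G} {z : G}
variable (h : Setup M z) (hgen : normalClosure ({z} : Set G) = ⊤)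
  (hloc : ∀ x : G, IsBad M x → Local M z x) {x : G} (hx : IsBad M x) {p : G ⧸ M} (hxp : x • p = p)
  (ha : 2 ≤ Nat.card (CAt z ({x} : Set G) p)) (hlt : Nat.card (CAt z ({x} : Set G) p) < deg M z)
  {β : ℕ} (hβ : Nat.card (CAt z ({x} : Set G) p) + 1 = 2 ^ β) (hβ2 : 2 ≤ β)
  (hk : Nat.card {c : G ⧸ M // x • c = c} = 2 ^ (β * 3) + 1)
  {q₀ : G ⧸ M} (hq₀ : q₀ ≠ p) (hxq₀ : x • q₀ = q₀) {P : Subgroup G} (hP : IsPGroup 2 P)
  (hPx : P ≤ twoPt x p q₀)
  (hmax : ∀ (T : Subgroup G) (c : G ⧸ M), IsPGroup 2 T → c ≠ p → (∀ g ∈ T, g • p = p ∧ g • c = c) →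
    Nat.card T ≤ Nat.card P)

include h hgen hloc hx hxp ha hlt hβ hβ2 hk hq₀ hxq₀ hP hPx hmax

/-- **No four group of bad involutions fixes two points.** -/
theorem Setup.kernel_klein {y : G} (hy : orderOf y = 2) (hxy : Commute x y) (hne : y ≠ x)
    {c : G ⧸ M} (hc : c ≠ p) (hxc : x • c = c) (hyp : y • p = p) (hyc : y • c = c) : False := by
  classical
  have hbadY : IsBad M y := ⟨hy, c, p, hc, hyc, hyp⟩
  have hk2 : orderOf (x * y) = 2 := invol_iff.2 ⟨by
      rw [hxy.symm.mul_mul_mul_comm, invol_mul_self hx.1, invol_mul_self hy, one_mul],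
    fun e => hne ((eq_inv_of_mul_eq_one_left e).trans (invol_inv hy)).symm⟩
  have hbadK : IsBad M (x * y) := ⟨hk2, c, p, hc, by rw [mul_smul, hyc, hxc], by rw [mul_smul, hyp, hxp]⟩
  set a := Nat.card (CAt z ({x} : Set G) p) with hadef
  set n := Nat.card (CAt z (insert y ({x} : Set G)) p) with hndef
  have hxx := invol_mul_self hx.1
  -- a common member
  obtain ⟨d₀, hd₀, hd₀p, hd₀A⟩ : ∃ d : G, IsConj z d ∧ d • p = p ∧ ∀ w ∈ insert y ({x} : Set G), Commute w d := by
    have hA := h.isPGroup_pair hxy (Or.inl (invol_mul_self hy)) hx.1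
    obtain ⟨d, hd, hdp, hdA⟩ := h.crit.exists_commuting_at hA (a := p) fun g hg =>
      (Subgroup.closure_le (MulAction.stabilizer G p)).2
        (by rintro v (rfl | hv); exacts [hyp, by rw [Set.mem_singleton_iff.1 hv]; exact hxp]) hg
    exact ⟨d, hd, hdp, fun w hw => hdA w (Subgroup.subset_closure hw)⟩
  haveI : Nonempty (CAt z (insert y ({x} : Set G)) p) := ⟨⟨d₀, hd₀, hd₀p, hd₀A⟩⟩
  have hn1 : 1 ≤ n := Nat.card_pos
  rcases h.line_cases (hloc x hx) hxy (Or.inl (invol_mul_self hy)) hxp hyp hx.1 with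
    hall | ⟨i, -, hn, ha', -⟩
  · -- `y` centralizes the line
    refine h.cube_false_of_commute hgen hloc hx hxp ha hlt hβ hβ2 hk hq₀ hxq₀ hP hPx hmax
      (R := Subgroup.closure ({x, y} : Set G)) (fun g hg => ?_) (fun g hg d hd hdp hxd => ?_)
      (subset_closure (Or.inl rfl)) (subset_closure (Or.inr rfl)) hx hbadY hxy hne.symm hc hxc hyc
    · exact (Subgroup.closure_le (MulAction.stabilizer G p)).2
        (by rintro v (rfl | hv); exacts [hxp, by rw [Set.mem_singleton_iff.1 hv]; exact hyp]) hg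
    · refine mem_centralizer_singleton_iff.1 ((Subgroup.closure_le (centralizer ({d} : Set G))).2 ?_ hg)
      rintro v (rfl | hv)
      · exact mem_centralizer_singleton_iff.2 hxd.eq
      · rw [Set.mem_singleton_iff.1 hv]
        exact mem_centralizer_singleton_iff.2 (hall d hd hdp hxd).eq
  · rw [← hndef] at hn
    rw [← hadef] at ha'
    -- the two other lines
    have side : ∀ k : G, IsBad M k → k • p = p → Commute x k →
        Nat.card (CAt z (insert x ({k} : Set G)) p) = n →
        Nat.card (CAt z ({k} : Set G) p) = n ∨ Nat.card (CAt z ({k} : Set G) p) = a := by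
      intro k hkb hkp hxk hkn
      rcases h.line_cases (hloc k hkb) hxk.symm (Or.inl hxx) hkp hxp hkb.1 with hall | ⟨l, -, hl1, hl2, -⟩
      · refine Or.inl (Eq.trans (Nat.card_congr (Equiv.subtypeEquivRight fun d => ⟨fun hd => ⟨hd.1, hd.2.1, ?_⟩,
          fun hd => ⟨hd.1, hd.2.1, fun w hw => hd.2.2 w (Set.mem_insert_of_mem _ hw)⟩⟩)) hkn)
        rintro w (rfl | hw)
        · exact hall d hd.1 hd.2.1 (hd.2.2 k rfl)
        · exact hd.2.2 w hw
      · refine Or.inr ?_
        rw [hkn, hn] at hl1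
        rw [← hl1] at hl2
        omega
    have e1 : Nat.card (CAt z (insert x ({y} : Set G)) p) = n := by rw [hndef, Set.pair_comm]
    have e2 : Nat.card (CAt z (insert x ({x * y} : Set G)) p) = n := by
      refine Nat.card_congr (Equiv.subtypeEquivRight fun d => ⟨fun hd => ⟨hd.1, hd.2.1, ?_⟩,
        fun hd => ⟨hd.1, hd.2.1, ?_⟩⟩)
      · have hxd := hd.2.2 x (Set.mem_insert _ _)
        have hkd := hd.2.2 (x * y) (Set.mem_insert_of_mem _ rfl)
        rintro w (rfl | hw)
        · have := hxd.inv_left.mul_left hkd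
          rwa [inv_mul_cancel_left] at this
        · rw [Set.mem_singleton_iff.1 hw]; exact hxd
      · rintro w (rfl | hw)
        · exact hd.2.2 _ (Set.mem_insert_of_mem _ rfl)
        · rw [Set.mem_singleton_iff.1 hw]
          exact (hd.2.2 x (Set.mem_insert_of_mem _ rfl)).mul_left (hd.2.2 y (Set.mem_insert _ _))
    have hy' := side y hbadY hyp hxy e1
    have hk' := side (x * y) hbadK (by rw [mul_smul, hyp, hxp]) ((Commute.refl x).mul_right hxy) e2
    have hF := h.crit.klein_formula hx.1 hy hxy hc.symm hxp hxc hyp hyc hd₀ hd₀p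
      (hd₀A x (Set.mem_insert_of_mem _ rfl)) (hd₀A y (Set.mem_insert _ _))
    rw [show ({x, y} : Set G) = insert y ({x} : Set G) from Set.pair_comm x y, ← hndef, ← hadef] at hF
    obtain ⟨iN, j, -, hj, hm, -, harith⟩ :=
      h.exists_arith hloc hx hxp ha hq₀ hxq₀ hP hPx hmax hβ hk (by omega) hlt
    have hq : 2 ^ β = (n + 1) * (n + 1) := by rw [← hβ, ha', hn]
    have hae : a = n * (n + 2) := by
      have : a + 1 = n * (n + 2) + 1 := by rw [ha', ← hn]; ring
      omega
    rw [← hβ, Nat.add_sub_cancel, hβ] at hm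
    rw [← hm, sq, mul_comm _ a, mul_assoc a, mul_assoc a] at hF
    refine Shape.klein_cube_arith hn1 hj hq
      (by rcases hy' with e | e <;> rw [e] <;> simp [hae])
      (by rcases hk' with e | e <;> rw [e] <;> simp [hae])
      (Nat.eq_of_mul_eq_mul_left (show 0 < a by omega) hF) (by rw [← pow_mul]; exact harith)

end CfsgLib.SECrit
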