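import Cfsg.Agent.Lib.Invol.SECriterion.Cube.Base
import Mathlib.GroupTheory.Transfer
import Mathlib.GroupTheory.QuotientGroup.Basic

/-!
# The strong embedding criterion: the kernel part of the regular two-group

If `x` is the only bad involution centralizing `x` and fixing `p` and `q₀`, the transfer of the group of
`x` to its regular two-group shows that only `1` and `x` lie in the kernel part, and the quotient by it
carries the square form.
-/

set_option autoImplicit false
set_option linter.style.haveILetI false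
set_option linter.unusedSectionVars false

namespace CfsgLib.SECrit

open CfsgLib.Invol Subgroup

universe u

variable {G : Type u} [Group G] [Finite G] {M : Subgroup G} {z : G} {x : G} {p q₀ : G ⧸ M}
  {T : Subgroup G}

variable (h : Setup M z) (hl : Local M z x) (hx : IsBad M x)
include h hl hx

/-- A member of the line fixing a second point is `1`. -/
theorem Setup.line_eq_one {e : G} (he : e ∈ lineGrp z x p) {b : G ⧸ M} (hb : b ≠ p) (heb : e • b = b) :
    e = 1 := by
  rcases (h.mem_lineGrp hl).1 he with e1 | ⟨hez, hep, -⟩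
  · exact e1
  · exact absurd (h.crit.fix_unique hez heb hep) hb

/-- The line is elementary. -/
theorem Setup.line_sq {e : G} (he : e ∈ lineGrp z x p) : e * e = 1 :=
  ((h.mem_lineGrp hl).1 he).elim (fun e1 => by rw [e1, one_mul])
    fun hh => invol_mul_self (h.crit.orderOf_conj hh.1)

variable (hxp : x • p = p) (hq₀ : q₀ ≠ p) (hxq₀ : x • q₀ = q₀) (hd : RegData M z x p T)
  (hklein : ∀ y : G, y * y = 1 → y ∈ twoPt x p q₀ → y = 1 ∨ y = x)
include hxp hq₀ hxq₀ hd hklein

/-- A commutator of `T` lies in the line or in `x` times it. -/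
theorem Setup.comm_mem_line {a b : G} (ha : a ∈ T) (hb : b ∈ T) :
    a * b * a⁻¹ * b⁻¹ ∈ lineGrp z x p ∨ x * (a * b * a⁻¹ * b⁻¹) ∈ lineGrp z x p := by
  set E := lineGrp z x p with hE
  have hTL : ∀ g ∈ T, g ∈ locGroup z x := fun g hg => ((hd.mem g).1 hg).1
  have hinv : ∀ e ∈ E, e⁻¹ = e := fun e he => inv_eq_of_mul_eq_one_right (h.line_sq hl hx he)
  let Z : Subgroup G :=
    { carrier := {c | c ∈ T ∧ ∃ e ∈ E, e * c ∈ locKer M z x}
      one_mem' := ⟨one_mem _, 1, one_mem _, by rw [one_mul]; exact one_mem _⟩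
      mul_mem' := by
        rintro c d ⟨hc, e, he, hec⟩ ⟨hdT, f, hf, hfd⟩
        refine ⟨mul_mem hc hdT, e * f, mul_mem he hf, ?_⟩
        rw [(hd.comm f hf c hc).mul_mul_mul_comm]
        exact mul_mem hec hfd
      inv_mem' := by
        rintro c ⟨hc, e, he, hec⟩
        refine ⟨inv_mem hc, e, he, ?_⟩
        rw [(hd.comm e he _ (inv_mem hc)).eq]
        nth_rw 1 [← hinv e he]
        rw [← mul_inv_rev]
        exact inv_mem hec }
  have hsqZ : ∀ c ∈ T, c * c ∈ Z := fun c hc => ⟨mul_mem hc hc, hd.sq c hc⟩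
  have hcen : ∀ c ∈ Z, ∀ t ∈ T, Commute c t := by
    rintro c ⟨hc, e, he, hec⟩ t ht
    have h1 := (hd.comm e he t ht).inv_left.mul_left (hl.ker_comm _ hec t (hTL t ht))
    rwa [inv_mul_cancel_left] at h1
  set c := a * b * a⁻¹ * b⁻¹ with hc
  have hcT : c ∈ T := mul_mem (mul_mem (mul_mem ha hb) (inv_mem ha)) (inv_mem hb)
  have hcZ : c ∈ Z := by
    rw [hc, show a * b * a⁻¹ * b⁻¹ = a * a * (a⁻¹ * b * (a⁻¹ * b)) * (b * b)⁻¹ by group]
    exact mul_mem (mul_mem (hsqZ a ha) (hsqZ _ (mul_mem (inv_mem ha) hb))) (inv_mem (hsqZ b hb))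
  obtain ⟨-, e, he, hec⟩ := hcZ
  have hcb : a * b * a⁻¹ = c * b := by rw [hc, inv_mul_cancel_right]
  have hcb' : Commute c b := hcen c ⟨hcT, e, he, hec⟩ b hb
  have hc2 : c * c = 1 := by
    have h1 : a * (b * b) * a⁻¹ = c * c * (b * b) := by
      rw [show a * (b * b) * a⁻¹ = a * b * a⁻¹ * (a * b * a⁻¹) by group, hcb, hcb'.symm.mul_mul_mul_comm]
    rwa [← (hcen _ (hsqZ b hb) a ha).eq, mul_inv_cancel_right, eq_comm, mul_eq_right] at h1
  have hκ : e * c * (e * c) = 1 := by
    rw [(hd.comm e he c hcT).symm.mul_mul_mul_comm, h.line_sq hl hx he, hc2, one_mul]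
  rcases hklein _ hκ ⟨⟨mem_centralizer_singleton_iff.2 (hd.commute (mul_mem (hd.line_le he) hcT)).eq.symm,
      MulAction.mem_stabilizer_iff.2 ((mem_locKer.1 hec).2 p hxp)⟩,
      MulAction.mem_stabilizer_iff.2 ((mem_locKer.1 hec).2 q₀ hxq₀)⟩ with e1 | e1
  · exact Or.inl (by rw [eq_inv_of_mul_eq_one_right e1]; exact inv_mem he)
  · refine Or.inr ?_
    rw [show c = e * x by rw [← e1, ← mul_assoc, h.line_sq hl hx he, one_mul],
      ← mul_assoc, (hd.commute (hd.line_le he)).eq, mul_assoc, invol_mul_self hx.1, mul_one]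
    exact he

/-- The regular two-group has odd index in the group of `x`. -/
theorem Setup.odd_index_regData (hfix : Odd (Nat.card {c : G ⧸ M // x • c = c})) :
    Odd (T.subgroupOf (locGroup z x)).index := by
  haveI : Fact (Nat.Prime 2) := ⟨Nat.prime_two⟩
  set L := locGroup z x with hL
  have hTL : T ≤ L := fun g hg => ((hd.mem g).1 hg).1
  obtain ⟨S, hS⟩ := (hd.two.of_equiv (subgroupOfEquivOfLe hTL).symm).exists_le_sylow
  letI : MulAction (S : Subgroup L) {c : G ⧸ M // x • c = c} :=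
    { smul := fun g c => ⟨((g : L) : G) • c.1, smul_mem_fix (commute_of_mem_locGroup (g : L).2) c.2⟩
      one_smul := fun c => Subtype.ext (one_smul G c.1)
      mul_smul := fun g g' c => Subtype.ext (mul_smul ((g : L) : G) ((g' : L) : G) c.1) }
  obtain ⟨⟨a, hxa⟩, ha⟩ := S.2.nonempty_fixed_point_of_prime_not_dvd_card {c : G ⧸ M // x • c = c}
    fun hh => Nat.not_even_iff_odd.2 hfix (even_iff_two_dvd.2 hh)
  obtain ⟨g, hg, hga⟩ := h.exists_loc_smul hx.1 hxp hxa
  have hle : Nat.card (S : Subgroup L) ≤ Nat.card (T.subgroupOf L) := by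
    refine Nat.card_le_card_of_injective (fun s => ⟨(⟨g, hg⟩ : L)⁻¹ * s * ⟨g, hg⟩, (hd.mem _).2 ⟨?_, ?_, ?_⟩⟩) ?_
    · exact ((⟨g, hg⟩ : L)⁻¹ * s * ⟨g, hg⟩).2
    · show (g⁻¹ * ((s : L) : G) * g) • p = p
      rw [mul_smul, mul_smul, hga, show ((s : L) : G) • a = a from congrArg Subtype.val (ha s), ← hga,
        inv_smul_smul]
    · obtain ⟨k, hk⟩ := S.2 s
      refine ⟨k, ?_⟩
      show (g⁻¹ * ((s : L) : G) * g) ^ 2 ^ k = 1
      have hk' : ((s : L) : G) ^ 2 ^ k = 1 := congrArg (fun t : (S : Subgroup L) => ((t : L) : G)) hk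
      have hc := conj_pow (i := 2 ^ k) (a := g⁻¹) (b := ((s : L) : G))
      rw [inv_inv] at hc
      rw [hc, hk', mul_one, inv_mul_cancel]
    · intro s s' e
      exact Subtype.ext (mul_left_cancel (mul_right_cancel (congrArg (fun t : T.subgroupOf L => (t : L)) e)))
  rw [eq_of_le_of_card_ge hS hle, ← Nat.not_even_iff_odd, even_iff_two_dvd]
  exact S.not_dvd_index

/-- **The kernel part is `⟨x⟩` at most.** -/
theorem Setup.kernel_two (hfix : Odd (Nat.card {c : G ⧸ M // x • c = c})) {k : G} (hkT : k ∈ T)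
    (hkK : k ∈ locKer M z x) : k = 1 ∨ k = x := by
  classical
  set L := locGroup z x with hL
  set E := lineGrp z x p with hE
  set TL := T.subgroupOf L with hTL
  have hxx := invol_mul_self hx.1
  have hxE : ∀ e ∈ E, Commute x e := fun e he => hd.commute (hd.line_le he)
  let N : Subgroup TL :=
    { carrier := {t | ((t : L) : G) ∈ E ∨ x * ((t : L) : G) ∈ E}
      one_mem' := Or.inl (one_mem _)
      mul_mem' := by
        intro a b ha hb
        show ((a : L) : G) * ((b : L) : G) ∈ E ∨ x * (((a : L) : G) * ((b : L) : G)) ∈ E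
        rcases ha with ha | ha <;> rcases hb with hb | hb
        · exact Or.inl (mul_mem ha hb)
        · exact Or.inr (by rw [← mul_assoc, (hxE _ ha).eq, mul_assoc]; exact mul_mem ha hb)
        · exact Or.inr (by rw [← mul_assoc]; exact mul_mem ha hb)
        · refine Or.inl ?_
          have hxa : Commute x ((a : L) : G) := hd.commute a.2
          have e1 : ((a : L) : G) * ((b : L) : G) = x * ((a : L) : G) * (x * ((b : L) : G)) := by
            rw [hxa.symm.mul_mul_mul_comm, hxx, one_mul]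
          rw [e1]; exact mul_mem ha hb
      inv_mem' := by
        intro a ha
        show ((a : L) : G)⁻¹ ∈ E ∨ x * ((a : L) : G)⁻¹ ∈ E
        rcases ha with ha | ha
        · exact Or.inl (inv_mem ha)
        · refine Or.inr ?_
          have hxa : Commute x ((a : L) : G) := hd.commute a.2
          have e1 : x * ((a : L) : G)⁻¹ = (x * ((a : L) : G))⁻¹ := by
            rw [mul_inv_rev, invol_inv hx.1, hxa.inv_right.eq]
          rw [e1]; exact inv_mem ha }
  haveI : N.Normal := ⟨fun n hn t => by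
    have hnt : Commute ((n : L) : G) ((t : L) : G) := by
      rcases hn with hn | hn
      · exact hd.comm _ hn _ t.2
      · have h1 := (hd.commute t.2).mul_left (hd.comm _ hn _ t.2)
        rwa [← mul_assoc, hxx, one_mul] at h1
    rwa [show t * n * t⁻¹ = n from Subtype.ext (Subtype.ext (show ((t : L) : G) * ((n : L) : G) *
      ((t : L) : G)⁻¹ = ((n : L) : G) by rw [← hnt.eq, mul_inv_cancel_right]))]⟩
  letI : CommGroup (TL ⧸ N) :=
    { (inferInstance : Group (TL ⧸ N)) with
      mul_comm := fun a b => by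
        refine QuotientGroup.induction_on a fun a => QuotientGroup.induction_on b fun b => ?_
        rw [← QuotientGroup.mk_mul, ← QuotientGroup.mk_mul, QuotientGroup.eq]
        show (((a : L) : G) * (b : L))⁻¹ * (((b : L) : G) * (a : L)) ∈ E ∨ x * ((((a : L) : G) * (b : L))⁻¹ * (((b : L) : G) * (a : L))) ∈ E
        rw [show (((a : L) : G) * (b : L))⁻¹ * (((b : L) : G) * (a : L)) =
          ((b : L) : G)⁻¹ * ((a : L) : G)⁻¹ * ((b : L) : G)⁻¹⁻¹ * ((a : L) : G)⁻¹⁻¹ by group]
        exact h.comm_mem_line hl hx hxp hq₀ hxq₀ hd hklein (inv_mem b.2) (inv_mem a.2) }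
  let φ : TL →* TL ⧸ N := QuotientGroup.mk' N
  haveI : TL.FiniteIndex := ⟨index_ne_zero_of_finite⟩
  have hgen : ∀ d : L, IsConj z (d : G) → MonoidHom.transfer φ d = 1 := by
    intro d hdz
    have hd2 : d ^ 2 = 1 := Subtype.ext (by
      rw [SubmonoidClass.coe_pow, pow_two, invol_mul_self (h.crit.orderOf_conj hdz), OneMemClass.coe_one])
    letI := Fintype.ofFinite (Quotient (MulAction.orbitRel (zpowers d) (L ⧸ TL)))
    rw [MonoidHom.transfer_eq_prod_quotient_orbitRel_zpowers_quot]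
    refine Finset.prod_eq_one fun q _ => (QuotientGroup.eq_one_iff _).2 ?_
    set g := q.out.out with hg
    set m := Function.minimalPeriod (d • ·) q.out with hm
    have hmem : g⁻¹ * d ^ m * g ∈ TL := QuotientGroup.out_conj_pow_minimalPeriod_mem TL d q.out
    show ((g⁻¹ * d ^ m * g : L) : G) ∈ E ∨ _
    rcases Nat.even_or_odd' m with ⟨i, hi | hi⟩
    · exact Or.inl (by rw [hi, pow_mul, hd2, one_pow, mul_one, inv_mul_cancel]; exact one_mem E)
    · rw [hi, pow_succ, pow_mul, hd2, one_pow, one_mul] at hmem ⊢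
      refine Or.inl ((h.mem_lineGrp hl).2 (Or.inr ⟨hdz.trans (isConj_iff.2 ⟨(g : G)⁻¹, by simp⟩),
        ((hd.mem _).1 hmem).2.1, hd.commute hmem⟩))
  have htop : ∀ g : L, MonoidHom.transfer φ g = 1 := fun g => by
    refine MonoidHom.mem_ker.1 (?_ : g ∈ (MonoidHom.transfer φ).ker)
    have h0 : closure (((↑) : L → G) ⁻¹' {d : G | IsConj z d ∧ Commute x d}) = ⊤ :=
      closure_closure_coe_preimage
    have hle : closure (((↑) : L → G) ⁻¹' {d : G | IsConj z d ∧ Commute x d}) ≤
        (MonoidHom.transfer φ).ker :=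
      (closure_le _).2 fun d hd' => MonoidHom.mem_ker.2 (hgen d hd'.1)
    exact hle (h0 ▸ mem_top g)
  have hkL : k ∈ L := ((hd.mem k).1 hkT).1
  have key : ∀ (n : ℕ) (g₀ : L), g₀⁻¹ * (⟨k, hkL⟩ : L) ^ n * g₀ ∈ TL →
      g₀⁻¹ * (⟨k, hkL⟩ : L) ^ n * g₀ = (⟨k, hkL⟩ : L) ^ n := fun n g₀ _ => Subtype.ext (by
    show (g₀ : G)⁻¹ * k ^ n * (g₀ : G) = k ^ n
    rw [mul_assoc, ((hl.ker_comm k hkK g₀ g₀.2).pow_left n).eq, inv_mul_cancel_left])
  have h1 := htop ⟨k, hkL⟩
  rw [MonoidHom.transfer_eq_pow φ _ key] at h1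
  have h2 : k ^ TL.index ∈ E ∨ x * k ^ TL.index ∈ E := (QuotientGroup.eq_one_iff _).1 h1
  obtain ⟨-, -, j, hj⟩ := (hd.mem k).1 hkT
  obtain ⟨c, -, hc⟩ := Nat.exists_mul_mod_eq_one_of_coprime (n := TL.index) (k := 2 ^ (j + 1))
    ((Nat.coprime_two_right.2 (h.odd_index_regData hl hx hxp hq₀ hxq₀ hd hklein hfix)).pow_right _)
    (Nat.one_lt_two_pow (Nat.succ_ne_zero j))
  have hkc : (k ^ TL.index) ^ c = k := by
    rw [← pow_mul, ← Nat.div_add_mod (TL.index * c) (2 ^ (j + 1)), hc, pow_succ, pow_mul, pow_succ,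
      pow_mul, hj]
    simp
  have h3 : k ∈ E ∨ x * k ∈ E := by
    have hmemN : (⟨⟨k, hkL⟩, hkT⟩ : TL) ^ TL.index ∈ N := h2
    have h4 := N.pow_mem hmemN c
    rwa [← pow_mul, show (⟨⟨k, hkL⟩, hkT⟩ : TL) ^ (TL.index * c) = ⟨⟨k, hkL⟩, hkT⟩ from
      Subtype.ext (Subtype.ext (by rw [pow_mul]; exact hkc))] at h4
  rcases h3 with h4 | h4
  · exact Or.inl (h.line_eq_one hl hx h4 hq₀ ((mem_locKer.1 hkK).2 q₀ hxq₀))
  · refine Or.inr ?_
    have h5 := h.line_eq_one hl hx h4 hq₀ (by rw [mul_smul, (mem_locKer.1 hkK).2 q₀ hxq₀, hxq₀])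
    rw [eq_inv_of_mul_eq_one_right h5, invol_inv hx.1]

omit hklein in
/-- The kernel part is normal in the regular two-group. -/
theorem Setup.normal_kerPart : ((locKer M z x).subgroupOf T).Normal :=
  ⟨fun n hn t => by
    rwa [show t * n * t⁻¹ = n from Subtype.ext (show (t : G) * n * (t : G)⁻¹ = n by
      rw [← (hl.ker_comm n hn t ((hd.mem t).1 t.2).1).eq, mul_inv_cancel_right])]⟩

omit hklein in
/-- **The quotient by the kernel part carries the square form.** -/
theorem Setup.sqForm_quot {β : ℕ} (hβ : Nat.card (CAt z ({x} : Set G) p) + 1 = 2 ^ β) (hβ2 : 2 ≤ β)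
    [((locKer M z x).subgroupOf T).Normal] :
    Shape.SqForm (((lineGrp z x p).subgroupOf T).map (QuotientGroup.mk' ((locKer M z x).subgroupOf T))) ∧
      Nat.card (((lineGrp z x p).subgroupOf T).map (QuotientGroup.mk' ((locKer M z x).subgroupOf T))) =
        2 ^ β := by
  classical
  set K' := (locKer M z x).subgroupOf T with hK'
  set π := QuotientGroup.mk' K' with hπ
  set E' := (lineGrp z x p).subgroupOf T with hE'
  have heq : ∀ (e v : T), (e : G) ∈ lineGrp z x p → (π v = π e ↔ (e : G) * v ∈ locKer M z x) := by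
    intro e v he
    rw [hπ, QuotientGroup.mk'_apply, QuotientGroup.mk'_apply, eq_comm, QuotientGroup.eq, mem_subgroupOf]
    show (e : G)⁻¹ * v ∈ _ ↔ _
    rw [inv_eq_of_mul_eq_one_right (h.line_sq hl hx he)]
  have hinj : Function.Injective (π.comp E'.subtype) := by
    refine (injective_iff_map_eq_one _).2 fun e he => ?_
    have h1 := (QuotientGroup.eq_one_iff _).1 he
    exact Subtype.ext (Subtype.ext (h.line_eq_one hl hx e.2 hq₀ ((mem_locKer.1 h1).2 q₀ hxq₀)))
  have hcard : Nat.card (E'.map π) = 2 ^ β := by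
    calc Nat.card (E'.map π) = Nat.card (π.comp E'.subtype).range := by
          rw [MonoidHom.range_comp, range_subtype]
      _ = Nat.card E' := (Nat.card_congr (MonoidHom.ofInjective hinj).toEquiv).symm
      _ = _ := by rw [hE', Nat.card_congr (subgroupOfEquivOfLe hd.line_le).toEquiv, h.card_lineGrp hl, hβ]
  have hfour : 4 ≤ 2 ^ β := le_trans (by norm_num) (Nat.pow_le_pow_right (n := 2) (by norm_num) hβ2)
  refine ⟨⟨hcard ▸ hfour, ?_, ?_, ?_, ?_, ?_, ?_⟩, hcard⟩
  · rintro _ ⟨e, he, rfl⟩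
    refine mem_center_iff.2 fun g => ?_
    obtain ⟨t, rfl⟩ := QuotientGroup.mk'_surjective K' g
    rw [← map_mul, ← map_mul]
    exact congrArg π (Subtype.ext (hd.comm _ he _ t.2).eq.symm)
  · rintro _ ⟨e, he, rfl⟩
    rw [← map_mul, show e * e = 1 from Subtype.ext (h.line_sq hl hx he), map_one]
  · intro w
    obtain ⟨t, rfl⟩ := QuotientGroup.mk'_surjective K' w
    obtain ⟨e, he, hek⟩ := hd.sq t t.2
    exact ⟨⟨e, hd.line_le he⟩, he, by rw [← map_mul]; exact ((heq _ _ he).2 hek).symm⟩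
  · intro w hw
    obtain ⟨t, rfl⟩ := QuotientGroup.mk'_surjective K' w
    rw [← map_mul] at hw
    obtain ⟨e, he, hek⟩ := hd.invol t t.2 ((QuotientGroup.eq_one_iff (N := K') (t * t)).1 hw)
    exact ⟨⟨e, hd.line_le he⟩, he, ((heq _ _ he).2 hek).symm⟩
  · rintro _ ⟨e, he, rfl⟩ _ ⟨f, hf, rfl⟩ he1 hf1
    have hcnt : ∀ e : T, (e : G) ∈ lineGrp z x p →
        Nat.card {v : T // (e : G) * ((v : G) * v) ∈ locKer M z x} =
          Nat.card K' * Nat.card {w : T ⧸ K' // w * w = π e} := fun e he => by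
      rw [← Nat.card_prod]
      refine Nat.card_congr ((Equiv.subtypeEquivRight fun v => ?_).trans
        (QuotientGroup.preimageMkEquivSubgroupProdSet K' {w | w * w = π e}))
      exact (heq e (v * v) he).symm.trans (by rw [map_mul]; rfl)
    have h1 := hd.equal _ he _ hf (fun e1 => he1 (by rw [show e = 1 from Subtype.ext e1, map_one]))
      fun e1 => hf1 (by rw [show f = 1 from Subtype.ext e1, map_one])
    rw [coe_subtype] at h1
    rw [hcnt e he, hcnt f hf] at h1
    exact Nat.eq_of_mul_eq_mul_left Nat.card_pos h1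
  · have h1 := card_eq_card_quotient_mul_card_subgroup K'
    have h2 : Nat.card K' = Nat.card (T ⊓ locKer M z x : Subgroup G) :=
      Nat.card_congr ⟨fun t => ⟨t.1.1, t.1.2, t.2⟩, fun t => ⟨⟨t.1, t.2.1⟩, t.2.2⟩, fun _ => rfl, fun _ => rfl⟩
    rw [hd.card_eq, h.card_lineGrp hl, hβ, ← h2] at h1
    rw [hcard]
    exact (Nat.eq_of_mul_eq_mul_right Nat.card_pos h1).symm

end CfsgLib.SECrit
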