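import Cfsg.Agent.Lib.Invol.SECriterion.Shape.SquareForm
import Mathlib.GroupTheory.Sylow
import Mathlib.GroupTheory.QuotientGroup.Basic

/-!
# An automorphism of order two of the regular group with the line as its fixed points

If `σ` centralizes `E` and fixes exactly `q` elements, the elements moved inside their coset of `E` form
a group of order `q ^ 2`, all of them commutators with `σ` modulo `E`; hence `v σ(v) = e` forces `e = 1`.
-/

set_option autoImplicit false
set_option linter.style.haveILetI false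

namespace CfsgLib.SECrit.Shape

universe u

variable {Q : Type u} [Group Q] [Finite Q] {E : Subgroup Q} (h : SqForm E)
include h

/-- A subgroup of index two of `E` containing a given involution. -/
theorem SqForm.exists_index_two {e : E} (he : e ≠ 1) : ∃ L : Subgroup E, L.index = 2 ∧ e ∈ L := by
  haveI : Fact (Nat.Prime 2) := ⟨Nat.prime_two⟩
  have hp : IsPGroup 2 E := fun g => ⟨1, Subtype.ext (by
    rw [SubmonoidClass.coe_pow, pow_one, pow_two, h.elem _ g.2, OneMemClass.coe_one])⟩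
  obtain ⟨n, hn⟩ := hp.exists_card_eq
  obtain ⟨m, rfl⟩ : ∃ m, n = m + 2 := by
    refine ⟨n - 2, (Nat.sub_add_cancel ?_).symm⟩
    by_contra hlt
    have h4 := h.four_le
    rw [hn] at h4
    interval_cases n <;> simp_all
  have hz : Nat.card (Subgroup.zpowers e) = 2 ^ 1 := by
    rw [Nat.card_zpowers, pow_one]
    exact orderOf_eq_prime (Subtype.ext (by rw [SubmonoidClass.coe_pow, pow_two, h.elem _ e.2]; rfl)) he
  obtain ⟨L, hL, hle⟩ := Sylow.exists_subgroup_card_pow_prime_le 2 (m := m + 1) (G := E)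
    (by rw [hn]; exact Nat.pow_dvd_pow 2 (by omega)) (Subgroup.zpowers e) hz (by omega)
  refine ⟨L, ?_, hle (Subgroup.mem_zpowers e)⟩
  have h1 := L.index_mul_card
  rw [hL, hn, show (2 : ℕ) ^ (m + 2) = 2 * 2 ^ (m + 1) by ring] at h1
  exact Nat.eq_of_mul_eq_mul_right (Nat.two_pow_pos _) h1

variable (σ : Q ≃* Q) (hσσ : ∀ v, σ (σ v) = v) (hσE : ∀ e ∈ E, σ e = e)
include hσσ hσE

omit hσσ in
/-- The elements moved inside their coset of `E`. -/
theorem SqForm.exists_moved :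
    ∃ W : Subgroup Q, (∀ w : Q, w ∈ W ↔ w⁻¹ * σ w ∈ E) ∧
      ∃ δ : W →* E, ∀ w : W, (δ w : Q) = (w : Q)⁻¹ * σ w := by
  let W : Subgroup Q :=
    { carrier := {w | w⁻¹ * σ w ∈ E}
      one_mem' := by simp
      mul_mem' := fun {a b} ha hb => by
        show (a * b)⁻¹ * σ (a * b) ∈ E
        rw [map_mul, show (a * b)⁻¹ * (σ a * σ b) = b⁻¹ * (a⁻¹ * σ a) * σ b by group, h.comm_E ha b⁻¹,
          mul_assoc]
        exact mul_mem ha hb
      inv_mem' := fun {a} ha => by
        show a⁻¹⁻¹ * σ a⁻¹ ∈ E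
        rw [inv_inv, map_inv, show a * (σ a)⁻¹ = a * (a⁻¹ * σ a)⁻¹ * a⁻¹ by group,
          h.comm_E (inv_mem ha) a, mul_inv_cancel_right]
        exact inv_mem ha }
  refine ⟨W, fun w => Iff.rfl, { toFun := fun w => ⟨(w : Q)⁻¹ * σ w, w.2⟩, map_one' := ?_, map_mul' := ?_ },
    fun w => rfl⟩
  · exact Subtype.ext (by simp)
  · rintro ⟨a, ha⟩ ⟨b, hb⟩
    refine Subtype.ext ?_
    show (a * b)⁻¹ * σ (a * b) = a⁻¹ * σ a * (b⁻¹ * σ b)
    rw [map_mul, show (a * b)⁻¹ * (σ a * σ b) = b⁻¹ * (a⁻¹ * σ a) * σ b by group, h.comm_E ha b⁻¹,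
      mul_assoc]

variable (hfix : Nat.card {w : Q // σ w = w} = Nat.card E)
include hfix

omit hσσ in
/-- At most `q ^ 2` elements are moved inside their coset. -/
theorem SqForm.card_moved_le : Nat.card {w : Q // w⁻¹ * σ w ∈ E} ≤ Nat.card E ^ 2 := by
  obtain ⟨W, hW, δ, hδ⟩ := h.exists_moved σ hσE
  have hker : Nat.card δ.ker = Nat.card E := by
    rw [← hfix]
    refine Nat.card_congr ⟨fun w => ⟨w.1.1, ?_⟩, fun w => ⟨⟨w.1, (hW _).2 ?_⟩, ?_⟩, fun _ => rfl, fun _ => rfl⟩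
    · have h1 : (w.1 : Q)⁻¹ * σ w.1 = 1 := by rw [← hδ, MonoidHom.mem_ker.1 w.2]; rfl
      exact (inv_mul_eq_one.1 h1).symm
    · rw [w.2, inv_mul_cancel]; exact one_mem E
    · rw [MonoidHom.mem_ker]
      refine Subtype.ext ?_
      rw [hδ]
      show w.1⁻¹ * σ w.1 = 1
      rw [w.2, inv_mul_cancel]
  rw [Nat.card_congr (Equiv.subtypeEquivRight fun w => (hW w).symm)]
  show Nat.card W ≤ _
  rw [← δ.ker.index_mul_card, Subgroup.index_ker, hker, pow_two]
  exact Nat.mul_le_mul_right _ (Nat.card_le_card_of_injective _ Subtype.val_injective)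

/-- **No non-trivial `v σ(v)` in the line.** -/
theorem SqForm.twist_false {v e : Q} (he : e ∈ E) (hv : v * σ v = e) : e = 1 := by
  obtain ⟨W, hW, -, -⟩ := h.exists_moved σ hσE
  haveI hEn : E.Normal := ⟨fun a ha g => by rwa [h.comm_E ha g, mul_inv_cancel_right]⟩
  have hEW : E ≤ W := fun a ha => (hW a).2 (by rw [hσE a ha, inv_mul_cancel]; exact one_mem E)
  have hF : ∀ u : Q, u⁻¹ * σ u ∈ W := fun u => (hW _).2 (by
    rw [map_mul, map_inv, hσσ, mul_inv_rev, inv_inv]
    exact h.sq ((σ u)⁻¹ * u))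
  -- the commutator map modulo `E`
  let φ : Q →* Q ⧸ E :=
    { toFun := fun u => ((u⁻¹ * σ u : Q) : Q ⧸ E)
      map_one' := by simp
      map_mul' := fun a b => by
        rw [← QuotientGroup.mk_mul, QuotientGroup.eq]
        have h1 := h.br_mem b⁻¹ (a⁻¹ * σ a)
        have h2 : (a * b)⁻¹ * σ (a * b) = (b⁻¹ * (a⁻¹ * σ a) * b⁻¹⁻¹ * (a⁻¹ * σ a)⁻¹) * (a⁻¹ * σ a * (b⁻¹ * σ b)) := by
          rw [map_mul]; group
        rw [h2, mul_inv_rev, mul_assoc, ← h.comm_E (inv_mem h1), inv_mul_cancel_left]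
        exact inv_mem h1 }
  have hφker : φ.ker = W := by
    ext u
    rw [MonoidHom.mem_ker, hW]
    exact QuotientGroup.eq_one_iff _
  have hrange : φ.range ≤ W.map (QuotientGroup.mk' E) := by
    rintro _ ⟨u, rfl⟩
    exact ⟨_, hF u, rfl⟩
  have hWE : Nat.card (W.map (QuotientGroup.mk' E)) * Nat.card E = Nat.card W := by
    rw [← (E.subgroupOf W).index_mul_card, Nat.card_congr (Subgroup.subgroupOfEquivOfLe hEW).toEquiv]
    congr 1
    rw [show E.subgroupOf W = ((QuotientGroup.mk' E).comp W.subtype).ker by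
        rw [← MonoidHom.comap_ker, QuotientGroup.ker_mk']; rfl,
      Subgroup.index_ker, MonoidHom.range_comp, Subgroup.range_subtype]
  have hQ : Nat.card φ.range * Nat.card W = Nat.card E ^ 3 := by
    rw [← h.card_eq, ← φ.ker.index_mul_card, Subgroup.index_ker, hφker]
  have hWle : Nat.card W ≤ Nat.card E ^ 2 :=
    (Nat.card_congr (Equiv.subtypeEquivRight fun w => hW w)).trans_le (h.card_moved_le σ hσE hfix)
  have hrle := Subgroup.card_le_of_le hrange
  have hq := h.four_le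
  have heq : φ.range = W.map (QuotientGroup.mk' E) := by
    refine Subgroup.eq_of_le_of_card_ge hrange ?_
    refine Nat.le_of_mul_le_mul_right ?_ (show 0 < Nat.card W from Nat.card_pos)
    rw [hQ]
    calc Nat.card (W.map (QuotientGroup.mk' E)) * Nat.card W
        ≤ Nat.card (W.map (QuotientGroup.mk' E)) * Nat.card E ^ 2 := Nat.mul_le_mul_left _ hWle
      _ = Nat.card W * Nat.card E := by rw [← hWE]; ring
      _ ≤ Nat.card E ^ 2 * Nat.card E := Nat.mul_le_mul_right _ hWle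
      _ = _ := by ring
  have hvW : v ∈ W := (hW v).2 (by
    rw [show σ v = v⁻¹ * e by rw [← hv, inv_mul_cancel_left], ← mul_assoc, ← mul_inv_rev]
    exact mul_mem (inv_mem (h.sq v)) he)
  obtain ⟨u, hu⟩ : (v : Q ⧸ E) ∈ φ.range := heq ▸ ⟨v, hvW, rfl⟩
  have hd : (u⁻¹ * σ u)⁻¹ * v ∈ E := (QuotientGroup.eq).1 hu
  set d := (u⁻¹ * σ u)⁻¹ * v with hdd
  have hvd : v = u⁻¹ * σ u * d := by rw [hdd, mul_inv_cancel_left]
  rw [← hv, hvd, map_mul, map_mul, map_inv, hσσ, hσE d hd]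
  calc u⁻¹ * σ u * d * ((σ u)⁻¹ * u * d) = u⁻¹ * σ u * (d * ((σ u)⁻¹ * u)) * d := by group
    _ = u⁻¹ * σ u * ((σ u)⁻¹ * u) * (d * d) := by rw [← h.comm_E hd]; group
    _ = 1 := by rw [h.elem d hd]; group

end CfsgLib.SECrit.Shape
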