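import Cfsg.Agent.Lib.Invol.SECriterion.Shape.KernelCount
import Cfsg.Agent.Lib.Invol.SECriterion.Shape.KernelKlein
import Cfsg.Agent.Lib.Invol.SECriterion.Shape.KernelQuot
import Cfsg.Agent.Lib.Invol.SECriterion.Shape.Twist

/-!
# The strong embedding criterion: only `x` centralizes `x` and fixes two points

In the small type with `q ^ 3 + 1` fixed points a two-element centralizing `x` and fixing two of its fixed
points is `1` or `x`.  Otherwise some `r` has square `x`; it is translated to a square root of `e x`,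
written as `v s` with `v` in the regular group and `s` fixing two points.  If `s` moves fixed points then
`v σ(v) = e` is impossible; if not, `v` is almost central, or too much of the regular group fixes a point.
-/

set_option autoImplicit false
set_option linter.unusedSectionVars false
set_option linter.style.haveILetI false

namespace CfsgLib.SECrit

open CfsgLib.Invol Subgroup

universe u

variable {G : Type u} [Group G] [Finite G] {M : Subgroup G} {z : G}

/-- Conjugation on the quotient by the kernel part. -/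
theorem RegData.exists_bar_aut {x : G} {p : G ⧸ M} {T : Subgroup G} (hd : RegData M z x p T)
    [((locKer M z x).subgroupOf T).Normal] {s : G} (hxs : Commute x s) (hsp : s • p = p) :
    ∃ σ : T ⧸ (locKer M z x).subgroupOf T ≃* T ⧸ (locKer M z x).subgroupOf T,
      ∀ t : T, σ (QuotientGroup.mk' _ t) = QuotientGroup.mk' _ ⟨s * t * s⁻¹, hd.conj hxs hsp t.2⟩ := by
  have hsp' : s⁻¹ • p = p := inv_smul_eq_iff.2 hsp.symm
  let c : T ≃* T :=
    { toFun := fun t => ⟨s * t * s⁻¹, hd.conj hxs hsp t.2⟩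
      invFun := fun t => ⟨s⁻¹ * t * s, by
        have h1 := hd.conj hxs.inv_right hsp' t.2
        rwa [inv_inv] at h1⟩
      left_inv := fun t => Subtype.ext (by group)
      right_inv := fun t => Subtype.ext (by group)
      map_mul' := fun a b => Subtype.ext (by
        show s * ((a : G) * b) * s⁻¹ = s * a * s⁻¹ * (s * b * s⁻¹)
        group) }
  have key : ∀ (g : G), Commute x g → g • p = p → ∀ t : T, (t : G) ∈ locKer M z x →
      g * t * g⁻¹ ∈ locKer M z x := fun g hxg hgp t ht =>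
    mem_locKer.2 ⟨((hd.mem _).1 (hd.conj hxg hgp t.2)).1, fun a ha => by
      rw [mul_smul, mul_smul, (mem_locKer.1 ht).2 _ (smul_mem_fix hxg.inv_right ha), smul_inv_smul]⟩
  refine ⟨QuotientGroup.congr _ _ c (le_antisymm ?_ fun t ht => ?_), fun t => rfl⟩
  · rintro _ ⟨t, ht, rfl⟩
    exact key s hxs hsp t ht
  · refine ⟨c.symm t, ?_, c.apply_symm_apply t⟩
    show s⁻¹ * (t : G) * s ∈ locKer M z x
    have h1 := key s⁻¹ hxs.inv_right hsp' t ht
    rwa [inv_inv] at h1

/-- The regular group modulo its kernel part is the set of further fixed points. -/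
theorem RegData.exists_bar_equiv {x : G} {p : G ⧸ M} {T : Subgroup G} (hd : RegData M z x p T)
    [((locKer M z x).subgroupOf T).Normal] {c : G ⧸ M} (hc : c ≠ p) (hxc : x • c = c) :
    ∃ f : T ⧸ (locKer M z x).subgroupOf T ≃ {t : G ⧸ M // x • t = t ∧ t ≠ p},
      ∀ t : T, (f (QuotientGroup.mk' _ t)).1 = (t : G) • c := by
  have hne : ∀ t : T, x • ((t : G) • c) = (t : G) • c ∧ (t : G) • c ≠ p := fun t =>
    ⟨smul_mem_fix (hd.commute t.2) hxc,
      fun e => hc (smul_left_cancel (t : G) (e.trans ((hd.mem t).1 t.2).2.1.symm))⟩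
  have hiff : ∀ a b : T, (a : G) • c = (b : G) • c ↔ ((a : G)⁻¹ * b) ∈ locKer M z x := fun a b =>
    ⟨fun e => hd.free _ (mul_mem (inv_mem a.2) b.2) c hxc hc (by rw [mul_smul, ← e, inv_smul_smul]),
      fun e => by
        have h1 := (mem_locKer.1 e).2 c hxc
        rw [mul_smul, inv_smul_eq_iff] at h1
        exact h1.symm⟩
  let f : T ⧸ (locKer M z x).subgroupOf T → {t : G ⧸ M // x • t = t ∧ t ≠ p} :=
    fun w => Quotient.liftOn' w (fun t => ⟨(t : G) • c, hne t⟩) fun a b hab =>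
      Subtype.ext ((hiff a b).2 (mem_subgroupOf.1 (QuotientGroup.leftRel_apply.1 hab)))
  refine ⟨Equiv.ofBijective f ⟨?_, fun a => ?_⟩, fun t => rfl⟩
  · intro w w'
    induction w using QuotientGroup.induction_on with | _ a => ?_
    induction w' using QuotientGroup.induction_on with | _ b => ?_
    exact fun e => QuotientGroup.eq.2 ((hiff a b).1 (congrArg Subtype.val e))
  · obtain ⟨g, hg, hga⟩ := hd.trans c a.1 hxc a.2.1 hc a.2.2
    exact ⟨QuotientGroup.mk ⟨g, hg⟩, Subtype.ext hga⟩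

/-- A subgroup, counted along the quotient. -/
theorem card_eq_map_mul {Q : Type u} [Group Q] [Finite Q] (E X : Subgroup Q) [E.Normal] :
    Nat.card X = Nat.card (X.map (QuotientGroup.mk' E)) * Nat.card (E ⊓ X : Subgroup Q) := by
  rw [← (E.subgroupOf X).index_mul_card]
  congr 1
  · rw [show E.subgroupOf X = ((QuotientGroup.mk' E).comp X.subtype).ker by
        rw [← MonoidHom.comap_ker, QuotientGroup.ker_mk']; rfl,
      Subgroup.index_ker, MonoidHom.range_comp, Subgroup.range_subtype]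
  · exact Nat.card_congr ⟨fun t => ⟨t.1.1, t.2, t.1.2⟩, fun t => ⟨⟨t.1, t.2.2⟩, t.2.1⟩, fun _ => rfl, fun _ => rfl⟩

section Klein

variable (h : Setup M z) (hgen : normalClosure ({z} : Set G) = ⊤)
  (hloc : ∀ x : G, IsBad M x → Local M z x) {x : G} (hx : IsBad M x) {p : G ⧸ M} (hxp : x • p = p)
  (ha : 2 ≤ Nat.card (CAt z ({x} : Set G) p))
  {β : ℕ} (hβ : Nat.card (CAt z ({x} : Set G) p) + 1 = 2 ^ β) (hβ2 : 2 ≤ β)
  (hk : Nat.card {c : G ⧸ M // x • c = c} = 2 ^ (β * 3) + 1)
  {q₀ : G ⧸ M} (hq₀ : q₀ ≠ p) (hxq₀ : x • q₀ = q₀)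
  (hklein : ∀ c : G ⧸ M, c ≠ p → x • c = c → ∀ y : G, y * y = 1 → y ∈ twoPt x p c → y = 1 ∨ y = x)
include h hgen hloc hx hxp ha hβ hβ2 hk hq₀ hxq₀ hklein

/-- **No root**, the involutions fixing two points being `x` alone. -/
theorem Setup.root_false_of_klein {c : G ⧸ M} (hc : c ≠ p) (hxc : x • c = c) {r : G} (hrr : r * r = x)
    (hrp : r • p = p) (hrc : r • c = c) : False := by
  classical
  have hl := hloc x hx
  have hxx := invol_mul_self hx.1
  obtain ⟨T, hd⟩ := h.exists_regData hl hx hxp hβ hβ2 hk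
  have hklein0 : ∀ y : G, y * y = 1 → y ∈ twoPt x p q₀ → y = 1 ∨ y = x := fun y h1 h2 =>
    hklein q₀ hq₀ hxq₀ y h1 h2
  have hodd : Odd (Nat.card {c : G ⧸ M // x • c = c}) := by
    rw [hk]; exact (Nat.even_pow.2 ⟨even_two, by omega⟩).add_one
  have hker : ∀ k ∈ T, k ∈ locKer M z x → k = 1 ∨ k = x := fun k h1 h2 =>
    h.kernel_two hl hx hxp hq₀ hxq₀ hd hklein0 hodd h1 h2
  haveI hKn := h.normal_kerPart hl hx hxp hq₀ hxq₀ hd
  obtain ⟨hS, hSc⟩ := h.sqForm_quot hl hx hxp hq₀ hxq₀ hd hβ hβ2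
  set E := lineGrp z x p with hEdef
  set K' := (locKer M z x).subgroupOf T with hK'
  set π := QuotientGroup.mk' K' with hπ
  set Eb := (E.subgroupOf T).map π with hEb
  have hq4 : 4 ≤ 2 ^ β := le_trans (by norm_num) (Nat.pow_le_pow_right (n := 2) (by norm_num) hβ2)
  have hE2 : ∀ d ∈ E, d * d = 1 := fun d hd' => h.line_sq hl hx hd'
  have hxE : ∀ d ∈ E, Commute x d := fun d hd' => hd.commute (hd.line_le hd')
  -- a member and a translation
  obtain ⟨e, heE, he1⟩ : ∃ e ∈ E, e ≠ 1 := by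
    by_contra hh
    push Not at hh
    have h1 := h.card_lineGrp hl (x := x) p
    rw [← hEdef, (eq_bot_iff_forall E).2 hh, card_bot] at h1
    omega
  have hep : e • p = p := ((hd.mem e).1 (hd.line_le heE)).2.1
  obtain ⟨g, hgp, hg⟩ := h.exists_translate hloc hx hxp ha heE
  have hgE : ∀ d ∈ E, g * d * g⁻¹ ∈ E := fun d hd' =>
    h.conj_lineGrp hloc hx hgp (by rw [hg, mul_assoc, hxx, mul_one]; exact heE) hd'
  have hgE' : ∀ d ∈ E, g⁻¹ * d * g ∈ E := by
    intro d hd'
    have hm : E.map (MulAut.conj g).toMonoidHom = E := by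
      refine eq_of_le_of_card_ge ?_ ?_
      · rintro _ ⟨t, ht, rfl⟩; exact hgE t ht
      · rw [Nat.card_congr (E.equivMapOfInjective _ (MulAut.conj g).injective).toEquiv.symm]
    rw [← hm] at hd'
    obtain ⟨t, ht, rfl⟩ := hd'
    show g⁻¹ * (g * t * g⁻¹) * g ∈ E
    rw [show g⁻¹ * (g * t * g⁻¹) * g = t by group]
    exact ht
  obtain ⟨hrE, hrcases⟩ := h.root_cases hl hx hxp ha hrr hrp hc hxc hrc hβ hk
  have hrE' : ∀ d ∈ E, Commute r d := fun d hd' => by
    rcases (h.mem_lineGrp hl).1 hd' with rfl | ⟨h1, h2, h3⟩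
    exacts [Commute.one_right r, hrE d h1 h2 h3]
  have hxr := root_commutes hrr
  -- the translated root
  set r' := g * r * g⁻¹ with hr'
  set b := g • c with hb
  have hr'r' : r' * r' = e * x := by
    rw [hr', show g * r * g⁻¹ * (g * r * g⁻¹) = g * (r * r) * g⁻¹ by group, hrr, hg]
  have hr'p : r' • p = p := by rw [hr', mul_smul, mul_smul, inv_smul_eq_iff.2 hgp.symm, hrp, hgp]
  have hr'b : r' • b = b := by rw [hr', hb, mul_smul, mul_smul, inv_smul_smul, hrc]
  have hr'E : ∀ d ∈ E, Commute r' d := fun d hd' => by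
    have h1 := (hrE' _ (hgE' d hd')).conj g
    rwa [show g * (g⁻¹ * d * g) * g⁻¹ = d by group, ← hr'] at h1
  have hr'x : Commute x r' := by
    have h1 : Commute (e * x) r' := hr'r' ▸ (Commute.refl r').mul_left (Commute.refl r')
    have h2 := (hr'E e heE).symm.mul_left h1
    rwa [← mul_assoc, hE2 e heE, one_mul] at h2
  have hbp : b ≠ p := fun e1 => hc (smul_left_cancel g (e1.trans hgp.symm))
  have hexfix : ∀ a : G ⧸ M, (e * x) • a = a → x • a = e • a := fun a ha' => by
    have h1 : e • x • a = a := by rw [← mul_smul]; exact ha'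
    rw [← inv_smul_eq_iff.2 h1.symm, inv_eq_of_mul_eq_one_right (hE2 e heE)]
  have hexb : (e * x) • b = b := by
    rw [← hg, hb, smul_smul, inv_mul_cancel_right, mul_smul, hxc]
  have heb : e • b ≠ b := fun e1 => he1 (h.line_eq_one hl hx heE hbp e1)
  have hxb : x • b ≠ b := hexfix b hexb ▸ heb
  -- the decomposition
  obtain ⟨u, hu, huc⟩ := hd.trans c (r' • c) hxc (smul_mem_fix hr'x hxc) hc
    fun e1 => hc (smul_left_cancel r' (e1.trans hr'p.symm))
  set w := u⁻¹ * r' with hw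
  have hxw : Commute x w := (hd.commute hu).inv_right.mul_right hr'x
  have hwc : w • c = c := by rw [hw, mul_smul, ← huc, inv_smul_smul]
  have hwp : w • p = p := by rw [hw, mul_smul, hr'p, inv_smul_eq_iff]; exact ((hd.mem u).1 hu).2.1.symm
  set t₁ := u⁻¹ * (r' * u⁻¹ * r'⁻¹) with ht₁
  have ht₁T : t₁ ∈ T := mul_mem (inv_mem hu) (hd.conj hr'x hr'p (inv_mem hu))
  have hw4 : w ^ 4 ∈ T := by
    have h1 : w * w = t₁ * (e * x) := by rw [hw, ht₁, ← hr'r']; group
    have h2 : Commute (e * x) t₁ := (hd.comm e heE _ ht₁T).mul_left (hd.commute ht₁T)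
    rw [show w ^ 4 = w * w * (w * w) by simp [pow_succ, mul_assoc], h1, h2.mul_mul_mul_comm,
      show e * x * (e * x) = 1 by rw [(hxE e heE).mul_mul_mul_comm, hE2 e heE, hxx, one_mul], mul_one]
    exact mul_mem ht₁T ht₁T
  obtain ⟨α, γ, hγ, hord⟩ := Nat.exists_eq_two_pow_mul_odd (orderOf_pos w).ne'
  obtain ⟨κ, -, hκ⟩ := Nat.exists_mul_mod_eq_one_of_coprime (n := γ) (k := 2 ^ (α + 2))
    ((Nat.coprime_two_right.2 hγ).pow_right _) (Nat.one_lt_two_pow (Nat.succ_ne_zero _))
  set μ := 2 ^ α * (γ * κ / 2 ^ (α + 2)) with hμ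
  have hn : γ * κ = 4 * μ + 1 := by
    rw [hμ]
    conv_lhs => rw [← Nat.div_add_mod (γ * κ) (2 ^ (α + 2)), hκ]
    ring
  set s := w ^ (γ * κ) with hs
  set v := u * ((w ^ 4) ^ μ)⁻¹ with hv
  have hvT : v ∈ T := mul_mem hu (inv_mem (pow_mem hw4 μ))
  have hvs : v * s = r' := by
    rw [hv, hs, hn, show w ^ (4 * μ + 1) = (w ^ 4) ^ μ * w by rw [pow_succ, ← pow_mul], mul_assoc, inv_mul_cancel_left, hw, mul_inv_cancel_left]
  have hxs : Commute x s := hxw.pow_right _
  have hsp : s • p = p := MulAction.mem_stabilizer_iff.1 (pow_mem (MulAction.mem_stabilizer_iff.2 hwp) _)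
  have hsc : s • c = c := MulAction.mem_stabilizer_iff.1 (pow_mem (MulAction.mem_stabilizer_iff.2 hwc) _)
  set v' := s * v * s⁻¹ with hv'
  have hv'T : v' ∈ T := hd.conj hxs hsp hvT
  have hss : v * v' * (s * s) = e * x := by rw [← hr'r', ← hvs, hv']; group
  have hssx : (v * v')⁻¹ * e = s * s * x := by
    rw [eq_comm, eq_inv_mul_iff_mul_eq, ← mul_assoc, hss, mul_assoc, hxx, mul_one]
  have hssT : (v * v')⁻¹ * e ∈ T := mul_mem (inv_mem (mul_mem hvT hv'T)) (hd.line_le heE)
  have hssK : (v * v')⁻¹ * e ∈ locKer M z x :=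
    hd.free _ hssT c hxc hc (by rw [hssx, mul_smul, mul_smul, hxc, hsc, hsc])
  obtain ⟨σ, hσ⟩ := hd.exists_bar_aut hxs hsp
  obtain ⟨f, hf⟩ := hd.exists_bar_equiv hc hxc
  have hfσ : ∀ (σ' : T ⧸ K' ≃* T ⧸ K') (s' : G) (h1 : Commute x s') (h2 : s' • p = p), s' • c = c →
      (∀ t : T, σ' (π t) = π ⟨s' * t * s'⁻¹, hd.conj h1 h2 t.2⟩) →
      ∀ w, (f (σ' w)).1 = s' • (f w).1 := by
    intro σ' s' h1 h2 h3 hσ' w
    induction w using QuotientGroup.induction_on with | _ t => ?_
    show (f (σ' (π t))).1 = s' • (f (π t)).1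
    rw [hσ', hf, hf, mul_smul, mul_smul, inv_smul_eq_iff.2 h3.symm]
  have hfixcard : ∀ (σ' : T ⧸ K' ≃* T ⧸ K') (s' : G) (h1 : Commute x s') (h2 : s' • p = p), s' • c = c →
      (∀ t : T, σ' (π t) = π ⟨s' * t * s'⁻¹, hd.conj h1 h2 t.2⟩) →
      Nat.card {t : G ⧸ M // (x • t = t ∧ s' • t = t) ∧ t ≠ p} = 2 ^ β →
      Nat.card {w // σ' w = w} = Nat.card Eb := by
    intro σ' s' h1 h2 h3 hσ' hcount
    rw [hSc, ← hcount]
    refine Nat.card_congr ((Equiv.subtypeEquiv f (p := fun w => σ' w = w) (q := fun a => s' • a.1 = a.1) fun w => ?_).trans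
      { toFun := fun a => ⟨a.1.1, ⟨a.1.2.1, a.2⟩, a.1.2.2⟩
        invFun := fun a => ⟨⟨a.1, a.2.1.1, a.2.2⟩, a.2.1.2⟩
        left_inv := fun _ => rfl
        right_inv := fun _ => rfl })
    rw [← hfσ σ' s' h1 h2 h3 hσ' w]
    exact ⟨fun e1 => by rw [e1], fun e1 => f.injective (Subtype.ext e1)⟩
  have hσE : ∀ (σ' : T ⧸ K' ≃* T ⧸ K') (s' : G) (h1 : Commute x s') (h2 : s' • p = p),
      (∀ t : T, σ' (π t) = π ⟨s' * t * s'⁻¹, hd.conj h1 h2 t.2⟩) →
      (∀ d ∈ E, Commute s' d) → ∀ w ∈ Eb, σ' w = w := by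
    rintro σ' s' h1 h2 hσ' hc' _ ⟨d, hd', rfl⟩
    rw [hσ']
    exact congrArg π (Subtype.ext (by
      show s' * (d : G) * s'⁻¹ = d
      rw [(hc' (d : G) hd').eq, mul_inv_cancel_right]))
  set vb := π ⟨v, hvT⟩ with hvb
  set eb := π ⟨e, hd.line_le heE⟩ with heb'
  have hebE : eb ∈ Eb := ⟨_, heE, rfl⟩
  have heb1 : eb ≠ 1 := fun e1 => by
    have h1 := (QuotientGroup.eq_one_iff (N := K') (⟨e, hd.line_le heE⟩ : T)).1 e1
    exact he1 (h.line_eq_one hl hx heE hq₀ ((mem_locKer.1 h1).2 q₀ hxq₀))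
  have hveq : vb * σ vb = eb := by
    rw [hvb, heb', hσ, ← map_mul]
    exact QuotientGroup.eq.2 hssK
  -- the part fixing two points
  have hscase : (∀ d ∈ E, Commute s d) ∧
      (Nat.card {t : G ⧸ M // (x • t = t ∧ s • t = t) ∧ t ≠ p} = 2 ^ β ∨
        ∀ t : G ⧸ M, x • t = t → s • t = t) ∧ (s * s = x ∨ s * s = 1) := by
    rcases hker _ hssT hssK with e1 | e1
    · have h1 : s * s = x := by
        rw [hssx] at e1; rw [eq_inv_of_mul_eq_one_left e1, invol_inv hx.1]
      obtain ⟨hsE, hcases⟩ := h.root_cases hl hx hxp ha h1 hsp hc hxc hsc hβ hk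
      refine ⟨fun d hd' => ?_, hcases, Or.inl h1⟩
      rcases (h.mem_lineGrp hl).1 hd' with rfl | ⟨g1, g2, g3⟩
      exacts [Commute.one_right s, hsE d g1 g2 g3]
    · have h1 : s * s = 1 := by rwa [hssx, mul_eq_right] at e1
      rcases hklein c hc hxc _ h1
        ⟨⟨mem_centralizer_singleton_iff.2 hxs.eq.symm, MulAction.mem_stabilizer_iff.2 hsp⟩,
          MulAction.mem_stabilizer_iff.2 hsc⟩ with e2 | e2 <;> rw [e2]
      · exact ⟨fun d _ => Commute.one_left d, Or.inr fun t _ => one_smul G t, Or.inr (one_mul 1)⟩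
      · exact ⟨hxE, Or.inr fun t ht => ht, Or.inr hxx⟩
  obtain ⟨hsE, hcases, hs2⟩ := hscase
  rcases hcases with hcount | htriv
  · -- it moves fixed points
    refine heb1 (hS.twist_false σ (fun w => ?_) (hσE σ s hxs hsp hσ hsE) (hfixcard σ s hxs hsp hsc hσ hcount)
      hebE hveq)
    induction w using QuotientGroup.induction_on with | _ t => ?_
    show σ (σ (π t)) = π t
    rw [hσ, hσ]
    refine congrArg π (Subtype.ext ?_)
    show s * (s * (t : G) * s⁻¹) * s⁻¹ = t
    rw [show s * (s * (t : G) * s⁻¹) * s⁻¹ = s * s * t * (s * s)⁻¹ by group]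
    rcases hs2 with e1 | e1 <;> rw [e1]
    · rw [(hd.commute t.2).eq, mul_inv_cancel_right]
    · group
  -- it is trivial on the regular group
  have hσid : ∀ w, σ w = w := fun w => f.injective (Subtype.ext (by
    rw [hfσ σ s hxs hsp hsc hσ w]; exact htriv _ (f w).2.1))
  have hv2 : vb * vb = eb := by rw [← hveq, hσid]
  set cm : T → G := fun t => r' * t * r'⁻¹ * (t : G)⁻¹ with hcm
  have hcmT : ∀ t, cm t ∈ T := fun t => mul_mem (hd.conj hr'x hr'p t.2) (inv_mem t.2)
  have hcmπ : ∀ t : T, π ⟨cm t, hcmT t⟩ = vb * π t * vb⁻¹ * (π t)⁻¹ := by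
    intro t
    have h1 := hσid (π t)
    rw [hσ] at h1
    calc π ⟨cm t, hcmT t⟩ = π (⟨v, hvT⟩ * ⟨s * t * s⁻¹, hd.conj hxs hsp t.2⟩ * ⟨v, hvT⟩⁻¹ * t⁻¹) := by
          refine congrArg π (Subtype.ext ?_)
          show r' * (t : G) * r'⁻¹ * (t : G)⁻¹ = v * (s * t * s⁻¹) * v⁻¹ * (t : G)⁻¹
          rw [← hvs]; group
      _ = _ := by rw [map_mul, map_mul, map_mul, map_inv, map_inv, h1]
  have hcmE : ∀ t : T, ∃ d ∈ E, ∃ hd' : d ∈ T, π ⟨cm t, hcmT t⟩ = π ⟨d, hd'⟩ ∧ (cm t = d ∨ cm t = d * x) := by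
    intro t
    have h1 : π ⟨cm t, hcmT t⟩ ∈ Eb := by rw [hcmπ]; exact hS.br_mem _ _
    obtain ⟨⟨d, hdT⟩, hd', hde⟩ := h1
    refine ⟨d, hd', hdT, hde.symm, ?_⟩
    have h2' : (⟨d, hdT⟩ : T)⁻¹ * ⟨cm t, hcmT t⟩ ∈ K' := (QuotientGroup.eq (s := K')).1 hde
    have h2 : d⁻¹ * cm t ∈ locKer M z x := h2'
    rcases hker _ (mul_mem (inv_mem hdT) (hcmT t)) h2 with e1 | e1
    · exact Or.inl (inv_mul_eq_one.1 e1).symm
    · exact Or.inr (inv_mul_eq_iff_eq_mul.1 e1)
  rcases hrcases with hrcount | hrtriv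
  · -- too much fixes `b`
    obtain ⟨σr, hσr⟩ := hd.exists_bar_aut hxr hrp
    have hW := hS.card_moved_le σr (hσE σr r hxr hrp hσr hrE') (hfixcard σr r hxr hrp hrc hσr hrcount)
    rw [hSc] at hW
    have hexT : ∀ t : T, (e * x) • ((t : G) • b) = (t : G) • b := fun t => by
      rw [smul_smul, ((hd.comm e heE _ t.2).mul_left (hd.commute t.2)).eq, mul_smul, hexb]
    set St := MulAction.stabilizer T b with hSt
    have horb : Nat.card (MulAction.orbit T b) ≤ (2 ^ β) ^ 2 := by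
      refine le_trans (Nat.card_le_card_of_injective (fun y => ?_) ?_) hW
      · refine ⟨f.symm ⟨g⁻¹ • y.1, ?_, ?_⟩, ?_⟩
        · obtain ⟨t, ht⟩ := y.2
          rw [eq_inv_smul_iff, smul_smul, show g * x = e * x * g by rw [← hg, inv_mul_cancel_right],
            mul_smul, smul_inv_smul, ← ht]
          exact hexT t
        · obtain ⟨t, ht⟩ := y.2
          intro e1
          rw [inv_smul_eq_iff, hgp, ← ht] at e1
          exact hbp (smul_left_cancel (t : G) (e1.trans ((hd.mem t).1 t.2).2.1.symm))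
        · obtain ⟨t, ht⟩ := y.2
          obtain ⟨d, hd', hh⟩ := hcmE t
          set a := g⁻¹ • y.1 with ha'
          obtain ⟨d', hd'E, hmove⟩ : ∃ d' ∈ E, r' • ((t : G) • b) = d' • ((t : G) • b) := by
            have e1 : r' • ((t : G) • b) = cm t • ((t : G) • b) := by
              show _ = (r' * t * r'⁻¹ * (t : G)⁻¹) • ((t : G) • b)
              conv_rhs => rw [smul_smul, inv_mul_cancel_right,
                show (r' * t * r'⁻¹) • b = (r' * (t : G)) • (r'⁻¹ • b) from mul_smul _ _ _,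
                inv_smul_eq_iff.2 hr'b.symm]
              exact (mul_smul _ _ _).symm
            rcases hh with ⟨-, -, hh | hh⟩
            · exact ⟨d, hd', by rw [e1, hh]⟩
            · exact ⟨d * e, mul_mem hd' heE, by rw [e1, hh, mul_smul, hexfix _ (hexT t), ← mul_smul]⟩
          generalize hwdef : f.symm ⟨a, _⟩ = wq
          revert hwdef
          induction wq using QuotientGroup.induction_on with | _ t' => ?_
          intro hwdef
          rw [Equiv.symm_apply_eq] at hwdef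
          have ha2 : a = (t' : G) • c := (congrArg Subtype.val hwdef).trans (hf t')
          have hδ := hgE' d' hd'E
          have hmove2 : r • a = (g⁻¹ * d' * g) • a := by
            rw [ha', ← ht, show r = g⁻¹ * r' * g by rw [hr']; group]
            simp only [mul_smul, smul_inv_smul]
            exact congrArg _ hmove
          have h1 : σr (π t') = π ⟨g⁻¹ * d' * g, hd.line_le hδ⟩ * π t' := f.injective (Subtype.ext (by
            rw [hfσ σr r hxr hrp hrc hσr, ← map_mul, hf, hf, coe_mul, mul_smul, ← ha2]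
            exact hmove2))
          show (π t')⁻¹ * σr (π t') ∈ Eb
          rw [h1, ← mul_assoc, hS.comm_E (show π ⟨g⁻¹ * d' * g, hd.line_le hδ⟩ ∈ Eb from ⟨_, hδ, rfl⟩) (π t')⁻¹,
            mul_assoc, inv_mul_cancel, mul_one]
          exact ⟨_, hδ, rfl⟩
      · intro y y' e1
        refine Subtype.ext (smul_left_cancel g⁻¹ ?_)
        exact congrArg Subtype.val (f.symm.injective (congrArg Subtype.val e1))
    -- the stabilizer in the quotient
    set A := St.map π with hA
    have hKb : ∀ t ∈ St, π t = 1 → t = 1 := fun t ht e1 => by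
      rcases hker _ t.2 ((QuotientGroup.eq_one_iff (N := K') t).1 e1) with e2 | e2
      · exact Subtype.ext e2
      · exact absurd (show x • b = b by rw [← e2]; exact ht) hxb
    have hAcard : Nat.card A = Nat.card St := by
      rw [hA, show St.map π = (π.comp St.subtype).range by rw [MonoidHom.range_comp, range_subtype]]
      have hinj : Function.Injective (π.comp St.subtype) :=
        (injective_iff_map_eq_one _).2 fun t ht => Subtype.ext (hKb t.1 t.2 ht)
      exact (Nat.card_congr (MonoidHom.ofInjective hinj).toEquiv).symm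
    have hAE : ∀ a ∈ A, a ∈ Eb → a = 1 ∨ (a = eb ∧ x ∈ T) := by
      rintro _ ⟨t, ht, rfl⟩ ⟨d, hd', hde⟩
      have h2' : d⁻¹ * t ∈ K' := (QuotientGroup.eq (s := K')).1 hde
      have h2 : (d : G)⁻¹ * t ∈ locKer M z x := h2'
      have htb : (t : G) • b = b := ht
      rcases hker _ (mul_mem (inv_mem d.2) t.2) h2 with e1 | e1
      · have e2 : (d : G) = t := inv_mul_eq_one.1 e1
        refine Or.inl ?_
        rw [show t = 1 from Subtype.ext (e2 ▸ h.line_eq_one hl hx hd' hbp (e2.symm ▸ htb)), map_one]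
      · have e2 : (t : G) = d * x := inv_mul_eq_iff_eq_mul.1 e1
        have hxT : x ∈ T := e1 ▸ mul_mem (inv_mem d.2) t.2
        rw [e2, mul_smul, hexfix b hexb, ← mul_smul] at htb
        have e3 : (d : G) = e := by
          exact (eq_inv_of_mul_eq_one_left (h.line_eq_one hl hx (mul_mem hd' heE) hbp htb)).trans
            (inv_eq_of_mul_eq_one_right (hE2 e heE))
        refine Or.inr ⟨?_, hxT⟩
        rw [heb', ← hde]
        exact congrArg π (Subtype.ext e3)
    haveI hEn : Eb.Normal := ⟨fun a ha' g' => by rwa [hS.comm_E ha' g', mul_inv_cancel_right]⟩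
    have hI : Nat.card (Eb ⊓ A : Subgroup _) ≤ Nat.card K' := by
      by_cases hxT : x ∈ T
      · calc Nat.card (Eb ⊓ A : Subgroup _) ≤ Nat.card (zpowers eb) :=
              card_le_of_le fun a ha' => by
                rcases hAE a ha'.2 ha'.1 with e1 | ⟨e1, -⟩ <;> rw [e1]
                exacts [one_mem _, mem_zpowers _]
          _ = 2 := by rw [Nat.card_zpowers]; exact orderOf_eq_prime (by rw [pow_two]; exact hS.elem _ hebE) heb1
          _ ≤ Nat.card K' := Finite.one_lt_card_iff_nontrivial.2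
              ⟨⟨⟨x, hxT⟩, mem_subgroupOf.2 (mem_locKer.2 ⟨((hd.mem x).1 hxT).1, fun a ha' => ha'⟩)⟩, 1,
                fun e1 => invol_ne_one hx.1 (congrArg (fun k : K' => ((k : T) : G)) e1)⟩
      · rw [show (Eb ⊓ A : Subgroup _) = ⊥ from (eq_bot_iff_forall _).2 fun a ha' =>
          (hAE a ha'.2 ha'.1).resolve_right fun e1 => hxT e1.2, card_bot]
        exact Nat.card_pos
    have hmapE : (A ⊔ Eb).map (QuotientGroup.mk' Eb) = A.map (QuotientGroup.mk' Eb) := by
      rw [Subgroup.map_sup, (Subgroup.map_eq_bot_iff Eb).2 (QuotientGroup.ker_mk' Eb).ge, sup_bot_eq]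
    have hH := card_eq_map_mul Eb (A ⊔ Eb)
    rw [hmapE, inf_eq_left.2 (le_sup_right : Eb ≤ A ⊔ Eb), hSc] at hH
    have hAc := card_eq_map_mul Eb A
    have hTc : Nat.card T = (2 ^ β) ^ 3 * Nat.card K' := by
      rw [card_eq_card_quotient_mul_card_subgroup K', hS.card_eq, hSc]
    have hST : Nat.card (MulAction.orbit T b) * Nat.card St = Nat.card T := by
      rw [← St.index_mul_card, hSt, MulAction.index_stabilizer, Nat.card_coe_set_eq]
    have hlt' := hS.card_lt_of_sq_le (H := A ⊔ Eb) le_sup_right (K := zpowers ⟨eb, hebE⟩) (fun e1 => ?_)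
      fun y hy => ?_
    · rw [hSc] at hlt'
      set Mc := Nat.card (A.map (QuotientGroup.mk' Eb))
      set Ic := Nat.card (Eb ⊓ A : Subgroup _)
      have hkpos : 0 < Nat.card K' := Nat.card_pos
      have h1 : 2 ^ β * Nat.card K' ≤ Mc * Nat.card K' := by
        refine le_trans ?_ (Nat.mul_le_mul_left Mc hI)
        rw [← hAc, hAcard]
        refine Nat.le_of_mul_le_mul_left ?_ (show 0 < (2 ^ β) ^ 2 by positivity)
        calc (2 ^ β) ^ 2 * (2 ^ β * Nat.card K') = Nat.card T := by rw [hTc]; ring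
          _ ≤ (2 ^ β) ^ 2 * Nat.card St := hST ▸ Nat.mul_le_mul_right _ horb
      have h2 := Nat.le_of_mul_le_mul_right h1 hkpos
      have h3 := Nat.mul_le_mul_right (2 ^ β) h2
      rw [← hH] at h3
      rw [pow_two] at hlt'
      linarith
    · have h1 : Nat.card (zpowers (⟨eb, hebE⟩ : Eb)) = 2 := by
        rw [Nat.card_zpowers]
        exact orderOf_eq_prime (Subtype.ext (by
          rw [SubmonoidClass.coe_pow, pow_two]; exact hS.elem _ hebE)) fun e2 => heb1 (congrArg Subtype.val e2)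
      rw [e1, card_top, hSc] at h1
      omega
    · obtain ⟨a, ha', d, hd', rfl⟩ := mem_sup_of_normal_right.1 hy
      have e1 : a * d * (a * d) = a * a := by
        rw [(show Commute d a from (hS.comm_E hd' a).symm).mul_mul_mul_comm, hS.elem d hd', mul_one]
      rw [show (⟨a * d * (a * d), hS.sq _⟩ : Eb) = ⟨a * a, hS.sq a⟩ from Subtype.ext e1]
      rcases hAE _ (mul_mem ha' ha') (hS.sq a) with e2 | ⟨e2, -⟩
      · rw [show (⟨a * a, hS.sq a⟩ : Eb) = 1 from Subtype.ext e2]; exact one_mem _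
      · rw [show (⟨a * a, hS.sq a⟩ : Eb) = ⟨eb, hebE⟩ from Subtype.ext e2]; exact mem_zpowers _
  · -- it is central modulo the line
    obtain ⟨L, hL, heL⟩ := hS.exists_index_two (e := ⟨eb, hebE⟩) fun e1 => heb1 (congrArg Subtype.val e1)
    have hvE : vb ∈ Eb := by
      refine hS.rad_le hL fun w => ?_
      induction w using QuotientGroup.induction_on with | _ t => ?_
      show hS.br (π t) vb ∈ L
      rw [hS.br_comm]
      have hfixb : cm t • b = b := by
        have hxtb : x • (g⁻¹ • (t : G)⁻¹ • b) = g⁻¹ • (t : G)⁻¹ • b := by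
          rw [eq_inv_smul_iff, smul_smul, show g * x = e * x * g by rw [← hg, inv_mul_cancel_right],
            mul_smul, smul_inv_smul, smul_smul,
            ((hd.comm e heE _ (inv_mem t.2)).mul_left (hd.commute (inv_mem t.2))).eq, mul_smul, hexb]
        have h1 : r' • (t : G)⁻¹ • b = (t : G)⁻¹ • b := by
          have h2 := congrArg (g • ·) (hrtriv _ hxtb)
          simpa [hr', mul_smul] using h2
        show (r' * t * r'⁻¹ * (t : G)⁻¹) • b = b
        rw [mul_smul, mul_smul, inv_smul_eq_iff.2 h1.symm, mul_smul, smul_inv_smul, hr'b]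
      obtain ⟨d, hd', hh⟩ := hcmE t
      obtain ⟨hdT, hde, hh⟩ := hh
      · have e1 : hS.br vb (π t) = ⟨π ⟨d, hdT⟩, ⟨_, hd', rfl⟩⟩ :=
          Subtype.ext ((hcmπ t).symm.trans hde)
        rw [e1]
        rcases hh with hh | hh
        · have e2 := h.line_eq_one hl hx hd' hbp (hh ▸ hfixb)
          refine (congrArg (· ∈ L) (Subtype.ext ?_ : _ = (1 : Eb))).mpr (one_mem L)
          show π ⟨d, hdT⟩ = 1
          rw [show (⟨d, hdT⟩ : T) = 1 from Subtype.ext e2, map_one]
        · rw [hh, mul_smul, hexfix b hexb, ← mul_smul] at hfixb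
          have e2 : d = e := by
            rw [eq_inv_of_mul_eq_one_left (h.line_eq_one hl hx (mul_mem hd' heE) hbp hfixb),
              inv_eq_of_mul_eq_one_right (hE2 e heE)]
          subst e2
          exact heL
    exact heb1 (hv2.symm.trans (hS.elem vb hvE))

/-- Then only `x` centralizes `x` and fixes two points. -/
theorem Setup.two_elem_le_of_klein {c : G ⧸ M} (hc : c ≠ p) (hxc : x • c = c) :
    ∀ (g : G) (k : ℕ), g ^ 2 ^ k = 1 → g ∈ twoPt x p c → g = 1 ∨ g = x := by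
  intro g k
  induction k generalizing g with
  | zero => intro hg _; exact Or.inl (by simpa using hg)
  | succ k ih =>
    intro hg hmem
    have hsq : (g * g) ^ 2 ^ k = 1 := by rw [← pow_two, ← pow_mul, ← pow_succ', hg]
    rcases ih (g * g) hsq (mul_mem hmem hmem) with e | e
    · exact hklein c hc hxc _ e hmem
    · exact (h.root_false_of_klein hgen hloc hx hxp ha hβ hβ2 hk hq₀ hxq₀ hklein hc hxc e
        (MulAction.mem_stabilizer_iff.1 hmem.1.2) (MulAction.mem_stabilizer_iff.1 hmem.2)).elim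

end Klein

variable (h : Setup M z) (hgen : normalClosure ({z} : Set G) = ⊤)
  (hloc : ∀ x : G, IsBad M x → Local M z x) {x : G} (hx : IsBad M x) {p : G ⧸ M} (hxp : x • p = p)
  (ha : 2 ≤ Nat.card (CAt z ({x} : Set G) p)) (hlt : Nat.card (CAt z ({x} : Set G) p) < deg M z)
  {β : ℕ} (hβ : Nat.card (CAt z ({x} : Set G) p) + 1 = 2 ^ β) (hβ2 : 2 ≤ β)
  (hk : Nat.card {c : G ⧸ M // x • c = c} = 2 ^ (β * 3) + 1)
  {q₀ : G ⧸ M} (hq₀ : q₀ ≠ p) (hxq₀ : x • q₀ = q₀) {P : Subgroup G} (hP : IsPGroup 2 P)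
  (hPx : P ≤ twoPt x p q₀)
  (hmax : ∀ (T : Subgroup G) (c : G ⧸ M), IsPGroup 2 T → c ≠ p → (∀ g ∈ T, g • p = p ∧ g • c = c) →
    Nat.card T ≤ Nat.card P)

include h hgen hloc hx hxp ha hlt hβ hβ2 hk hq₀ hxq₀ hP hPx hmax

/-- An element of square `1` centralizing `x` and fixing two points is `1` or `x`. -/
theorem Setup.klein_or {c : G ⧸ M} (hc : c ≠ p) (hxc : x • c = c) {y : G} (hyy : y * y = 1)
    (hy : y ∈ twoPt x p c) : y = 1 ∨ y = x := by
  by_contra hh
  push Not at hh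
  exact h.kernel_klein hgen hloc hx hxp ha hlt hβ hβ2 hk hq₀ hxq₀ hP hPx hmax (invol_iff.2 ⟨hyy, hh.1⟩)
    (Commute.symm (mem_centralizer_singleton_iff.1 hy.1.1 : Commute y x)) hh.2 hc hxc
    (MulAction.mem_stabilizer_iff.1 hy.1.2) (MulAction.mem_stabilizer_iff.1 hy.2)

/-- **No root.** -/
theorem Setup.root_false {c : G ⧸ M} (hc : c ≠ p) (hxc : x • c = c) {r : G} (hrr : r * r = x)
    (hrp : r • p = p) (hrc : r • c = c) : False :=
  h.root_false_of_klein hgen hloc hx hxp ha hβ hβ2 hk hq₀ hxq₀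
    (fun c hc hxc _ hy hy' => h.klein_or hgen hloc hx hxp ha hlt hβ hβ2 hk hq₀ hxq₀ hP hPx hmax hc hxc hy hy') hc hxc hrr hrp hrc

/-- **Only `x` centralizes `x` and fixes two points.** -/
theorem Setup.two_elem_le {c : G ⧸ M} (hc : c ≠ p) (hxc : x • c = c) :
    ∀ (g : G) (k : ℕ), g ^ 2 ^ k = 1 → g ∈ twoPt x p c → g = 1 ∨ g = x :=
  h.two_elem_le_of_klein hgen hloc hx hxp ha hβ hβ2 hk hq₀ hxq₀
    (fun c hc hxc _ hy hy' => h.klein_or hgen hloc hx hxp ha hlt hβ hβ2 hk hq₀ hxq₀ hP hPx hmax hc hxc hy hy') hc hxc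

/-- The two-groups fixing two points have order two at most. -/
theorem Setup.twoPt_two_le {P' : Subgroup G} {c : G ⧸ M} (hc : c ≠ p) (hxc : x • c = c)
    (hP' : IsPGroup 2 P') (hle : P' ≤ twoPt x p c) : ∀ g ∈ P', g = 1 ∨ g = x := by
  intro g hg
  obtain ⟨k, hk'⟩ := hP' ⟨g, hg⟩
  exact h.two_elem_le hgen hloc hx hxp ha hlt hβ hβ2 hk hq₀ hxq₀ hP hPx hmax hc hxc g k
    (congrArg Subtype.val hk') (hle hg)

end CfsgLib.SECrit
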