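import Cfsg.Agent.Lib.Invol.SECriterion.Shape.Rank
import Cfsg.Agent.Lib.Invol.SECriterion.Local.OfComm
import Cfsg.Agent.Lib.Invol.SECriterion.SmallType.Swaps
import Cfsg.Agent.Lib.Invol.SECriterion.PureE

/-!
# The strong embedding criterion: the fixed points of a bad involution

If a bad involution centralizes `a ≥ 2` members at one of its points, `q = a + 1`, and fixes `s + 1`
points, then `s` is `q`, `q ^ 2` or `q ^ 3`.
-/

set_option autoImplicit false
set_option linter.style.haveILetI false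

namespace CfsgLib.SECrit

open CfsgLib.Invol Subgroup

universe u

variable {G : Type u} [Group G] [Finite G] {M : Subgroup G} {z : G}

/-- **The shape of the fixed points.** -/
theorem Setup.fix_shape (h : Setup M z) {x : G} (hl : Local M z x) (hx : IsBad M x) {p : G ⧸ M}
    (hxp : x • p = p) (ha : 2 ≤ Nat.card (CAt z ({x} : Set G) p)) {β k : ℕ}
    (hβ : Nat.card (CAt z ({x} : Set G) p) + 1 = 2 ^ β)
    (hk : Nat.card {c : G ⧸ M // x • c = c} = 2 ^ k + 1) : k = β ∨ k = β * 2 ∨ k = β * 3 := by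
  classical
  haveI : Fact (Nat.Prime 2) := ⟨Nat.prime_two⟩
  obtain ⟨hxo, r₀, s₀, hrs, hr₀, hs₀⟩ := hx
  obtain ⟨q, hqp, hxq⟩ : ∃ q : G ⧸ M, q ≠ p ∧ x • q = q := by
    by_cases hrp : r₀ = p
    · exact ⟨s₀, fun e => hrs (hrp.trans e.symm), hs₀⟩
    · exact ⟨r₀, hrp, hr₀⟩
  obtain ⟨d, e, hd, hdp, hxd, he, hep, hxe, hne⟩ : ∃ d e : G, IsConj z d ∧ d • p = p ∧ Commute x d ∧
      IsConj z e ∧ e • p = p ∧ Commute x e ∧ d ≠ e := by
    obtain ⟨⟨d, hd, hdp, hdx⟩, ⟨e, he, hep, hex⟩, hne⟩ :=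
      (Finite.one_lt_card_iff_nontrivial.1 (show 1 < Nat.card (CAt z ({x} : Set G) p) by omega)).exists_pair_ne
    exact ⟨d, e, hd, hdp, hdx x rfl, he, hep, hex x rfl, fun e1 => hne (Subtype.ext e1)⟩
  have hde : Commute d e := hl.comm_at d e p hd he hxd hxe hdp hep
  set L := locGroup z x with hL
  set H := (MulAction.stabilizer G p).subgroupOf L with hH
  have hmem : ∀ g : L, g ∈ H ↔ (g : G) • p = p := fun g => Iff.rfl
  have hcore : ∀ c : L, c ∈ H.normalCore ↔ (c : G) ∈ locKer M z x := by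
    refine fun c => ⟨fun hcc => mem_locKer.2 ⟨c.2, fun b hb => ?_⟩, fun hcc g => ?_⟩
    · obtain ⟨g, hg, rfl⟩ := h.exists_loc_smul hxo hxp hb
      have h1 : ((⟨g, hg⟩ : L)⁻¹ * c * ((⟨g, hg⟩ : L)⁻¹)⁻¹) ∈ H := hcc _
      have h2 : (g⁻¹ * (c : G) * g) • p = p := by simpa [H, mem_subgroupOf, mul_assoc] using h1
      rwa [mul_smul, mul_smul, inv_smul_eq_iff] at h2
    · rw [hmem]
      show ((g : G) * (c : G) * (g : G)⁻¹) • p = p
      have hg : Commute x (g : G)⁻¹ := (commute_of_mem_locGroup g.2).inv_right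
      rw [mul_smul, mul_smul, (mem_locKer.1 hcc).2 _ (smul_mem_fix hg hxp), smul_inv_smul]
  set π := QuotientGroup.mk' H.normalCore with hπ
  have hsurj : Function.Surjective π := QuotientGroup.mk'_surjective _
  have hone : ∀ c : L, π c = 1 ↔ (c : G) ∈ locKer M z x := fun c => by
    rw [hπ, QuotientGroup.mk'_apply, QuotientGroup.eq_one_iff, hcore]
  have hker : π.ker ≤ H := by rw [hπ, QuotientGroup.ker_mk']; exact H.normalCore_le
  have hmem' : ∀ g : L, π g ∈ H.map π ↔ (g : G) • p = p := fun g => by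
    rw [← mem_comap, comap_map_eq_self hker, hmem]
  have himg : ∀ c : L, IsConj z (c : G) → orderOf (π c) = 2 := fun c hc =>
    orderOf_eq_prime (by
      rw [← map_pow, pow_two, show c * c = 1 from Subtype.ext (invol_mul_self (h.crit.orderOf_conj hc)),
        map_one])
      (fun e1 => h.not_mem_locKer_of_isConj hxo hqp.symm hxp hxq hc ((hone c).1 e1))
  have hproper : H.map π ≠ ⊤ := fun e1 => by
    obtain ⟨g, hg, hgb⟩ := h.exists_loc_smul hxo hxp hxq
    exact hqp (hgb.symm.trans ((hmem' ⟨g, hg⟩).1 (e1 ▸ mem_top _)))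
  have hse : Cfsg.IsStronglyEmbedded (H.map π) := by
    refine (stronglyEmbedded_iff hproper ?_).2 ?_
    · refine even_iff_two_dvd.2 ?_
      rw [← himg ⟨d, mem_locGroup hd hxd⟩ hd, ← orderOf_mk (π _) ((hmem' ⟨d, mem_locGroup hd hxd⟩).2 hdp)]
      exact orderOf_dvd_natCard _
    · rintro tb ht hto gb hg
      obtain ⟨t, rfl⟩ := hsurj tb
      obtain ⟨g, rfl⟩ := hsurj gb
      rw [← map_inv, ← map_mul, ← map_mul, hmem'] at hg
      rw [hmem'] at ht ⊢
      have ht2 : ((t : G) * t) ∈ locKer M z x := (hone (t * t)).1 (by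
        rw [map_mul, ← pow_two, ← hto, pow_orderOf_eq_one])
      have ht1 : (t : G) ∉ locKer M z x := fun e1 => by
        rw [(hone t).2 e1, orderOf_one] at hto; omega
      have hgc : Commute x (g : G)⁻¹ := (commute_of_mem_locGroup g.2).inv_right
      have h2 : (t : G) • ((g : G)⁻¹ • p) = (g : G)⁻¹ • p := by
        have : ((g : G) * t * (g : G)⁻¹) • p = p := hg
        rw [mul_smul, mul_smul] at this
        exact eq_inv_smul_iff.2 this
      exact (inv_smul_eq_iff.1 (h.eq_of_loc_invol hxo hqp.symm hxp hxq t.2 ht2 ht1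
        (smul_mem_fix hgc hxp) hxp h2 ht)).symm
  have hcore' : (H.map π).normalCore = ⊥ := by
    rw [eq_bot_iff]
    intro cb hc
    obtain ⟨c, rfl⟩ := hsurj cb
    refine mem_bot.2 ((QuotientGroup.eq_one_iff c).2 fun g => ?_)
    have := (normalCore_normal _).conj_mem _ hc (π g)
    rw [← map_inv, ← map_mul, ← map_mul] at this
    exact (hmem' _).1 (normalCore_le _ this)
  have hpair : CfsgLib.Bender.HasPair (L ⧸ H.normalCore) := by
    refine ⟨π ⟨d, mem_locGroup hd hxd⟩, π ⟨e, mem_locGroup he hxe⟩, himg _ hd, himg _ he, fun e1 => ?_,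
      (show Commute (⟨d, mem_locGroup hd hxd⟩ : L) ⟨e, mem_locGroup he hxe⟩ from Subtype.ext hde.eq).map π⟩
    refine h.mul_not_mem_locKer hxo hqp.symm hxp hxq hd he hde hne ?_
    have h1 := (hcore _).1 ((QuotientGroup.eq).1 e1)
    simpa [invol_inv (h.crit.orderOf_conj hd)] using h1
  obtain ⟨Q, hQH, hnorm, hQ2, hreg⟩ := CfsgLib.Bender.Full.fullStatement _ _ hse hcore' hpair
  have hD : Shape.Data (H.map π) Q := ⟨hse, hcore', hpair, hQH, hnorm, hQ2, hreg⟩
  -- the order of `Q`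
  have hQcard : Nat.card Q = 2 ^ k := by
    letI : MulAction L {c : G ⧸ M // x • c = c} :=
      { smul := fun g c => ⟨(g : G) • c.1, smul_mem_fix (commute_of_mem_locGroup g.2) c.2⟩
        one_smul := fun c => Subtype.ext (one_smul G c.1)
        mul_smul := fun g g' c => Subtype.ext (mul_smul (g : G) (g' : G) c.1) }
    haveI : MulAction.IsPretransitive L {c : G ⧸ M // x • c = c} := ⟨fun b c => by
      obtain ⟨g, hg, hgb⟩ := h.exists_loc_smul hxo b.2 c.2
      exact ⟨⟨g, hg⟩, Subtype.ext hgb⟩⟩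
    have e1 : H.index = 2 ^ k + 1 := by
      rw [← hk, show H = MulAction.stabilizer L (⟨p, hxp⟩ : {c : G ⧸ M // x • c = c}) from
        Subgroup.ext fun g => ⟨fun hg => Subtype.ext hg, fun hg => congrArg Subtype.val hg⟩]
      exact MulAction.index_stabilizer_of_transitive L _
    have e2 : (H.map π).index = H.index := index_map_eq _ hsurj hker
    have e3 := hD.card_points
    rw [← index_eq_card, e2, e1] at e3
    omega
  -- the involutions of `Q`
  have hI : Nat.card {y : Q // y * y = 1} = 2 ^ β := by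
    rw [← hβ, ← Finite.card_option]
    refine (Nat.card_eq_of_bijective (fun o : Option (CAt z ({x} : Set G) p) => (o.elim ⟨1, one_mul 1⟩
      (fun c => ⟨⟨π ⟨c.1, mem_locGroup c.2.1 (c.2.2.2 x rfl)⟩, hD.mem_of_invol
        ((hmem' _).2 c.2.2.1) (by rw [← map_mul, show (⟨c.1, _⟩ : L) * ⟨c.1, _⟩ = 1 from
          Subtype.ext (invol_mul_self (h.crit.orderOf_conj c.2.1)), map_one])⟩,
        Subtype.ext (by
          show π _ * π _ = (1 : L ⧸ H.normalCore)
          rw [← map_mul, show (⟨c.1, _⟩ : L) * ⟨c.1, _⟩ = 1 from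
            Subtype.ext (invol_mul_self (h.crit.orderOf_conj c.2.1)), map_one])⟩) :
        {y : Q // y * y = 1})) ⟨?_, ?_⟩).symm
    · have hnot : ∀ c : CAt z ({x} : Set G) p, π ⟨c.1, mem_locGroup c.2.1 (c.2.2.2 x rfl)⟩ ≠ 1 :=
        fun c e1 => h.not_mem_locKer_of_isConj hxo hqp.symm hxp hxq c.2.1 ((hone _).1 e1)
      rintro (- | c) (- | c') hcc
      · rfl
      · exact absurd (congrArg (fun y => ((y : {y : Q // y * y = 1}).1 : L ⧸ H.normalCore)) hcc).symm (hnot c')
      · exact absurd (congrArg (fun y => ((y : {y : Q // y * y = 1}).1 : L ⧸ H.normalCore)) hcc) (hnot c)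
      · have e1 : π ⟨c.1, _⟩ = π ⟨c'.1, _⟩ :=
          congrArg (fun y => ((y : {y : Q // y * y = 1}).1 : L ⧸ H.normalCore)) hcc
        exact congrArg some (Subtype.ext (hl.eq_of_ker _ _ c.2.1 c'.2.1 (c.2.2.2 x rfl) (c'.2.2.2 x rfl)
          ((hcore _).1 ((QuotientGroup.eq).1 e1))))
    · rintro ⟨⟨y, hy⟩, hy2⟩
      by_cases hy1 : y = 1
      · exact ⟨none, Subtype.ext (Subtype.ext hy1.symm)⟩
      obtain ⟨u, rfl⟩ := hsurj y
      have hu2 : (u : G) * u ∈ locKer M z x :=
        (hone (u * u)).1 (by rw [map_mul]; exact congrArg Subtype.val hy2)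
      obtain ⟨c, hc, hxc, hcu⟩ := h.lift_invol hxo hqp.symm hxp hxq u.2 hu2 fun e1 => hy1 ((hone u).2 e1)
      have e2 : π ⟨c, mem_locGroup hc hxc⟩ = π u := QuotientGroup.eq.2 ((hcore _).2 hcu)
      have hcp : c • p = p := (hmem' ⟨c, mem_locGroup hc hxc⟩).1 (e2 ▸ hQH hy)
      exact ⟨some ⟨c, hc, hcp, fun y hy => by rw [Set.mem_singleton_iff.1 hy]; exact hxc⟩,
        Subtype.ext (Subtype.ext e2)⟩
  have hinj : ∀ {m n : ℕ}, (2 : ℕ) ^ m = 2 ^ n → m = n := fun e1 => Nat.pow_right_injective le_rfl e1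
  rcases hD.card_cases with hc | hc | hc <;> rw [hQcard, hI] at hc
  · exact Or.inl (hinj hc)
  · exact Or.inr (Or.inl (hinj (by rw [hc, ← pow_mul])))
  · exact Or.inr (Or.inr (hinj (by rw [hc, ← pow_mul])))

end CfsgLib.SECrit
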