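import Mathlib.Algebra.BigOperators.Group.Finset.Sigma
import Mathlib.Algebra.BigOperators.Ring.Finset
import Mathlib.GroupTheory.PGroup
import Mathlib.Algebra.Group.Subgroup.Finite
import Mathlib.Algebra.Order.BigOperators.Group.Finset
import Mathlib.GroupTheory.Index
import Mathlib.GroupTheory.Subgroup.Center
import Mathlib.GroupTheory.GroupAction.ConjAct
import Mathlib.Data.Fintype.BigOperators
import Mathlib.Tactic.Group
import Mathlib.Tactic.Ring
import Mathlib.Tactic.Linarith

/-!
# The square map of a regular group of order `q ^ 3`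

`E` is central elementary of order `q` in `Q`, holds all squares and involutions, and its non-trivial
elements are squares equally often.  Then after every sign `Q / E` is non-degenerate with sum `- q ^ 2`,
so a subgroup over `E` with all squares in a proper subgroup of `E` has fewer than `q ^ 2` elements.
-/

set_option autoImplicit false
set_option linter.style.haveILetI false

namespace CfsgLib.SECrit.Shape

universe u

variable {Q : Type u} [Group Q]

/-- The hypotheses on the square map. -/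
structure SqForm [Finite Q] (E : Subgroup Q) : Prop where
  four_le : 4 ≤ Nat.card E
  central : E ≤ Subgroup.center Q
  elem : ∀ e ∈ E, e * e = 1
  sq : ∀ v : Q, v * v ∈ E
  invol : ∀ v : Q, v * v = 1 → v ∈ E
  equal : ∀ e ∈ E, ∀ f ∈ E, e ≠ 1 → f ≠ 1 → Nat.card {v : Q // v * v = e} = Nat.card {v : Q // v * v = f}
  card_eq : Nat.card Q = Nat.card E ^ 3

namespace SqForm

variable [Finite Q] {E : Subgroup Q} (h : SqForm E)
include h

theorem comm_E {e : Q} (he : e ∈ E) (g : Q) : g * e = e * g :=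
  Subgroup.mem_center_iff.1 (h.central he) g

theorem inv_E {e : Q} (he : e ∈ E) : e⁻¹ = e := inv_eq_of_mul_eq_one_right (h.elem e he)

theorem br_mem (v d : Q) : v * d * v⁻¹ * d⁻¹ ∈ E := by
  have e2 : v⁻¹ = v * (v * v)⁻¹ := by group
  have e3 : d⁻¹ = d * (d * d)⁻¹ := by group
  rw [e2, e3, show v * d * (v * (v * v)⁻¹) * (d * (d * d)⁻¹) = v * d * v * ((v * v)⁻¹ * d) * (d * d)⁻¹ by group,
    ← h.comm_E (inv_mem (h.sq v)) d,
    show v * d * v * (d * (v * v)⁻¹) * (d * d)⁻¹ = v * d * (v * d) * (v * v)⁻¹ * (d * d)⁻¹ by group]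
  exact mul_mem (mul_mem (h.sq _) (inv_mem (h.sq v))) (inv_mem (h.sq d))

/-- The commutator, in `E`. -/
def br (v d : Q) : E := ⟨v * d * v⁻¹ * d⁻¹, h.br_mem v d⟩

theorem br_mul_left (v w d : Q) : h.br (v * w) d = h.br v d * h.br w d := by
  refine Subtype.ext ?_
  show v * w * d * (v * w)⁻¹ * d⁻¹ = v * d * v⁻¹ * d⁻¹ * (w * d * w⁻¹ * d⁻¹)
  have hw := h.br_mem w d
  calc v * w * d * (v * w)⁻¹ * d⁻¹ = v * (w * d * w⁻¹ * d⁻¹) * (d * v⁻¹ * d⁻¹) := by group
    _ = w * d * w⁻¹ * d⁻¹ * v * (d * v⁻¹ * d⁻¹) := by rw [h.comm_E hw]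
    _ = w * d * w⁻¹ * d⁻¹ * (v * d * v⁻¹ * d⁻¹) := by group
    _ = _ := (h.comm_E hw _).symm

theorem br_comm (v d : Q) : h.br d v = h.br v d :=
  Subtype.ext (show d * v * d⁻¹ * v⁻¹ = v * d * v⁻¹ * d⁻¹ by
    rw [← h.inv_E (h.br_mem v d)]; group)

theorem br_mul_right (g v d : Q) : h.br g (v * d) = h.br g v * h.br g d := by
  rw [h.br_comm, h.br_mul_left, h.br_comm g v, h.br_comm g d]

theorem sq_mul (v d : Q) :
    (⟨v * d * (v * d), h.sq _⟩ : E) = ⟨v * v, h.sq _⟩ * (⟨d * d, h.sq _⟩ * h.br v d) := by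
  refine Subtype.ext ?_
  show v * d * (v * d) = v * v * (d * d * (v * d * v⁻¹ * d⁻¹))
  have hc := h.br_mem v d
  have e : d * v * d⁻¹ * v⁻¹ = v * d * v⁻¹ * d⁻¹ := congrArg Subtype.val (h.br_comm v d)
  calc v * d * (v * d) = v * (d * v * d⁻¹ * v⁻¹ * v) * (d * d) := by group
    _ = v * v * (v * d * v⁻¹ * d⁻¹) * (d * d) := by
        rw [e, ← h.comm_E hc v]; simp only [mul_assoc]
    _ = v * v * (d * d * (v * d * v⁻¹ * d⁻¹)) := by
        rw [mul_assoc (v * v), h.comm_E hc (d * d)]

/-- The sign of a subgroup of index two. -/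
noncomputable def sign (_ : SqForm E) (K : Subgroup E) (b : E) : ℤ :=
  open scoped Classical in if b ∈ K then 1 else -1

variable {K : Subgroup E} (hK : K.index = 2)
include hK

theorem sign_mul (b c : E) : h.sign K (b * c) = h.sign K b * h.sign K c := by
  classical
  simp only [sign, Subgroup.mul_mem_iff_of_index_two hK]
  by_cases hb : b ∈ K <;> by_cases hc : c ∈ K <;> simp [hb, hc]

theorem sum_sign_sq [Fintype Q] : ∑ v : Q, h.sign K ⟨v * v, h.sq v⟩ = -((Nat.card E : ℤ) ^ 2) := by
  classical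
  letI := Fintype.ofFinite E
  obtain ⟨t, ht, -⟩ := Subgroup.index_eq_two_iff_exists_notMem_and.1 hK
  have hε1 : h.sign K 1 = 1 := by simp [sign]
  have hε0 : ∑ b : E, h.sign K b = 0 := by
    have h1 := Fintype.sum_equiv (Equiv.mulLeft t) (fun b => h.sign K (t * b)) (h.sign K) fun b => rfl
    simp only [h.sign_mul hK, show h.sign K t = -1 from if_neg ht, neg_one_mul, Finset.sum_neg_distrib] at h1
    omega
  let sq : Q → E := fun v => ⟨v * v, h.sq v⟩
  set n := fun b : E => Nat.card {v : Q // sq v = b} with hn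
  obtain ⟨e₀, he₀⟩ : ∃ e : E, e ≠ 1 := by
    haveI : Nontrivial E := Finite.one_lt_card_iff_nontrivial.1 (by have := h.four_le; omega)
    exact exists_ne 1
  have hneq : ∀ b : E, b ≠ 1 → n b = n e₀ := fun b hb => by
    have hc : ∀ c : E, n c = Nat.card {v : Q // v * v = (c : Q)} := fun c =>
      Nat.card_congr (Equiv.subtypeEquivRight fun v => Subtype.ext_iff)
    rw [hc, hc]
    exact h.equal b b.2 e₀ e₀.2 (fun e => hb (Subtype.ext e)) fun e => he₀ (Subtype.ext e)
  have hn1 : n 1 = Nat.card E := Nat.card_congr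
    { toFun := fun v => ⟨v.1, h.invol _ (congrArg Subtype.val v.2)⟩
      invFun := fun b => ⟨b, Subtype.ext (h.elem b b.2)⟩
      left_inv := fun _ => rfl
      right_inv := fun _ => rfl }
  have hfib : ∀ f : E → ℤ, ∑ v : Q, f (sq v) =
      (Nat.card E : ℤ) * f 1 + (n e₀ : ℤ) * (∑ b : E, f b - f 1) := fun f => by
    have h1 : ∑ v : Q, f (sq v) = ∑ b : E, (n b : ℤ) * f b := by
      rw [← Fintype.sum_fiberwise sq]
      refine Finset.sum_congr rfl fun b _ => ?_
      rw [Finset.sum_congr rfl (fun v _ => by rw [v.2] : ∀ v ∈ (Finset.univ : Finset {v // sq v = b}),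
        f (sq v.1) = f b), Finset.sum_const, Finset.card_univ, nsmul_eq_mul]
      simp only [hn, Nat.card_eq_fintype_card]
    rw [h1, ← Finset.add_sum_erase _ _ (Finset.mem_univ (1 : E)), hn1,
      ← Finset.sum_erase_eq_sub (Finset.mem_univ (1 : E)), Finset.mul_sum]
    exact congrArg _ (Finset.sum_congr rfl fun b hb => by rw [hneq b (Finset.ne_of_mem_erase hb)])
  have hcnt := hfib fun _ => 1
  simp only [Finset.sum_const, Finset.card_univ, ← Nat.card_eq_fintype_card, nsmul_eq_mul, mul_one,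
    h.card_eq, Nat.cast_pow] at hcnt
  have hσ := hfib (h.sign K)
  rw [hε0, hε1] at hσ
  have hq4 : (4 : ℤ) ≤ Nat.card E := by exact_mod_cast h.four_le
  have h1 : (n e₀ : ℤ) = Nat.card E * (Nat.card E + 1) :=
    mul_right_cancel₀ (b := (Nat.card E : ℤ) - 1) (by omega) (by linarith)
  rw [hσ, h1]; ring

/-- After a sign, only `E` is orthogonal to everything. -/
theorem rad_le {w : Q} (hw : ∀ v : Q, h.br v w ∈ K) : w ∈ E := by
  classical
  letI := Fintype.ofFinite Q
  letI := Fintype.ofFinite E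
  let R := Finset.univ.filter fun w : Q => ∀ v : Q, h.br v w ∈ K
  have hRmem : ∀ w : Q, w ∈ R ↔ ∀ v : Q, h.br v w ∈ K := fun w => by simp [R]
  let ε := fun v : Q => h.sign K ⟨v * v, h.sq v⟩
  have hinner : ∀ w : Q, ∑ v : Q, h.sign K (h.br v w) = if w ∈ R then (Nat.card Q : ℤ) else 0 := by
    intro w
    split_ifs with hw
    · rw [Finset.sum_congr rfl (fun v _ => show h.sign K (h.br v w) = 1 from if_pos ((hRmem _).1 hw v)), Finset.sum_const, Finset.card_univ,
        nsmul_eq_mul, mul_one, Nat.card_eq_fintype_card]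
    · have hex : ∃ v : Q, h.br v w ∉ K := by simpa [R] using hw
      obtain ⟨v₀, hv₀⟩ := hex
      have h1 := Fintype.sum_equiv (Equiv.mulLeft v₀) (fun v => h.sign K (h.br (v₀ * v) w))
        (fun v => h.sign K (h.br v w)) fun v => rfl
      simp only [h.br_mul_left, h.sign_mul hK, show h.sign K (h.br v₀ w) = -1 from if_neg hv₀, neg_one_mul,
        Finset.sum_neg_distrib] at h1
      omega
  have hεmul : ∀ v w : Q, ε (v * w) = ε v * (ε w * h.sign K (h.br v w)) := fun v w => by
    show h.sign K _ = _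
    rw [h.sq_mul, h.sign_mul hK, h.sign_mul hK]
  have hε2 : ∀ v : Q, ε v * ε v = 1 := fun v => by
    by_cases hh : (⟨v * v, h.sq v⟩ : E) ∈ K <;> simp [ε, sign, hh]
  have hmom : (∑ v : Q, ε v) * (∑ v : Q, ε v) = (Nat.card Q : ℤ) * ∑ w ∈ R, ε w := by
    rw [Finset.sum_mul_sum]
    calc ∑ v : Q, ∑ w : Q, ε v * ε w = ∑ v : Q, ∑ w : Q, ε w * h.sign K (h.br v w) := by
          refine Finset.sum_congr rfl fun v _ => (Fintype.sum_equiv (Equiv.mulLeft v) _ _ fun w => ?_).symm
          show ε w * h.sign K (h.br v w) = ε v * ε (v * w)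
          rw [hεmul, ← mul_assoc (ε v), hε2, one_mul]
      _ = ∑ w : Q, ε w * ∑ v : Q, h.sign K (h.br v w) := by
          rw [Finset.sum_comm]; simp only [Finset.mul_sum]
      _ = _ := by
          simp only [hinner, mul_ite, mul_zero, Finset.mul_sum]
          rw [Finset.sum_ite_mem, Finset.univ_inter]
          exact Finset.sum_congr rfl fun w _ => mul_comm _ _
  rw [h.sum_sign_sq hK, h.card_eq, Nat.cast_pow] at hmom
  have hq4 : (4 : ℤ) ≤ Nat.card E := by exact_mod_cast h.four_le
  have hRsum : ∑ w ∈ R, ε w = Nat.card E :=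
    mul_left_cancel₀ (a := (Nat.card E : ℤ) ^ 3) (pow_ne_zero _ (by omega)) (by linarith)
  have hRmul : ∀ w w' : Q, w ∈ R → w' ∈ R → w * w' ∈ R := fun w w' hw hw' => (hRmem _).2 fun v => by
    rw [h.br_mul_right]
    exact mul_mem ((hRmem _).1 hw v) ((hRmem _).1 hw' v)
  by_cases hall : ∀ w ∈ R, ε w = 1
  · have hRc : (R.card : ℤ) = Nat.card E := by rw [← hRsum, Finset.sum_congr rfl hall]; simp
    let E' := Finset.univ.filter fun w : Q => w ∈ E
    have hE'c : E'.card = Nat.card E := by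
      simp only [E']
      rw [← Fintype.card_subtype, ← Nat.card_eq_fintype_card]
    have hE'R : E' ⊆ R := fun w hw => (hRmem _).2 fun v => by
      have hwE : w ∈ E := (Finset.mem_filter.1 hw).2
      rw [show h.br v w = 1 from Subtype.ext (by
        show v * w * v⁻¹ * w⁻¹ = 1
        rw [h.comm_E hwE]; group)]
      exact one_mem K
    have hwR : w ∈ R := (hRmem _).2 hw
    rw [← Finset.eq_of_subset_of_card_le hE'R (by omega)] at hwR
    exact (Finset.mem_filter.1 hwR).2
  · push Not at hall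
    obtain ⟨w₀, hw₀, hne⟩ := hall
    have hm1 : ε w₀ = -1 := by
      by_cases hh : (⟨w₀ * w₀, h.sq w₀⟩ : E) ∈ K
      · exact absurd (if_pos hh) hne
      · exact if_neg hh
    have hi : w₀⁻¹ ∈ R := (hRmem _).2 fun v => by
      have e : h.br v w₀⁻¹ * h.br v w₀ = 1 := by
        rw [← h.br_mul_right]; exact Subtype.ext (by simp [br])
      rw [eq_inv_of_mul_eq_one_left e]
      exact inv_mem ((hRmem _).1 hw₀ v)
    have h0 : ∑ w ∈ R, ε (w₀ * w) = ∑ w ∈ R, ε w :=
      Finset.sum_nbij' (fun w => w₀ * w) (fun w => w₀⁻¹ * w) (fun w hw => hRmul _ _ hw₀ hw)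
        (fun w hw => hRmul _ _ hi hw) (fun w _ => inv_mul_cancel_left _ _)
        (fun w _ => mul_inv_cancel_left _ _) fun w _ => rfl
    rw [Finset.sum_congr rfl (fun w hw => by
      rw [hεmul, hm1, show h.sign K (h.br w₀ w) = 1 from if_pos ((hRmem _).1 hw w₀), mul_one, neg_one_mul] :
      ∀ w ∈ R, ε (w₀ * w) = -ε w), Finset.sum_neg_distrib, hRsum] at h0
    omega

omit hK in
/-- **No large isotropic subgroup.** -/
theorem card_lt_of_sq_le {H : Subgroup Q} (hEH : E ≤ H) {K : Subgroup E} (hKne : K ≠ ⊤)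
    (hsq : ∀ v ∈ H, (⟨v * v, h.sq v⟩ : E) ∈ K) : Nat.card H < Nat.card E ^ 2 := by
  classical
  letI := Fintype.ofFinite Q
  by_contra hge
  push Not at hge
  -- a subgroup of index two above `K`
  obtain ⟨L, hL, hKL⟩ : ∃ L : Subgroup E, L.index = 2 ∧ K ≤ L := by
    haveI : Finite (Subgroup E) := Finite.of_injective (fun L : Subgroup E => (L : Set E)) SetLike.coe_injective
    haveI : Nonempty {L : Subgroup E // K ≤ L ∧ L ≠ ⊤} := ⟨⟨K, le_rfl, hKne⟩⟩
    letI := Fintype.ofFinite {L : Subgroup E // K ≤ L ∧ L ≠ ⊤}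
    obtain ⟨L, -, hmax⟩ := Finset.exists_max_image
      (Finset.univ : Finset {L : Subgroup E // K ≤ L ∧ L ≠ ⊤}) (fun L => Nat.card L.1) Finset.univ_nonempty
    obtain ⟨t, ht⟩ : ∃ t : E, t ∉ L.1 := by
      by_contra hh; push Not at hh; exact L.2.2 (eq_top_iff.2 fun t _ => hh t)
    have hc : ∀ u w : E, u * w = w * u := fun u w => Subtype.ext (h.comm_E w.2 u)
    have htt : t * t = 1 := Subtype.ext (h.elem t t.2)
    refine ⟨L.1, Subgroup.index_eq_two_iff_exists_notMem_and.2 ⟨t, ht, fun b => ?_⟩, L.2.1⟩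
    let L' : Subgroup E :=
      { carrier := {b | b ∈ L.1 ∨ t * b ∈ L.1}
        one_mem' := Or.inl (one_mem _)
        mul_mem' := fun {b c} hb hc' => by
          rcases hb with hb | hb <;> rcases hc' with hc' | hc'
          · exact Or.inl (mul_mem hb hc')
          · exact Or.inr (by rw [← mul_assoc, hc t b, mul_assoc]; exact mul_mem hb hc')
          · exact Or.inr (by rw [← mul_assoc]; exact mul_mem hb hc')
          · refine Or.inl ?_
            have e : t * b * (t * c) = b * c := by rw [hc t b, mul_assoc, ← mul_assoc t t, htt, one_mul]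
            exact e ▸ mul_mem hb hc'
        inv_mem' := fun {b} hb => by rwa [show b⁻¹ = b from Subtype.ext (h.inv_E b.2)] }
    have hlt : L.1 < L' := lt_of_le_of_ne (fun b hb => Or.inl hb) fun e => ht (e ▸ Or.inr (by
      rw [htt]; exact one_mem _))
    have htop : L' = ⊤ := by
      by_contra hL'
      exact hlt.ne (Subgroup.eq_of_le_of_card_ge hlt.le
        (hmax ⟨L', L.2.1.trans hlt.le, hL'⟩ (Finset.mem_univ _)))
    rw [hc b t, or_comm]
    exact (htop ▸ Subgroup.mem_top b : b ∈ L')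
  let ε := fun v : Q => h.sign L ⟨v * v, h.sq v⟩
  set P := Finset.univ.filter fun v : Q => ∀ y ∈ H, h.br v y ∈ L with hP
  have hεH : ∀ y ∈ H, ε y = 1 := fun y hy => if_pos (hKL (hsq y hy))
  have hHP : ∀ v ∈ H, v ∈ P := fun v hv => Finset.mem_filter.2 ⟨Finset.mem_univ _, fun y hy => by
    have e := congrArg (h.sign L) (h.sq_mul v y)
    rw [h.sign_mul hL, h.sign_mul hL, show h.sign L (⟨v * y * (v * y), _⟩ : E) = 1 from hεH _ (mul_mem hv hy),
      show h.sign L (⟨v * v, _⟩ : E) = 1 from hεH v hv, show h.sign L (⟨y * y, _⟩ : E) = 1 from hεH y hy,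
      one_mul, one_mul] at e
    by_contra hn
    rw [show h.sign L (h.br v y) = -1 from if_neg hn] at e
    omega⟩
  letI := Fintype.ofFinite H
  have hrow : ∀ v : Q, ∑ y : H, h.sign L (h.br v y) = if v ∈ P then (Nat.card H : ℤ) else 0 := by
    intro v
    split_ifs with hv
    · rw [Finset.sum_congr rfl (fun (y : H) _ => show h.sign L (h.br v y) = 1 from if_pos ((Finset.mem_filter.1 hv).2 y.1 y.2)), Finset.sum_const,
        Finset.card_univ, nsmul_eq_mul, mul_one, Nat.card_eq_fintype_card]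
    · have hex : ∃ y ∈ H, h.br v y ∉ L := by simpa [hP] using hv
      obtain ⟨y₀, hy₀, hy₀L⟩ := hex
      have h1 := Fintype.sum_equiv (Equiv.mulLeft (⟨y₀, hy₀⟩ : H))
        (fun y => h.sign L (h.br v (y₀ * (y : Q)))) (fun y => h.sign L (h.br v y)) fun y => rfl
      simp only [h.br_mul_right, h.sign_mul hL, show h.sign L (h.br v y₀) = -1 from if_neg hy₀L, neg_one_mul,
        Finset.sum_neg_distrib] at h1
      omega
  have hcol : ∀ y : H, ∑ v : Q, h.sign L (h.br v y) = if (y : Q) ∈ E then (Nat.card Q : ℤ) else 0 := by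
    intro y
    split_ifs with hy
    · rw [Finset.sum_congr rfl (fun v _ => by
        rw [show h.br v y = 1 from Subtype.ext (by
          show v * (y : Q) * v⁻¹ * (y : Q)⁻¹ = 1
          rw [h.comm_E hy]; group)]
        exact if_pos (one_mem L) : ∀ v ∈ (Finset.univ : Finset Q), h.sign L (h.br v y) = 1), Finset.sum_const,
        Finset.card_univ, nsmul_eq_mul, mul_one, Nat.card_eq_fintype_card]
    · obtain ⟨v₀, hv₀⟩ : ∃ v₀ : Q, h.br v₀ y ∉ L := by
        by_contra hh; push Not at hh; exact hy (h.rad_le hL hh)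
      have h1 := Fintype.sum_equiv (Equiv.mulLeft v₀) (fun v => h.sign L (h.br (v₀ * v) y))
        (fun v => h.sign L (h.br v y)) fun v => rfl
      simp only [h.br_mul_left, h.sign_mul hL, show h.sign L (h.br v₀ y) = -1 from if_neg hv₀, neg_one_mul,
        Finset.sum_neg_distrib] at h1
      omega
  have hPH : (P.card : ℤ) * Nat.card H = (Nat.card E : ℤ) * Nat.card Q := by
    have h1 : ∑ v : Q, ∑ y : H, h.sign L (h.br v y) = ∑ y : H, ∑ v : Q, h.sign L (h.br v y) :=
      Finset.sum_comm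
    simp only [hrow, hcol, Finset.sum_ite, Finset.sum_const_zero, add_zero, Finset.sum_const,
      nsmul_eq_mul] at h1
    rw [show (Finset.univ.filter fun v : Q => v ∈ P) = P by ext v; simp] at h1
    rw [h1]
    congr 1
    norm_cast
    rw [← Fintype.card_subtype, ← Nat.card_eq_fintype_card]
    exact Nat.card_congr
      { toFun := fun y => ⟨y.1.1, y.2⟩
        invFun := fun e => ⟨⟨e.1, hEH e.2⟩, e.2⟩
        left_inv := fun _ => rfl
        right_inv := fun _ => rfl }
  have hPc : (Nat.card H : ℤ) ≤ P.card := by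
    rw [Nat.card_eq_fintype_card]
    exact_mod_cast Finset.card_le_card_of_injOn (fun y : H => (y : Q)) (fun y _ => hHP y y.2)
      (Subtype.val_injective.injOn) (s := Finset.univ)
  have hsum : (Nat.card H : ℤ) * ∑ v : Q, ε v = (Nat.card H : ℤ) * ∑ v ∈ P, ε v := by
    calc (Nat.card H : ℤ) * ∑ v : Q, ε v = ∑ y : H, ∑ v : Q, ε (v * y) := by
          rw [Finset.sum_congr rfl (fun (y : H) _ => Fintype.sum_equiv (Equiv.mulRight (y : Q))
            (fun v => ε (v * y)) ε fun v => rfl), Finset.sum_const, Finset.card_univ, nsmul_eq_mul,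
            Nat.card_eq_fintype_card]
      _ = ∑ v : Q, ε v * ∑ y : H, h.sign L (h.br v y) := by
          rw [Finset.sum_comm]
          refine Finset.sum_congr rfl fun v _ => ?_
          rw [Finset.mul_sum]
          refine Finset.sum_congr rfl fun y _ => ?_
          show h.sign L _ = _
          rw [h.sq_mul, h.sign_mul hL, h.sign_mul hL, show h.sign L (⟨(y : Q) * y, _⟩ : E) = 1 from hεH y y.2,
            one_mul]
      _ = _ := by
          simp only [hrow, mul_ite, mul_zero, Finset.mul_sum]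
          rw [Finset.sum_ite_mem, Finset.univ_inter]
          exact Finset.sum_congr rfl fun v _ => mul_comm _ _
  have hq4 : (4 : ℤ) ≤ Nat.card E := by exact_mod_cast h.four_le
  have hQ : (Nat.card Q : ℤ) = (Nat.card E : ℤ) ^ 3 := by rw [h.card_eq]; push_cast; ring
  have hgeZ : (Nat.card E : ℤ) ^ 2 ≤ Nat.card H := by exact_mod_cast hge
  rw [hQ] at hPH
  have hHq : (Nat.card H : ℤ) = (Nat.card E : ℤ) ^ 2 := by nlinarith
  have hPeq : P.card = Nat.card H := by
    have h2 : (P.card : ℤ) = Nat.card H :=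
      mul_right_cancel₀ (b := (Nat.card H : ℤ)) (by nlinarith) (by rw [hPH, hHq]; ring)
    exact_mod_cast h2
  have hPsub : (Finset.univ.filter fun v : Q => v ∈ H) = P :=
    Finset.eq_of_subset_of_card_le (fun v hv => hHP v (Finset.mem_filter.1 hv).2) (by
      rw [hPeq, ← Fintype.card_subtype, Nat.card_eq_fintype_card])
  have hpos : ∑ v ∈ P, ε v = Nat.card H := by
    rw [← hPeq, Finset.sum_congr rfl (fun v hv => hεH v (Finset.mem_filter.1 (hPsub.symm ▸ hv)).2)]
    simp
  have := mul_left_cancel₀ (show (Nat.card H : ℤ) ≠ 0 by nlinarith) hsum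
  rw [h.sum_sign_sq hL, hpos, hHq] at this
  nlinarith

end SqForm

end CfsgLib.SECrit.Shape
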