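import Cfsg.Agent.Lib.Invol.SECriterion.Shape.CosetData
import Cfsg.Agent.Lib.Invol.SECriterion.Shape.Coset.Action

/-!
# The Sylow group of the stabilizer of a coset: all squares lie in `E`

The action on `C(x) / E⟨x⟩` is trivial (`no_two_in_image`), the regular group `Q` is normal (else the
squares of the translations would span a group with too many commutators), hence `S / E` is elementary.
-/

set_option autoImplicit false
set_option linter.style.haveILetI false

namespace CfsgLib.SECrit.Shape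

universe u

variable {S : Type u} [Group S] [Finite S] {E Q : Subgroup S} {x : S} {C : Subgroup (MulAut S)}

namespace CosetData

variable (h : CosetData E Q x C)
include h

theorem e_comm {e : S} (he : e ∈ E) (g : S) : e * g = g * e :=
  (Subgroup.mem_center_iff.1 (h.central he) g).symm

theorem e_inv {e : S} (he : e ∈ E) : e⁻¹ = e := inv_eq_of_mul_eq_one_right (h.elem e he)

theorem x_inv : x⁻¹ = x := inv_eq_of_mul_eq_one_right h.x_sq

/-- The centralizer of `x` is `Q ∪ Q x`. -/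
theorem mem_cent_iff {g : S} : Commute g x ↔ g ∈ Q ∨ g * x ∈ Q := by
  constructor
  · intro hg
    obtain ⟨v, hv, rfl | rfl⟩ := h.cent g hg
    · exact Or.inl hv
    · right; rwa [mul_assoc, h.x_sq, mul_one]
  · rintro (hg | hg)
    · exact (h.x_comm g hg).symm
    · have h1 : Commute (g * x) x := (h.x_comm _ hg).symm
      have := h1.mul_left (Commute.refl x)
      rwa [mul_assoc, h.x_sq, mul_one] at this

/-- The translation defined by an element. -/
theorem translate_mul (g g' : S) :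
    (g * g') * x * (g * g')⁻¹ * x = (g * x * g⁻¹ * x) * (g' * x * g'⁻¹ * x) := by
  rw [h.e_comm (h.translate g)]
  have e : (g * g') * x * (g * g')⁻¹ * x = g * (g' * x * g'⁻¹ * x) * g⁻¹ * (g * x * g⁻¹ * x) := by
    simp only [mul_assoc, mul_inv_rev, inv_mul_cancel_left]
    rw [← mul_assoc x x, h.x_sq, one_mul]
  rw [e, ← h.e_comm (h.translate g') g, mul_assoc _ g g⁻¹, mul_inv_cancel, mul_one]

theorem translate_eq_one {g : S} (hg : g * x * g⁻¹ * x = 1) : Commute g x := by
  have h1 : g * x * g⁻¹ = x := by rw [eq_inv_of_mul_eq_one_left hg, h.x_inv]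
  exact mul_inv_eq_iff_eq_mul.1 h1

theorem translate_cent {g : S} (hg : Commute g x) : g * x * g⁻¹ * x = 1 := by
  rw [hg.eq, mul_inv_cancel_right, h.x_sq]

theorem sq_comm {g : S} : Commute (g * g) x := h.translate_eq_one <| by
  rw [h.translate_mul]; exact h.elem _ (h.translate g)

/-- Squares in the centralizer of `x` lie in `E`. -/
theorem cent_sq {g : S} (hg : Commute g x) : g * g ∈ E := by
  obtain ⟨v, hv, e | e⟩ := h.cent g hg <;> rw [e]
  · exact h.sq v hv
  · have hc := (h.x_comm v hv).eq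
    rw [show v * x * (v * x) = v * (x * v) * x by simp [mul_assoc], hc, mul_assoc, mul_assoc, h.x_sq,
      mul_one]
    exact h.sq v hv

theorem cent_sq_one {g : S} (hg : Commute g x) (h1 : g * g = 1) : g ∈ E ∨ g * x ∈ E := by
  obtain ⟨v, hv, e | e⟩ := h.cent g hg <;> rw [e] at h1 ⊢
  · exact Or.inl (h.invol v hv h1)
  · right
    rw [mul_assoc, h.x_sq, mul_one]
    refine h.invol v hv ?_
    have hc := (h.x_comm v hv).eq
    rwa [show v * x * (v * x) = v * (x * v) * x by simp [mul_assoc], hc, mul_assoc, mul_assoc, h.x_sq,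
      mul_one] at h1

theorem cent_conj {g π : S} (hπ : Commute π x) : Commute (g * π * g⁻¹) x := h.translate_eq_one <| by
  rw [h.translate_mul, h.translate_mul, h.translate_cent hπ, mul_one, ← h.translate_mul, mul_inv_cancel]
  simp [h.x_sq]

theorem x_notMem_E : x ∉ E := fun hx => h.x_notMem (h.le hx)

theorem e_cent {e : S} (he : e ∈ E) : Commute e x := h.e_comm he x

/-- The defect of squaring in the centralizer of `x` is the commutator. -/
theorem cent_swap {a b : S} (ha : Commute a x) (hb : Commute b x) :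
    b * a = a * b * ((a * b) * (a * b) * (a * a) * (b * b)) := by
  have hu := h.cent_sq ha
  have hv := h.cent_sq hb
  have hw := h.cent_sq (ha.mul_left hb)
  have hai : a⁻¹ = a * (a * a) := inv_eq_of_mul_eq_one_right (by rw [← mul_assoc]; exact h.elem _ hu)
  have hbi : b⁻¹ = b * (b * b) := inv_eq_of_mul_eq_one_right (by rw [← mul_assoc]; exact h.elem _ hv)
  calc b * a = a⁻¹ * ((a * b) * (a * b)) * b⁻¹ := by simp [mul_assoc]
    _ = a * ((a * a) * ((a * b) * (a * b)) * b) * (b * b) := by rw [hai, hbi]; simp only [mul_assoc]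
    _ = a * (b * ((a * a) * ((a * b) * (a * b)))) * (b * b) := by
        rw [h.e_comm (E.mul_mem hu hw) b]
    _ = a * b * ((a * b) * (a * b) * (a * a) * (b * b)) := by
        rw [h.e_comm hu ((a * b) * (a * b))]; simp only [mul_assoc]

theorem cent_comm_mem {a b : S} (ha : Commute a x) (hb : Commute b x) :
    (a * b) * (a * b) * (a * a) * (b * b) ∈ E :=
  E.mul_mem (E.mul_mem (h.cent_sq (ha.mul_left hb)) (h.cent_sq ha)) (h.cent_sq hb)

theorem cent_bilin {a b c : S} (ha : Commute a x) (hb : Commute b x) (hc : Commute c x) :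
    (a * b * c) * (a * b * c) * ((a * b) * (a * b)) * (c * c) =
      ((a * c) * (a * c) * (a * a) * (c * c)) * ((b * c) * (b * c) * (b * b) * (c * c)) := by
  have e3 := h.cent_swap (ha.mul_left hb) hc
  have e1 := h.cent_swap ha hc
  have e2 := h.cent_swap hb hc
  have hk1 := h.cent_comm_mem ha hc
  generalize (a * c) * (a * c) * (a * a) * (c * c) = k₁ at e1 hk1 ⊢
  generalize (b * c) * (b * c) * (b * b) * (c * c) = k₂ at e2 ⊢
  generalize (a * b * c) * (a * b * c) * ((a * b) * (a * b)) * (c * c) = k₃ at e3 ⊢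
  have e4 : c * (a * b) = a * b * c * (k₁ * k₂) := by
    calc c * (a * b) = c * a * b := (mul_assoc _ _ _).symm
      _ = a * c * (k₁ * b) := by rw [e1, mul_assoc]
      _ = a * (c * b) * k₁ := by rw [h.e_comm hk1 b]; simp only [mul_assoc]
      _ = a * b * c * (k₂ * k₁) := by rw [e2]; simp only [mul_assoc]
      _ = a * b * c * (k₁ * k₂) := by rw [h.e_comm hk1 k₂]
  exact mul_left_cancel (e3.symm.trans e4)

/-- `E ∪ E x`. -/
def kerE : Subgroup S where
  carrier := {a | a ∈ E ∨ a * x ∈ E}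
  one_mem' := Or.inl E.one_mem
  mul_mem' {a b} ha hb := by
    rcases ha with ha | ha <;> rcases hb with hb | hb
    · exact Or.inl (E.mul_mem ha hb)
    · exact Or.inr (by rw [mul_assoc]; exact E.mul_mem ha hb)
    · exact Or.inr (by rw [mul_assoc, h.e_comm hb x, ← mul_assoc]; exact E.mul_mem ha hb)
    · refine Or.inl ?_
      have hxb : x * b = b * x := by
        calc x * b = x * (b * x) * x := by rw [mul_assoc, mul_assoc, h.x_sq, mul_one]
          _ = b * x * (x * x) := by rw [← h.e_comm hb x, mul_assoc]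
          _ = b * x := by rw [h.x_sq, mul_one]
      have e : a * x * (b * x) = a * b := by
        rw [← hxb, mul_assoc, ← mul_assoc x x, h.x_sq, one_mul]
      rw [← e]; exact E.mul_mem ha hb
  inv_mem' {a} ha := by
    rcases ha with ha | ha
    · exact Or.inl (E.inv_mem ha)
    · refine Or.inr ?_
      have hax : a = a * x * x := by rw [mul_assoc, h.x_sq, mul_one]
      rw [hax, mul_inv_rev, h.x_inv, ← h.e_comm (E.inv_mem ha) x, mul_assoc, h.x_sq, mul_one]
      exact E.inv_mem ha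

theorem mem_kerE {a : S} : a ∈ h.kerE ↔ a ∈ E ∨ a * x ∈ E := Iff.rfl

theorem kerE_comm {k a : S} (hk : k ∈ h.kerE) (ha : Commute a x) : Commute k a := by
  rcases hk with hk | hk
  · exact h.e_comm hk a
  · have : k = k * x * x := by rw [mul_assoc, h.x_sq, mul_one]
    rw [this]
    exact (show Commute (k * x) a from h.e_comm hk a).mul_left ha.symm

theorem kerE_cent {k : S} (hk : k ∈ h.kerE) : Commute k x := h.kerE_comm hk (Commute.refl x)

theorem kerE_sq {k : S} (hk : k ∈ h.kerE) : k * k = 1 := by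
  rcases hk with hk | hk
  · exact h.elem k hk
  · have e : k * k = (k * x) * (k * x) := by
      rw [mul_assoc k x (k * x), ← mul_assoc x k x, ← (h.kerE_cent (Or.inr hk)).eq, mul_assoc k x x, h.x_sq, mul_one]
    rw [e]; exact h.elem _ hk

theorem card_cent_le : Nat.card (Subgroup.centralizer ({x} : Set S)) ≤ Nat.card Q * 2 := by
  classical
  let toPair : Subgroup.centralizer ({x} : Set S) → Q × Bool := fun g =>
    if hg : (g : S) ∈ Q then (⟨g.1, hg⟩, false)
    else (⟨g.1 * x, (h.mem_cent_iff.1 (Subgroup.mem_centralizer_singleton_iff.1 g.2)).resolve_left hg⟩, true)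
  have : Function.Injective toPair := by
    intro a b hab
    apply Subtype.ext
    simp only [toPair] at hab
    split_ifs at hab with h1 h2
    · exact congrArg (fun q : Q × Bool => (q.1 : S)) hab
    · exact absurd (congrArg Prod.snd hab) (by simp)
    · exact absurd (congrArg Prod.snd hab) (by simp)
    · exact mul_right_cancel (congrArg (fun q : Q × Bool => (q.1 : S)) hab)
  have := Nat.card_le_card_of_injective toPair this
  rwa [Nat.card_prod, show Nat.card Bool = 2 by simp] at this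

theorem card_kerE_ge : Nat.card E * 2 ≤ Nat.card h.kerE := by
  let i : E × Bool → h.kerE := fun p => if p.2
    then ⟨p.1.1 * x, Or.inr (by rw [mul_assoc, h.x_sq, mul_one]; exact p.1.2)⟩
    else ⟨p.1.1, Or.inl p.1.2⟩
  have hi : Function.Injective i := by
    rintro ⟨a, s⟩ ⟨b, t⟩ hab
    have hab' := congrArg Subtype.val hab
    cases s <;> cases t <;> simp only [i] at hab'
    · exact Prod.ext (Subtype.ext hab') rfl
    · exfalso
      refine h.x_notMem_E ?_
      have : x = b.1⁻¹ * a.1 := by rw [eq_inv_mul_iff_mul_eq]; exact hab'.symm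
      rw [this]; exact E.mul_mem (E.inv_mem b.2) a.2
    · exfalso
      refine h.x_notMem_E ?_
      have : x = a.1⁻¹ * b.1 := by rw [eq_inv_mul_iff_mul_eq]; exact hab'
      rw [this]; exact E.mul_mem (E.inv_mem a.2) b.2
    · exact Prod.ext (Subtype.ext (mul_right_cancel hab')) rfl
  have := Nat.card_le_card_of_injective i hi
  rwa [Nat.card_prod, show Nat.card Bool = 2 by simp] at this

/-- **Step A**: the conjugation action on `C(x) / E⟨x⟩` is trivial. -/
theorem conj_mem (g : S) {π : S} (hπ : Commute π x) : g * π * g⁻¹ * π⁻¹ ∈ h.kerE := by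
  classical
  set P : Subgroup S := Subgroup.centralizer {x} with hP
  have memP : ∀ {a : S}, a ∈ P ↔ Commute a x := fun {a} => Subgroup.mem_centralizer_singleton_iff
  haveI hPn : P.Normal := ⟨fun a ha c => memP.2 (h.cent_conj (memP.1 ha))⟩
  set K : Subgroup P := h.kerE.subgroupOf P with hK
  haveI hKn : K.Normal := ⟨fun a ha c => by
    show (c : S) * a.1 * (c : S)⁻¹ ∈ h.kerE
    have ha' : a.1 ∈ h.kerE := ha
    rw [← (h.kerE_comm ha' (memP.1 c.2)).eq, mul_inv_cancel_right]; exact ha'⟩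
  have hconjK : ∀ (g : S) (a : P), a ∈ K → MulAut.conjNormal g a ∈ K := fun g a ha => by
    show ((MulAut.conjNormal g a : P) : S) ∈ h.kerE
    rw [MulAut.conjNormal_apply]
    have hc := h.cent_conj (g := g) (memP.1 a.2)
    refine h.cent_sq_one hc ?_
    have ha' : a.1 ∈ h.kerE := ha
    rw [show g * a.1 * g⁻¹ * (g * a.1 * g⁻¹) = g * (a.1 * a.1) * g⁻¹ by group, h.kerE_sq ha', mul_one,
      mul_inv_cancel]
  let conjQ : S → (P ⧸ K →* P ⧸ K) := fun g =>
    QuotientGroup.map K K (MulAut.conjNormal g).toMonoidHom (fun a ha => hconjK g a ha)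
  have hcq : ∀ g (a : P), conjQ g (a : P ⧸ K) = ((MulAut.conjNormal g a : P) : P ⧸ K) := fun g a => rfl
  have hcq_mul : ∀ g g' ξ, conjQ (g * g') ξ = conjQ g (conjQ g' ξ) := fun g g' ξ => by
    induction ξ using QuotientGroup.induction_on with
    | H a => rw [hcq, hcq, hcq, map_mul]; rfl
  have hcq_one : ∀ ξ, conjQ 1 ξ = ξ := fun ξ => by
    induction ξ using QuotientGroup.induction_on with
    | H a => rw [hcq, map_one]; rfl
  let ρ : S →* MulAut (P ⧸ K) :=
    { toFun := fun g =>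
        { toFun := conjQ g
          invFun := conjQ g⁻¹
          left_inv := fun ξ => by rw [← hcq_mul, inv_mul_cancel, hcq_one]
          right_inv := fun ξ => by rw [← hcq_mul, mul_inv_cancel, hcq_one]
          map_mul' := map_mul _ }
      map_one' := MulEquiv.ext hcq_one
      map_mul' := fun g g' => MulEquiv.ext (hcq_mul g g') }
  have hρ : ∀ g (a : P), ρ g (a : P ⧸ K) = ((MulAut.conjNormal g a : P) : P ⧸ K) := hcq
  -- the square map
  let sq₀ : P → E := fun a => ⟨a.1 * a.1, h.cent_sq (memP.1 a.2)⟩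
  let f : P ⧸ K → E := fun ξ => Quotient.liftOn' ξ sq₀ fun a b hab => by
    rw [QuotientGroup.leftRel_apply] at hab
    apply Subtype.ext
    show a.1 * a.1 = b.1 * b.1
    have hk : a.1⁻¹ * b.1 ∈ h.kerE := hab
    have hb : b.1 = a.1 * (a.1⁻¹ * b.1) := (mul_inv_cancel_left _ _).symm
    generalize a.1⁻¹ * b.1 = k at hk hb
    rw [hb, mul_assoc a.1 k, ← mul_assoc k a.1, (h.kerE_comm hk (memP.1 a.2)).eq, mul_assoc a.1 k,
      h.kerE_sq hk, mul_one]
  have hf : ∀ a : P, f (a : P ⧸ K) = sq₀ a := fun a => rfl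
  have hV : ∀ ξ : P ⧸ K, ξ * ξ = 1 := fun ξ => by
    induction ξ using QuotientGroup.induction_on with
    | H a =>
      rw [← QuotientGroup.mk_mul, QuotientGroup.eq_one_iff]
      exact Or.inl (h.cent_sq (memP.1 a.2))
  have hzero : ∀ ξ, f ξ = 1 → ξ = 1 := fun ξ => by
    induction ξ using QuotientGroup.induction_on with
    | H a =>
      intro h1
      rw [QuotientGroup.eq_one_iff]
      exact h.cent_sq_one (memP.1 a.2) (congrArg Subtype.val h1)
  have hB : ∀ u v w, defect f (u * v) w = defect f u w * defect f v w := fun u v w => by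
    induction u using QuotientGroup.induction_on with
    | H a => induction v using QuotientGroup.induction_on with
      | H b => induction w using QuotientGroup.induction_on with
        | H c => exact Subtype.ext (h.cent_bilin (memP.1 a.2) (memP.1 b.2) (memP.1 c.2))
  have hle : Nat.card (P ⧸ K) ≤ Nat.card E ^ 2 := by
    have hkP : h.kerE ≤ P := fun k hk => memP.2 (h.kerE_cent hk)
    have e1 := Subgroup.card_eq_card_quotient_mul_card_subgroup K
    rw [Nat.card_congr (Subgroup.subgroupOfEquivOfLe hkP).toEquiv] at e1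
    have e2 := h.card_cent_le
    rw [← hP, e1] at e2
    have e3 : Nat.card (P ⧸ K) * (Nat.card E * 2) ≤ Nat.card E ^ 2 * (Nat.card E * 2) := calc
      _ ≤ Nat.card (P ⧸ K) * Nat.card h.kerE := Nat.mul_le_mul_left _ h.card_kerE_ge
      _ ≤ Nat.card Q * 2 := e2
      _ ≤ Nat.card E ^ 3 * 2 := Nat.mul_le_mul_right _ h.card_le
      _ = _ := by ring
    exact Nat.le_of_mul_le_mul_right e3 (by have := h.four_le; omega)
  -- the automorphisms
  have haut : ∀ e e' : E, e ≠ 1 → e' ≠ 1 → ∃ c ∈ C, c e.1 = e'.1 := fun e e' he he' =>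
    h.trans e.1 e.2 e'.1 e'.2 (fun k => he (Subtype.ext k)) fun k => he' (Subtype.ext k)
  have hcx : ∀ c ∈ C, ∀ a, Commute (c a) x ↔ Commute a x := fun c hc a =>
    ⟨fun hh => c.injective (by rw [map_mul, map_mul, h.fix_x c hc]; exact hh.eq), fun hh => by
      have := hh.map c; rwa [h.fix_x c hc] at this⟩
  have hker : ∀ g, ρ g = 1 → ∀ π, Commute π x → g * π * g⁻¹ * π⁻¹ ∈ h.kerE := fun g hg π hπ => by
    have e : ρ g ((⟨π, memP.2 hπ⟩ : P) : P ⧸ K) = ((⟨π, memP.2 hπ⟩ : P) : P ⧸ K) := by rw [hg]; rfl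
    rw [hρ, eq_comm, QuotientGroup.eq] at e
    have e' : π⁻¹ * (g * π * g⁻¹) ∈ h.kerE := e
    have e2 := h.kerE_comm e' hπ
    have e3 : g * π * g⁻¹ * π⁻¹ = π * (π⁻¹ * (g * π * g⁻¹)) * π⁻¹ := by group
    rw [e3, ← e2.eq, mul_inv_cancel_right]
    exact e'
  by_contra hnot
  have hne : ρ g ≠ 1 := fun e => hnot (hker g e π hπ)
  have hP1 : ∀ a, Commute a x → ρ a = 1 := fun a ha => MulEquiv.ext fun ξ => by
    induction ξ using QuotientGroup.induction_on with
    | H b =>
      rw [hρ, MulAut.one_apply, eq_comm, QuotientGroup.eq]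
      show b.1⁻¹ * ((MulAut.conjNormal a b : P) : S) ∈ h.kerE
      rw [MulAut.conjNormal_apply]
      have e := h.cent_swap (memP.1 b.2) ha
      have hk := h.cent_comm_mem (memP.1 b.2) ha
      generalize (b.1 * a) * (b.1 * a) * (b.1 * b.1) * (a * a) = k at e hk
      rw [e, ← mul_assoc, ← mul_assoc, ← mul_assoc, inv_mul_cancel, one_mul, mul_assoc,
        h.e_comm hk, ← mul_assoc, mul_inv_cancel, one_mul]
      exact Or.inl hk
  -- the kernel is the centralizer of `x`
  have hkerP : ∀ a, ρ a = 1 → Commute a x := by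
    intro a ha
    by_contra hax
    apply hne
    have hg1 : g * x * g⁻¹ * x ≠ 1 := fun e => hne (hP1 g (h.translate_eq_one e))
    obtain ⟨c, hc, hce⟩ := h.trans (a * x * a⁻¹ * x) (h.translate a) (g * x * g⁻¹ * x) (h.translate g)
      (fun e => hax (h.translate_eq_one e)) hg1
    have hca : ρ (c a) = 1 := MulEquiv.ext fun ξ => by
      induction ξ using QuotientGroup.induction_on with
      | H b =>
        rw [hρ, MulAut.one_apply, eq_comm, QuotientGroup.eq]
        show b.1⁻¹ * ((MulAut.conjNormal (c a) b : P) : S) ∈ h.kerE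
        rw [MulAut.conjNormal_apply]
        have hb' : Commute (c⁻¹ b.1) x := by
          rw [← hcx c hc, MulAut.apply_inv_self]; exact memP.1 b.2
        have hk := hker a ha _ hb'
        have hk' : c (a * c⁻¹ b.1 * a⁻¹ * (c⁻¹ b.1)⁻¹) ∈ h.kerE := by
          rcases hk with hk | hk
          · exact Or.inl (h.stab_E c hc _ hk)
          · refine Or.inr ?_
            have := h.stab_E c hc _ hk
            rwa [map_mul, h.fix_x c hc] at this
        simp only [map_mul, map_inv, MulAut.apply_inv_self] at hk'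
        have e2 := h.kerE_comm hk' (memP.1 b.2)
        have e3 : b.1⁻¹ * (c a * b.1 * (c a)⁻¹) = b.1⁻¹ * (c a * b.1 * (c a)⁻¹ * b.1⁻¹) * b.1 := by group
        rw [e3, mul_assoc, e2.eq, inv_mul_cancel_left]
        exact hk'
    have e : Commute ((c a)⁻¹ * g) x := h.translate_eq_one <| by
      rw [h.translate_mul]
      have e2 : (c a * x * (c a)⁻¹ * x) = g * x * g⁻¹ * x := by
        rw [← hce]; simp only [map_mul, map_inv, h.fix_x c hc]
      rw [← e2, ← h.translate_mul, inv_mul_cancel]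
      simp [h.x_sq]
    have := hP1 _ e
    rwa [map_mul, map_inv, hca, inv_one, one_mul] at this
  -- two elements with three different translations
  obtain ⟨e₁, he₁, e₂, he₂, h12, h1, h2⟩ : ∃ e₁ ∈ E, ∃ e₂ ∈ E, e₁ ≠ e₂ ∧ e₁ ≠ 1 ∧ e₂ ≠ 1 := by
    haveI : Fintype E := Fintype.ofFinite E
    have h4 : 2 < (Finset.univ : Finset E).card := by
      rw [Finset.card_univ, ← Nat.card_eq_fintype_card]; have := h.four_le; omega
    obtain ⟨a, b, c, -, -, -, hab, hac, hbc⟩ := Finset.two_lt_card_iff.1 h4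
    rcases eq_or_ne a 1 with rfl | ha
    · exact ⟨b, b.2, c, c.2, fun e => hbc (Subtype.ext e), fun e => hab (Subtype.ext e).symm,
        fun e => hac (Subtype.ext e).symm⟩
    · rcases eq_or_ne b 1 with rfl | hb
      · exact ⟨a, a.2, c, c.2, fun e => hac (Subtype.ext e), fun e => ha (Subtype.ext e),
          fun e => hbc (Subtype.ext e).symm⟩
      · exact ⟨a, a.2, b, b.2, fun e => hab (Subtype.ext e), fun e => ha (Subtype.ext e),
          fun e => hb (Subtype.ext e)⟩
  obtain ⟨g₁, hg₁⟩ := h.surj e₁ he₁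
  obtain ⟨g₂, hg₂⟩ := h.surj e₂ he₂
  have t₁ : g₁ * x * g₁⁻¹ * x = e₁ := by rw [hg₁, mul_assoc, h.x_sq, mul_one]
  have t₂ : g₂ * x * g₂⁻¹ * x = e₂ := by rw [hg₂, mul_assoc, h.x_sq, mul_one]
  refine no_two_in_image (ρ := ρ) (f := f) hV (fun e => Subtype.ext (h.elem _ e.2)) h.four_le hle hzero hB
    h.two ?_ ?_ (g₁ := g₁) (g₂ := g₂) ?_ ?_ ?_
  · intro a ξ
    induction ξ using QuotientGroup.induction_on with
    | H b =>
      rw [hρ, hf, hf]
      apply Subtype.ext
      show ((MulAut.conjNormal a b : P) : S) * ((MulAut.conjNormal a b : P) : S) = b.1 * b.1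
      rw [MulAut.conjNormal_apply, show a * b.1 * a⁻¹ * (a * b.1 * a⁻¹) = a * (b.1 * b.1) * a⁻¹ by group,
        ← h.e_comm (h.cent_sq (memP.1 b.2)) a, mul_inv_cancel_right]
  · intro e e' he he'
    obtain ⟨c, hc, hce⟩ := haut e e' he he'
    let c' : P →* P :=
      { toFun := fun a => ⟨c a.1, memP.2 ((hcx c hc _).2 (memP.1 a.2))⟩
        map_one' := Subtype.ext (map_one c)
        map_mul' := fun a b => Subtype.ext (map_mul c _ _) }
    have hc'K : ∀ a ∈ K, c' a ∈ K := fun a ha => by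
      rcases (ha : a.1 ∈ h.kerE) with ha | ha
      · exact Or.inl (h.stab_E c hc _ ha)
      · refine Or.inr ?_
        have := h.stab_E c hc _ ha
        rwa [map_mul, h.fix_x c hc] at this
    let cV : P ⧸ K →* P ⧸ K := QuotientGroup.map K K c' fun a ha => hc'K a ha
    have hcV : ∀ a : P, cV (a : P ⧸ K) = ((c' a : P) : P ⧸ K) := fun a => rfl
    have hcVinj : Function.Injective cV := (injective_iff_map_eq_one cV).2 fun ξ => by
      induction ξ using QuotientGroup.induction_on with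
      | H a =>
        rw [hcV, QuotientGroup.eq_one_iff, QuotientGroup.eq_one_iff]
        intro ha
        refine h.cent_sq_one (memP.1 a.2) (c.injective ?_)
        rw [map_mul, map_one]
        exact h.kerE_sq ha
    let cE : E →* E :=
      { toFun := fun a => ⟨c a.1, h.stab_E c hc _ a.2⟩
        map_one' := Subtype.ext (map_one c)
        map_mul' := fun a b => Subtype.ext (map_mul c _ _) }
    have hcEinj : Function.Injective cE := fun a b hab => Subtype.ext (c.injective (congrArg Subtype.val hab))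
    refine ⟨MulEquiv.ofBijective cV ⟨hcVinj, Finite.surjective_of_injective hcVinj⟩,
      MulEquiv.ofBijective cE ⟨hcEinj, Finite.surjective_of_injective hcEinj⟩, ?_, Subtype.ext hce, ?_, ?_⟩
    · intro ξ
      induction ξ using QuotientGroup.induction_on with
      | H a => exact Subtype.ext (map_mul c a.1 a.1).symm
    · intro b
      refine ⟨c⁻¹ b, fun ξ => ?_⟩
      induction ξ using QuotientGroup.induction_on with
      | H a =>
        show ρ b (cV (a : P ⧸ K)) = cV (ρ (c⁻¹ b) (a : P ⧸ K))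
        rw [hcV, hρ, hρ, hcV]
        refine congrArg _ (Subtype.ext ?_)
        show ((MulAut.conjNormal b (c' a) : P) : S) = c ((MulAut.conjNormal (c⁻¹ b) a : P) : S)
        simp only [MulAut.conjNormal_apply, map_mul, map_inv, MulAut.apply_inv_self]
        rfl
    · intro b
      refine ⟨c b, fun ξ => ?_⟩
      induction ξ using QuotientGroup.induction_on with
      | H a =>
        show ρ (c b) (cV (a : P ⧸ K)) = cV (ρ b (a : P ⧸ K))
        rw [hcV, hρ, hρ, hcV]
        refine congrArg _ (Subtype.ext ?_)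
        show ((MulAut.conjNormal (c b) (c' a) : P) : S) = c ((MulAut.conjNormal b a : P) : S)
        simp only [MulAut.conjNormal_apply, map_mul, map_inv]
        rfl
  · intro e
    exact h1 (t₁.symm.trans (h.translate_cent (hkerP _ e)))
  · intro e
    exact h2 (t₂.symm.trans (h.translate_cent (hkerP _ e)))
  · intro e
    have e' := h.translate_cent (hkerP _ e)
    rw [h.translate_mul, t₁, t₂] at e'
    exact h12 (by rw [eq_inv_of_mul_eq_one_left e', h.e_inv he₂])

theorem q_conj_cases (g : S) {v : S} (hv : v ∈ Q) :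
    ∃ e ∈ E, g * v * g⁻¹ = e * v ∨ g * v * g⁻¹ = e * x * v := by
  rcases h.conj_mem g (h.x_comm v hv).symm with hk | hk
  · exact ⟨_, hk, Or.inl (inv_mul_cancel_right _ _).symm⟩
  · exact ⟨_, hk, Or.inr (by rw [mul_assoc _ x x, h.x_sq, mul_one, inv_mul_cancel_right])⟩

theorem notMem_of_x {e v : S} (he : e ∈ E) (hv : v ∈ Q) : e * x * v ∉ Q := fun hh => by
  refine h.x_notMem ?_
  have : x = e⁻¹ * (e * x * v) * v⁻¹ := by group
  rw [this]
  exact Q.mul_mem (Q.mul_mem (Q.inv_mem (h.le he)) hh) (Q.inv_mem hv)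

/-- **Step B**: the regular group is normal. -/
theorem conj_mem_Q (g : S) {v : S} (hv : v ∈ Q) : g * v * g⁻¹ ∈ Q := by
  classical
  have hPQ : ∀ {π : S}, Commute π x → ∀ w ∈ Q, π * w * π⁻¹ ∈ Q := fun {π} hπ w hw => by
    obtain ⟨u, hu, e | e⟩ := h.cent π hπ
    · rw [e]; exact Q.mul_mem (Q.mul_mem hu hw) (Q.inv_mem hu)
    · rw [e, show u * x * w * (u * x)⁻¹ = u * (x * w * x⁻¹) * u⁻¹ by group, (h.x_comm w hw).eq,
        mul_inv_cancel_right]
      exact Q.mul_mem (Q.mul_mem hu hw) (Q.inv_mem hu)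
  by_contra hg0
  have hall : ∀ a, ¬ Commute a x → ∃ w ∈ Q, a * w * a⁻¹ ∉ Q := by
    intro a hax
    by_contra hno
    push Not at hno
    have hg1 : g * x * g⁻¹ * x ≠ 1 := fun e => hg0 (hPQ (h.translate_eq_one e) v hv)
    obtain ⟨c, hc, hce⟩ := h.trans (a * x * a⁻¹ * x) (h.translate a) (g * x * g⁻¹ * x) (h.translate g)
      (fun e => hax (h.translate_eq_one e)) hg1
    have e2 : c a * x * (c a)⁻¹ * x = g * x * g⁻¹ * x := by
      rw [← hce]; simp only [map_mul, map_inv, h.fix_x c hc]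
    have hπ : Commute ((c a)⁻¹ * g) x := h.translate_eq_one <| by
      rw [h.translate_mul, ← e2, ← h.translate_mul, inv_mul_cancel]; simp [h.x_sq]
    have hci : ∀ w ∈ Q, c⁻¹ w ∈ Q := fun w hw => by
      obtain ⟨⟨u, hu⟩, hu'⟩ := Finite.surjective_of_injective
        (f := fun u : Q => (⟨c u.1, h.stab_Q c hc _ u.2⟩ : Q))
        (fun p r hpr => Subtype.ext (c.injective (congrArg Subtype.val hpr))) ⟨w, hw⟩
      have : c u = w := congrArg Subtype.val hu'
      rw [← this, MulAut.inv_apply_self]; exact hu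
    refine hg0 ?_
    have h1 := hPQ hπ v hv
    have h2 := h.stab_Q c hc _ (hno _ (hci _ h1))
    simp only [map_mul, map_inv, MulAut.apply_inv_self] at h2
    rwa [show c a * ((c a)⁻¹ * g * v * ((c a)⁻¹ * g)⁻¹) * (c a)⁻¹ = g * v * g⁻¹ by group] at h2
  -- the squares of the translations
  have hsq : ∀ a w, w ∈ Q →
      (a * w * a⁻¹ ∈ Q → a * a * w * (a * a)⁻¹ * w⁻¹ = 1) ∧
      (a * w * a⁻¹ ∉ Q → a * a * w * (a * a)⁻¹ * w⁻¹ = a * x * a⁻¹ * x) := by
    intro a w hw
    obtain ⟨e, he, hc | hc⟩ := h.q_conj_cases a hw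
    · refine ⟨fun _ => ?_, fun hn => absurd (by rw [hc]; exact Q.mul_mem (h.le he) hw) hn⟩
      rw [show a * a * w * (a * a)⁻¹ = a * (a * w * a⁻¹) * a⁻¹ by group, hc, ← mul_assoc, ← h.e_comm he a,
        show e * a * w * a⁻¹ = e * (a * w * a⁻¹) by group, hc, ← mul_assoc, h.elem e he, one_mul, mul_inv_cancel]
    · refine ⟨fun hi => absurd (hc ▸ hi) (h.notMem_of_x he hw), fun _ => ?_⟩
      rw [show a * a * w * (a * a)⁻¹ = a * (a * w * a⁻¹) * a⁻¹ by group, hc]
      calc a * (e * x * w) * a⁻¹ * w⁻¹ = (a * e * a⁻¹) * (a * x * a⁻¹) * (a * w * a⁻¹) * w⁻¹ := by group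
        _ = e * (a * x * a⁻¹) * (e * x) := by
            rw [← h.e_comm he a, mul_inv_cancel_right, hc]; group
        _ = a * x * a⁻¹ * x := by
            rw [h.e_comm he (a * x * a⁻¹), mul_assoc, ← mul_assoc e e x, h.elem e he, one_mul]
  have htr : ∀ e : {e : S // e ∈ E ∧ e ≠ 1}, ∃ a, a * x * a⁻¹ * x = e.1 := fun e => by
    obtain ⟨a, ha⟩ := h.surj e.1 e.2.1
    exact ⟨a, by rw [ha, mul_assoc, h.x_sq, mul_one]⟩
  choose T hT using htr
  have hTx : ∀ e, ¬ Commute (T e) x := fun e hh => e.2.2 ((hT e).symm.trans (h.translate_cent hh))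
  set W : {e : S // e ∈ E ∧ e ≠ 1} → S := fun e => T e * T e with hW
  have hWx : ∀ e, Commute (W e) x := fun e => h.sq_comm
  have hWv : ∀ e w, w ∈ Q → W e * w * (W e)⁻¹ * w⁻¹ = 1 ∨ W e * w * (W e)⁻¹ * w⁻¹ = e.1 := fun e w hw => by
    by_cases hi : T e * w * (T e)⁻¹ ∈ Q
    · exact Or.inl ((hsq _ _ hw).1 hi)
    · exact Or.inr (((hsq _ _ hw).2 hi).trans (hT e))
  have hWπ : ∀ e π, Commute π x → W e * π * (W e)⁻¹ * π⁻¹ = 1 ∨ W e * π * (W e)⁻¹ * π⁻¹ = e.1 := fun e π hπ => by
    obtain ⟨u, hu, eu | eu⟩ := h.cent π hπ <;> rw [eu]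
    · exact hWv e u hu
    · have : W e * (u * x) * (W e)⁻¹ * (u * x)⁻¹ = W e * u * (W e)⁻¹ * u⁻¹ := by
        rw [mul_inv_rev u x, show W e * (u * x) * (W e)⁻¹ = W e * u * (x * (W e)⁻¹) by group,
          ← ((hWx e).inv_left).eq]
        group
      rw [this]; exact hWv e u hu
  have hWhit : ∀ e, ∃ w ∈ Q, W e * w * (W e)⁻¹ * w⁻¹ = e.1 := fun e => by
    obtain ⟨w, hw, hn⟩ := hall _ (hTx e)
    exact ⟨w, hw, ((hsq _ _ hw).2 hn).trans (hT e)⟩
  have hcomm : ∀ e e', Commute (W e) (W e') := fun e e' => by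
    rcases eq_or_ne e e' with rfl | hne
    · exact Commute.refl _
    rcases hWπ e _ (hWx e') with h1 | h1
    · exact mul_inv_eq_iff_eq_mul.1 (eq_of_mul_inv_eq_one h1)
    rcases hWπ e' _ (hWx e) with h2 | h2
    · exact (mul_inv_eq_iff_eq_mul.1 (eq_of_mul_inv_eq_one h2) : Commute (W e') (W e)).symm
    exfalso
    apply hne
    have : e.1 = e'.1⁻¹ := by rw [← h1, ← h2]; group
    exact Subtype.ext (this.trans (h.e_inv e'.2.1))
  have hcen : ∀ {k π : S}, k ∈ h.kerE → Commute π x → ∀ y, (π * k) * y * (π * k)⁻¹ = π * (k * y * k⁻¹) * π⁻¹ :=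
    fun _ _ y => by group
  have hnker : ∀ e, W e ∉ h.kerE := fun e hk => by
    obtain ⟨w, hw, hw'⟩ := hWhit e
    rw [(h.kerE_comm hk (h.x_comm w hw).symm).eq, mul_inv_cancel_right, mul_inv_cancel] at hw'
    exact e.2.2 hw'.symm
  have hdiff : ∀ e e', W e' * (W e)⁻¹ ∈ h.kerE → e = e' := fun e e' hk => by
    obtain ⟨w, hw, hw'⟩ := hWhit e'
    have hwx := (h.x_comm w hw).symm
    have e1 : W e' * w * (W e')⁻¹ * w⁻¹ = W e * w * (W e)⁻¹ * w⁻¹ := by
      have e2 : W e' = W e' * (W e)⁻¹ * W e := (inv_mul_cancel_right _ _).symm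
      rw [e2]
      have hkc := h.kerE_comm hk ((((hWx e).mul_left hwx).mul_left (hWx e).inv_left))
      generalize W e' * (W e)⁻¹ = k at hkc
      rw [show k * W e * w * (k * W e)⁻¹ = k * (W e * w * (W e)⁻¹) * k⁻¹ by group, hkc.eq,
        mul_inv_cancel_right]
    rw [hw'] at e1
    rcases hWv e w hw with h0 | h0 <;> rw [h0] at e1
    · exact absurd e1 e'.2.2
    · exact Subtype.ext e1.symm
  let σ : {e : S // e ∈ E ∧ e ≠ 1} → {e : S // e ∈ E ∧ e ≠ 1} := fun e =>
    ⟨W e * W e, h.cent_sq (hWx e), fun h1 => hnker e (h.cent_sq_one (hWx e) h1)⟩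
  have hσinj : Function.Injective σ := fun e e' hee => by
    refine hdiff e e' (h.cent_sq_one ((hWx e').mul_left (hWx e).inv_left) ?_)
    have e1 : W e * W e = W e' * W e' := congrArg Subtype.val hee
    calc W e' * (W e)⁻¹ * (W e' * (W e)⁻¹) = (W e' * W e') * ((W e)⁻¹ * (W e)⁻¹) :=
          (hcomm e' e).inv_right.symm.mul_mul_mul_comm _ _
      _ = 1 := by rw [← e1]; group
  -- two translations
  obtain ⟨e₁, e₂, h12⟩ : ∃ e₁ e₂ : {e : S // e ∈ E ∧ e ≠ 1}, e₁ ≠ e₂ := by
    haveI : Fintype E := Fintype.ofFinite E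
    have h4 : 1 < ((Finset.univ : Finset E).erase 1).card := by
      rw [Finset.card_erase_of_mem (Finset.mem_univ _), Finset.card_univ, ← Nat.card_eq_fintype_card]
      have := h.four_le; omega
    obtain ⟨a, ha, b, hb, hab⟩ := Finset.one_lt_card.1 h4
    exact ⟨⟨a, a.2, fun e => Finset.ne_of_mem_erase ha (Subtype.ext e)⟩,
      ⟨b, b.2, fun e => Finset.ne_of_mem_erase hb (Subtype.ext e)⟩,
      fun e => hab (Subtype.ext (congrArg Subtype.val e :))⟩
  have h12S : e₁.1 ≠ e₂.1 := fun e => h12 (Subtype.ext e)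
  obtain ⟨w, hw, hsep⟩ : ∃ w ∈ Q, ¬ (T e₁ * w * (T e₁)⁻¹ ∈ Q ↔ T e₂ * w * (T e₂)⁻¹ ∈ Q) := by
    by_contra hno
    push Not at hno
    have hx12 : ¬ Commute (T e₁ * T e₂) x := fun hh => by
      have := h.translate_cent hh
      rw [h.translate_mul, hT, hT] at this
      exact h12S (by rw [eq_inv_of_mul_eq_one_left this, h.e_inv e₂.2.1])
    obtain ⟨w, hw, hn⟩ := hall _ hx12
    apply hn
    rw [show T e₁ * T e₂ * w * (T e₁ * T e₂)⁻¹ = T e₁ * (T e₂ * w * (T e₂)⁻¹) * (T e₁)⁻¹ by group]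
    obtain ⟨e, he, hc | hc⟩ := h.q_conj_cases (T e₂) hw
    · have h1 := (hno w hw).2 (by rw [hc]; exact Q.mul_mem (h.le he) hw)
      rw [hc, ← mul_assoc, ← h.e_comm he, mul_assoc e, mul_assoc e]
      exact Q.mul_mem (h.le he) h1
    · have h1 : T e₁ * w * (T e₁)⁻¹ ∉ Q := fun hh =>
        h.notMem_of_x he hw (hc ▸ (hno w hw).1 hh)
      obtain ⟨e', he', hc' | hc'⟩ := h.q_conj_cases (T e₁) hw
      · exact absurd (by rw [hc']; exact Q.mul_mem (h.le he') hw) h1
      · rw [hc, show T e₁ * (e * x * w) * (T e₁)⁻¹ =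
            (T e₁ * e * (T e₁)⁻¹) * (T e₁ * x * (T e₁)⁻¹ * x) * (x⁻¹ * (T e₁ * w * (T e₁)⁻¹)) by group,
          ← h.e_comm he, mul_inv_cancel_right, hT, hc', h.x_inv,
          show e * e₁.1 * (x * (e' * x * w)) = e * e₁.1 * (x * e' * x) * w by group,
          ← h.e_comm he' x, mul_assoc e' x x, h.x_sq, mul_one]
        exact Q.mul_mem (Q.mul_mem (Q.mul_mem (h.le he) (h.le e₁.2.1)) (h.le he')) hw
  have hWx12 : Commute (W e₁ * W e₂) x := (hWx e₁).mul_left (hWx e₂)
  have hne12 : W e₁ * W e₂ ∉ h.kerE := fun hk => h12 (hdiff e₁ e₂ (by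
    have e3 : W e₂ * (W e₁)⁻¹ = (W e₁ * W e₂) * ((W e₁)⁻¹ * (W e₁)⁻¹) := by
      rw [(hcomm e₁ e₂).eq]; group
    rw [e3]
    refine h.kerE.mul_mem hk (Or.inl ?_)
    rw [← mul_inv_rev]
    exact E.inv_mem (h.cent_sq (hWx e₁))))
  obtain ⟨e₃, he₃⟩ := Finite.surjective_of_injective hσinj
    ⟨(W e₁ * W e₂) * (W e₁ * W e₂), h.cent_sq hWx12, fun h1 => hne12 (h.cent_sq_one hWx12 h1)⟩
  have hc3 : Commute (W e₁ * W e₂) (W e₃) := (hcomm e₁ e₃).mul_left (hcomm e₂ e₃)
  have hk : W e₁ * W e₂ * (W e₃)⁻¹ ∈ h.kerE := by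
    refine h.cent_sq_one (hWx12.mul_left (hWx e₃).inv_left) ?_
    have e1 : W e₃ * W e₃ = (W e₁ * W e₂) * (W e₁ * W e₂) := congrArg Subtype.val he₃
    calc W e₁ * W e₂ * (W e₃)⁻¹ * (W e₁ * W e₂ * (W e₃)⁻¹)
        = (W e₁ * W e₂ * (W e₁ * W e₂)) * ((W e₃)⁻¹ * (W e₃)⁻¹) := hc3.inv_right.symm.mul_mul_mul_comm _ _
      _ = 1 := by rw [← e1]; group
  have hwx := (h.x_comm w hw).symm
  have e1 : W e₁ * W e₂ * w * (W e₁ * W e₂)⁻¹ * w⁻¹ = W e₃ * w * (W e₃)⁻¹ * w⁻¹ := by
    have e2 : W e₁ * W e₂ = W e₁ * W e₂ * (W e₃)⁻¹ * W e₃ := (inv_mul_cancel_right _ _).symm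
    rw [e2]
    have hkc := h.kerE_comm hk ((((hWx e₃).mul_left hwx).mul_left (hWx e₃).inv_left))
    generalize W e₁ * W e₂ * (W e₃)⁻¹ = k at hkc
    rw [show k * W e₃ * w * (k * W e₃)⁻¹ = k * (W e₃ * w * (W e₃)⁻¹) * k⁻¹ by group, hkc.eq,
      mul_inv_cancel_right]
  have hcases : ∀ (a b : {e : S // e ∈ E ∧ e ≠ 1}),
      W a * w * (W a)⁻¹ * w⁻¹ = a.1 → W b * w * (W b)⁻¹ * w⁻¹ = 1 →
      W a * W b * w * (W a * W b)⁻¹ * w⁻¹ = a.1 := fun a b ha hb => by
    rw [show W a * W b * w * (W a * W b)⁻¹ * w⁻¹ = W a * (W b * w * (W b)⁻¹ * w⁻¹) * (W a)⁻¹ * (W a * w * (W a)⁻¹ * w⁻¹)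
      by group, hb, mul_one, mul_inv_cancel, one_mul, ha]
  have h3 : W e₃ * w * (W e₃)⁻¹ * w⁻¹ = 1 ∨ W e₃ * w * (W e₃)⁻¹ * w⁻¹ = e₃.1 := hWv e₃ w hw
  rw [← e1] at h3
  by_cases hi : T e₁ * w * (T e₁)⁻¹ ∈ Q
  · have hi2 : T e₂ * w * (T e₂)⁻¹ ∉ Q := fun hh => hsep ⟨fun _ => hh, fun _ => hi⟩
    have r1 : W e₁ * w * (W e₁)⁻¹ * w⁻¹ = 1 := (hsq _ _ hw).1 hi
    have r2 : W e₂ * w * (W e₂)⁻¹ * w⁻¹ = e₂.1 := ((hsq _ _ hw).2 hi2).trans (hT e₂)
    rw [(hcomm e₁ e₂).eq, hcases e₂ e₁ r2 r1] at h3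
    rcases h3 with h3 | h3
    · exact e₂.2.2 h3
    · obtain rfl : e₂ = e₃ := Subtype.ext h3
      rw [mul_inv_cancel_right] at hk
      exact hnker e₁ hk
  · have hi2 : T e₂ * w * (T e₂)⁻¹ ∈ Q := by
      by_contra hh
      exact hsep ⟨fun k => absurd k hi, fun k => absurd k hh⟩
    have r1 : W e₁ * w * (W e₁)⁻¹ * w⁻¹ = e₁.1 := ((hsq _ _ hw).2 hi).trans (hT e₁)
    have r2 : W e₂ * w * (W e₂)⁻¹ * w⁻¹ = 1 := (hsq _ _ hw).1 hi2
    rw [hcases e₁ e₂ r1 r2] at h3
    rcases h3 with h3 | h3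
    · exact e₁.2.2 h3
    · obtain rfl : e₁ = e₃ := Subtype.ext h3
      rw [(hcomm e₁ e₂).eq, mul_inv_cancel_right] at hk
      exact hnker e₂ hk

/-- **All squares lie in `E`.** -/
theorem sq_mem (g : S) : g * g ∈ E := by
  have hgg : Commute (g * g) x := h.sq_comm
  have hQ : ∀ w ∈ Q, Commute (g * g) w := fun w hw => by
    obtain ⟨e, he, hc | hc⟩ := h.q_conj_cases g hw
    · have e1 : g * g * w * (g * g)⁻¹ = w := by
        rw [show g * g * w * (g * g)⁻¹ = g * (g * w * g⁻¹) * g⁻¹ by group, hc, ← mul_assoc, ← h.e_comm he g,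
          show e * g * w * g⁻¹ = e * (g * w * g⁻¹) by group, hc, ← mul_assoc, h.elem e he, one_mul]
      exact mul_inv_eq_iff_eq_mul.1 e1
    · exact absurd (hc ▸ h.conj_mem_Q g hw) (h.notMem_of_x he hw)
  obtain ⟨u, hu, hgu | hgu⟩ := h.cent _ hgg
  · rw [hgu] at hQ ⊢
    exact h.center_le u hu hQ
  · exfalso
    have hucen : ∀ w ∈ Q, Commute u w := fun w hw => by
      have e1 := hQ w hw
      rw [hgu] at e1
      have e2 := e1.mul_left (h.x_comm w hw)
      rwa [mul_assoc, h.x_sq, mul_one] at e2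
    have huE := h.center_le u hu hucen
    have hgx : Commute g x := by
      have e1 : Commute g (u * x) := hgu ▸ (Commute.refl g).mul_right (Commute.refl g)
      have e2 : Commute g u := (h.e_comm huE g).symm
      have e3 := e2.inv_right.mul_right e1
      rwa [inv_mul_cancel_left] at e3
    have he := h.cent_sq hgx
    rw [hgu] at he
    refine h.x_notMem (h.le ?_)
    have := E.mul_mem (E.inv_mem huE) he
    rwa [inv_mul_cancel_left] at this

/-- `S / E` has exponent two, so all commutators lie in `E`. -/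
theorem comm_mem (a b : S) : a * b * a⁻¹ * b⁻¹ ∈ E := by
  rw [show a * b * a⁻¹ * b⁻¹ = (a * b) * (a * b) * (b⁻¹ * ((a * a)⁻¹) * b) * (b * b)⁻¹ by group]
  refine E.mul_mem (E.mul_mem (h.sq_mem _) ?_) (E.inv_mem (h.sq_mem _))
  rw [mul_assoc, h.e_comm (E.inv_mem (h.sq_mem a)) b, inv_mul_cancel_left]
  exact E.inv_mem (h.sq_mem a)

end CosetData

end CfsgLib.SECrit.Shape
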