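import Cfsg.Agent.Lib.Invol.SECriterion.Shape.CosetData
import Mathlib.Algebra.Order.Chebyshev
import Mathlib.Algebra.BigOperators.Fin
import Mathlib.Algebra.Order.BigOperators.Ring.Finset
import Mathlib.GroupTheory.Index
import Mathlib.Tactic.Group
import Mathlib.Tactic.Ring
import Mathlib.Tactic.Linarith

/-!
# The stabilizer of a coset: its involutions

If all squares of `S` lie in `E` and `Q` has `q ^ 3` elements, `q = |E|`, then `S` has at least
`q * (q ^ 2 + q)` elements of square one: the square map of `Q / E` is non-degenerate after every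
character, so in each translate the two values giving involutions are taken often enough.
-/

set_option autoImplicit false
set_option linter.style.haveILetI false

namespace CfsgLib.SECrit.Shape

universe u

variable {S : Type u} [Group S]

/-- The commutator of two elements. -/
def cm (v d : S) : S := v * d * v⁻¹ * d⁻¹

namespace CosetData

variable [Finite S] {E Q : Subgroup S} {x : S} {C : Subgroup (MulAut S)}
variable (h : CosetData E Q x C) (hsq : ∀ g : S, g * g ∈ E)
include h

theorem comm_E {e : S} (he : e ∈ E) (g : S) : g * e = e * g :=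
  Subgroup.mem_center_iff.1 (h.central he) g

theorem inv_E {e : S} (he : e ∈ E) : e⁻¹ = e := inv_eq_of_mul_eq_one_right (h.elem e he)

include hsq

theorem cm_mem (v d : S) : cm v d ∈ E := by
  have hv := hsq v
  have e1 : cm v d = v * d * (v * d) * (v * v)⁻¹ * (d * d)⁻¹ := by
    have e2 : v⁻¹ = v * (v * v)⁻¹ := by group
    have e3 : d⁻¹ = d * (d * d)⁻¹ := by group
    rw [cm]
    conv_lhs => rw [e2, e3]
    rw [show v * d * (v * (v * v)⁻¹) * (d * (d * d)⁻¹) = v * d * v * ((v * v)⁻¹ * d) * (d * d)⁻¹ by group,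
      ← h.comm_E (inv_mem hv) d]
    group
  rw [e1]
  exact mul_mem (mul_mem (hsq _) (inv_mem hv)) (inv_mem (hsq d))

theorem cm_mul_left (v w d : S) : cm (v * w) d = cm v d * cm w d := by
  have hw := h.cm_mem hsq w d
  calc cm (v * w) d = v * cm w d * (d * v⁻¹ * d⁻¹) := by unfold cm; group
    _ = cm w d * v * (d * v⁻¹ * d⁻¹) := by rw [h.comm_E hw]
    _ = cm w d * cm v d := by unfold cm; group
    _ = cm v d * cm w d := (h.comm_E hw _).symm

theorem cm_comm (v d : S) : cm d v = cm v d := by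
  rw [← h.inv_E (h.cm_mem hsq v d)]
  unfold cm; group

theorem cm_mul_right (g v d : S) : cm g (v * d) = cm g v * cm g d := by
  rw [h.cm_comm hsq, h.cm_mul_left hsq, h.cm_comm hsq g v, h.cm_comm hsq g d]

theorem sq_mul (v d : S) : v * d * (v * d) = v * v * (d * d * cm v d) := by
  have hc := h.cm_mem hsq v d
  calc v * d * (v * d) = v * (cm d v * v) * (d * d) := by unfold cm; group
    _ = v * v * cm v d * (d * d) := by rw [h.cm_comm hsq, ← h.comm_E hc v]; simp only [mul_assoc]
    _ = v * v * (d * d * cm v d) := by rw [mul_assoc (v * v), h.comm_E hc (d * d)]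

/-- An element of `Q` outside `E` has every element of `E` as commutator. -/
theorem cm_surj (hQ : Nat.card Q = Nat.card E ^ 3) {d : S} (hd : d ∈ Q) (hdE : d ∉ E) {f : S}
    (hf : f ∈ E) : ∃ v ∈ Q, cm v d = f := by
  classical
  haveI : Fact (Nat.Prime 2) := ⟨Nat.prime_two⟩
  letI := Fintype.ofFinite S
  let φ : Q →* E :=
    { toFun := fun v => ⟨cm (v : S) d, h.cm_mem hsq _ _⟩
      map_one' := Subtype.ext (by simp [cm])
      map_mul' := fun v w => Subtype.ext (h.cm_mul_left hsq _ _ _) }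
  suffices htop : φ.range = ⊤ by
    obtain ⟨v, hv⟩ := MonoidHom.range_eq_top.1 htop ⟨f, hf⟩
    exact ⟨v, v.2, congrArg Subtype.val hv⟩
  by_contra hne
  -- a subgroup of index two above the range
  obtain ⟨K, hK, hKr⟩ : ∃ K : Subgroup E, K.index = 2 ∧ φ.range ≤ K := by
    haveI : Nonempty {K : Subgroup E // φ.range ≤ K ∧ K ≠ ⊤} := ⟨⟨φ.range, le_rfl, hne⟩⟩
    letI := Fintype.ofFinite {K : Subgroup E // φ.range ≤ K ∧ K ≠ ⊤}
    obtain ⟨K, -, hmax⟩ := Finset.exists_max_image
      (Finset.univ : Finset {K : Subgroup E // φ.range ≤ K ∧ K ≠ ⊤}) (fun K => Nat.card K.1)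
      Finset.univ_nonempty
    obtain ⟨t, ht⟩ : ∃ t : E, t ∉ K.1 := by
      by_contra hh; push Not at hh; exact K.2.2 (eq_top_iff.2 fun t _ => hh t)
    refine ⟨K.1, Subgroup.index_eq_two_iff_exists_notMem_and.2 ⟨t, ht, fun b => ?_⟩, K.2.1⟩
    let K' : Subgroup E :=
      { carrier := {b | b ∈ K.1 ∨ t * b ∈ K.1}
        one_mem' := Or.inl (one_mem _)
        mul_mem' := fun {b c} hb hc => by
          have hc' : ∀ u w : E, u * w = w * u := fun u w => Subtype.ext (h.comm_E w.2 u)
          have htt : t * t = 1 := Subtype.ext (h.elem t t.2)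
          rcases hb with hb | hb <;> rcases hc with hc | hc
          · exact Or.inl (mul_mem hb hc)
          · exact Or.inr (by rw [← mul_assoc, hc' t b, mul_assoc]; exact mul_mem hb hc)
          · exact Or.inr (by rw [← mul_assoc]; exact mul_mem hb hc)
          · refine Or.inl ?_
            have e : t * b * (t * c) = b * c := by
              rw [hc' t b, mul_assoc, ← mul_assoc t t, htt, one_mul]
            exact e ▸ mul_mem hb hc
        inv_mem' := fun {b} hb => by
          rwa [show b⁻¹ = b from Subtype.ext (h.inv_E b.2)] }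
    have hlt : K.1 < K' := lt_of_le_of_ne (fun b hb => Or.inl hb) fun e => ht (e ▸ Or.inr (by
      rw [show t * t = 1 from Subtype.ext (h.elem t t.2)]; exact one_mem _))
    have htop : K' = ⊤ := by
      by_contra hK'
      exact hlt.ne (Subgroup.eq_of_le_of_card_ge hlt.le
        (hmax ⟨K', K.2.1.trans hlt.le, hK'⟩ (Finset.mem_univ _)))
    rw [show b * t = t * b from Subtype.ext (h.comm_E t.2 b), or_comm]
    exact (htop ▸ Subgroup.mem_top b : b ∈ K')
  let ε : E → ℤ := fun b => if b ∈ K then 1 else -1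
  have hεm : ∀ b c : E, ε (b * c) = ε b * ε c := fun b c => by
    simp only [ε, Subgroup.mul_mem_iff_of_index_two hK]
    by_cases hb : b ∈ K <;> by_cases hc : c ∈ K <;> simp [hb, hc]
  obtain ⟨t, ht, -⟩ := Subgroup.index_eq_two_iff_exists_notMem_and.1 hK
  have hε1 : ε 1 = 1 := by simp [ε]
  have hε0 : ∑ b : E, ε b = 0 := by
    have h1 := Fintype.sum_equiv (Equiv.mulLeft t) (fun b => ε (t * b)) ε fun b => rfl
    simp only [hεm, show ε t = -1 from if_neg ht, neg_one_mul, Finset.sum_neg_distrib] at h1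
    omega
  let sq : Q → E := fun v => ⟨(v : S) * v, h.sq v v.2⟩
  set n := fun b : E => Nat.card {v : Q // sq v = b} with hn
  obtain ⟨e₀, he₀⟩ : ∃ e : E, e ≠ 1 := by
    haveI : Nontrivial E := Finite.one_lt_card_iff_nontrivial.1 (by have := h.four_le; omega)
    exact exists_ne 1
  have hneq : ∀ b : E, b ≠ 1 → n b = n e₀ := by
    intro b hb
    obtain ⟨c, hc, hcb⟩ := h.trans b b.2 e₀ e₀.2 (fun e => hb (Subtype.ext e))
      fun e => he₀ (Subtype.ext e)
    have hci : c⁻¹ ∈ C := inv_mem hc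
    refine Nat.card_congr
      { toFun := fun v => ⟨⟨c v.1, h.stab_Q c hc _ v.1.2⟩, Subtype.ext (show c v.1 * c v.1 = (e₀ : S) by
          rw [← map_mul, show ((v.1 : S) * v.1) = b from congrArg Subtype.val v.2, hcb])⟩
        invFun := fun v => ⟨⟨c⁻¹ v.1, h.stab_Q _ hci _ v.1.2⟩, Subtype.ext (show c⁻¹ v.1 * c⁻¹ v.1 = (b : S) by
          rw [← map_mul, show ((v.1 : S) * v.1) = e₀ from congrArg Subtype.val v.2, ← hcb]
          exact c.symm_apply_apply _)⟩
        left_inv := fun v => Subtype.ext (Subtype.ext (c.symm_apply_apply _))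
        right_inv := fun v => Subtype.ext (Subtype.ext (c.apply_symm_apply _)) }
  have hn1 : n 1 = Nat.card E := Nat.card_congr
    { toFun := fun v => ⟨v.1, h.invol _ v.1.2 (congrArg Subtype.val v.2)⟩
      invFun := fun b => ⟨⟨b, h.le b.2⟩, Subtype.ext (h.elem b b.2)⟩
      left_inv := fun _ => rfl
      right_inv := fun _ => rfl }
  have hfib : ∀ f : E → ℤ, ∑ v : Q, f (sq v) = ∑ b : E, (n b : ℤ) * f b := fun f => by
    rw [← Fintype.sum_fiberwise sq]
    refine Finset.sum_congr rfl fun b _ => ?_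
    rw [Finset.sum_congr rfl (fun v _ => by rw [v.2] : ∀ v ∈ (Finset.univ : Finset {v // sq v = b}),
      f (sq v.1) = f b), Finset.sum_const, Finset.card_univ, nsmul_eq_mul]
    simp only [hn, Nat.card_eq_fintype_card]
  have hsplit : ∀ f : E → ℤ, ∑ b : E, (n b : ℤ) * f b =
      (Nat.card E : ℤ) * f 1 + (n e₀ : ℤ) * (∑ b : E, f b - f 1) := fun f => by
    rw [← Finset.add_sum_erase _ _ (Finset.mem_univ (1 : E)), hn1,
      ← Finset.sum_erase_eq_sub (Finset.mem_univ (1 : E)), Finset.mul_sum]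
    exact congrArg _ (Finset.sum_congr rfl fun b hb => by rw [hneq b (Finset.ne_of_mem_erase hb)])
  have hcnt := hfib fun _ => 1
  rw [hsplit] at hcnt
  simp only [Finset.sum_const, Finset.card_univ, ← Nat.card_eq_fintype_card, nsmul_eq_mul, mul_one, hQ,
    Nat.cast_pow] at hcnt
  have hσ := hfib ε
  rw [hsplit, hε0, hε1] at hσ
  set q := (Nat.card E : ℤ) with hq
  have hq4 : (4 : ℤ) ≤ q := by rw [hq]; exact_mod_cast h.four_le
  set σ := ∑ v : Q, ε (sq v) with hσdef
  have hσv : σ = -(q ^ 2) := by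
    have h1 : (n e₀ : ℤ) = q * (q + 1) := mul_right_cancel₀ (b := q - 1) (by omega) (by linarith)
    rw [hσ, h1]; ring
  -- the radical
  let br : Q → Q → E := fun v w => ⟨cm (v : S) w, h.cm_mem hsq _ _⟩
  let R := Finset.univ.filter fun w : Q => ∀ v : Q, br v w ∈ K
  have hinner : ∀ w : Q, ∑ v : Q, ε (br v w) = if w ∈ R then (Nat.card Q : ℤ) else 0 := by
    intro w
    split_ifs with hw
    · have hall := (Finset.mem_filter.1 hw).2
      rw [Finset.sum_congr rfl (fun v _ => if_pos (hall v)), Finset.sum_const, Finset.card_univ,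
        nsmul_eq_mul, mul_one, Nat.card_eq_fintype_card]
    · have hex : ∃ v : Q, br v w ∉ K := by simpa [R] using hw
      obtain ⟨v₀, hv₀⟩ := hex
      have h1 := Fintype.sum_equiv (Equiv.mulLeft v₀) (fun v => ε (br (v₀ * v) w)) (fun v => ε (br v w))
        fun v => rfl
      simp only [show ∀ v, br (v₀ * v) w = br v₀ w * br v w from fun v =>
        Subtype.ext (h.cm_mul_left hsq _ _ _), hεm, show ε (br v₀ w) = -1 from if_neg hv₀, neg_one_mul,
        Finset.sum_neg_distrib] at h1
      omega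
  have hmom : σ * σ = (Nat.card Q : ℤ) * ∑ w ∈ R, ε (sq w) := by
    rw [hσdef, Finset.sum_mul_sum]
    calc ∑ v : Q, ∑ w : Q, ε (sq v) * ε (sq w) = ∑ v : Q, ∑ w : Q, ε (sq w) * ε (br v w) := by
          refine Finset.sum_congr rfl fun v _ => ?_
          refine (Fintype.sum_equiv (Equiv.mulLeft v) _ _ fun w => ?_).symm
          have e : sq (v * w) = sq v * (sq w * br v w) := Subtype.ext (h.sq_mul hsq _ _)
          have e2 : ε (sq v) * ε (sq v) = 1 := by
            by_cases hh : sq v ∈ K <;> simp [ε, hh]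
          show ε (sq w) * ε (br v w) = ε (sq v) * ε (sq (v * w))
          rw [e, hεm, hεm, ← mul_assoc (ε (sq v)), e2, one_mul]
      _ = ∑ w : Q, ε (sq w) * ∑ v : Q, ε (br v w) := by
          rw [Finset.sum_comm]; simp only [Finset.mul_sum]
      _ = _ := by
          simp only [hinner, mul_ite, mul_zero, Finset.mul_sum]
          rw [Finset.sum_ite_mem, Finset.univ_inter]
          exact Finset.sum_congr rfl fun w _ => mul_comm _ _
  rw [hσv, hQ, Nat.cast_pow, ← hq] at hmom
  have hRsum : ∑ w ∈ R, ε (sq w) = q := mul_left_cancel₀ (a := q ^ 3) (pow_ne_zero _ (by omega))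
    (by linarith)
  -- `R` is a subgroup on which the signs multiply
  have hRmem : ∀ w : Q, w ∈ R ↔ ∀ v : Q, br v w ∈ K := fun w => by simp [R]
  have hRmul : ∀ w w' : Q, w ∈ R → w' ∈ R → w * w' ∈ R := fun w w' hw hw' => (hRmem _).2 fun v => by
    rw [show br v (w * w') = br v w * br v w' from Subtype.ext (h.cm_mul_right hsq _ _ _)]
    exact mul_mem ((hRmem _).1 hw v) ((hRmem _).1 hw' v)
  have hRε : ∀ w w' : Q, w ∈ R → w' ∈ R → ε (sq (w * w')) = ε (sq w) * ε (sq w') := fun w w' hw hw' => by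
    rw [show sq (w * w') = sq w * (sq w' * br w w') from Subtype.ext (h.sq_mul hsq _ _), hεm, hεm,
      show ε (br w w') = 1 from if_pos ((hRmem _).1 hw' w), mul_one]
  by_cases hRK : ∀ w ∈ R, ε (sq w) = 1
  · have hRcard : (R.card : ℤ) = q := by rw [← hRsum, Finset.sum_congr rfl hRK]; simp
    let E' := Finset.univ.filter fun w : Q => (w : S) ∈ E
    have hE'c : (E'.card : ℤ) = q := by
      simp only [E']
      rw [hq, ← Fintype.card_subtype, ← Nat.card_eq_fintype_card]
      exact congrArg _ (Nat.card_congr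
        { toFun := fun w => (⟨w.1, w.2⟩ : E)
          invFun := fun b => ⟨⟨b, h.le b.2⟩, b.2⟩
          left_inv := fun _ => rfl
          right_inv := fun _ => rfl })
    have hE'R : E' ⊆ R := fun w hw => by
      have hwE : (w : S) ∈ E := (Finset.mem_filter.1 hw).2
      refine (hRmem _).2 fun v => ?_
      rw [show br v w = 1 from Subtype.ext (by
        show cm (v : S) w = 1
        rw [cm, h.comm_E hwE]; group)]
      exact one_mem K
    have hdR : (⟨d, hd⟩ : Q) ∈ R := (hRmem _).2 fun v => hKr ⟨v, Subtype.ext rfl⟩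
    rw [← Finset.eq_of_subset_of_card_le hE'R (by omega)] at hdR
    exact hdE (Finset.mem_filter.1 hdR).2
  · push Not at hRK
    obtain ⟨w₀, hw₀, hw₀ε⟩ := hRK
    have hm1 : ε (sq w₀) = -1 := by
      by_cases hh : sq w₀ ∈ K
      · exact absurd (if_pos hh) hw₀ε
      · exact if_neg hh
    have hw₀w : w₀⁻¹ ∈ R := (hRmem _).2 fun v => by
      have e : br v w₀⁻¹ * br v w₀ = 1 := Subtype.ext (show cm (v : S) (w₀ : S)⁻¹ * cm (v : S) w₀ = 1 by
        rw [← h.cm_mul_right hsq]; simp [cm])
      rw [eq_inv_of_mul_eq_one_left e]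
      exact inv_mem ((hRmem _).1 hw₀ v)
    have h0 : ∑ w ∈ R, ε (sq (w₀ * w)) = ∑ w ∈ R, ε (sq w) :=
      Finset.sum_nbij' (fun w => w₀ * w) (fun w => w₀⁻¹ * w) (fun w hw => hRmul _ _ hw₀ hw)
        (fun w hw => hRmul _ _ hw₀w hw) (fun w _ => inv_mul_cancel_left _ _)
        (fun w _ => mul_inv_cancel_left _ _) fun w _ => rfl
    rw [Finset.sum_congr rfl (fun w hw => by rw [hRε _ _ hw₀ hw, hm1, neg_one_mul] :
      ∀ w ∈ R, ε (sq (w₀ * w)) = -ε (sq w)), Finset.sum_neg_distrib, hRsum] at h0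
    omega

/-- In each translate two values of the square map give involutions, and are taken often. -/
theorem fibre_bound (hQ : Nat.card Q = Nat.card E ^ 3) {e : S} (he : e ∈ E) (he1 : e ≠ 1) (g : S) :
    Nat.card E ^ 2 + 2 * Nat.card E ≤
      Nat.card {v : Q // g * v * (g * v) = 1 ∨ g * v * (g * v) = e} := by
  classical
  letI := Fintype.ofFinite S
  let F : Q → E := fun v => ⟨g * v * (g * v), hsq _⟩
  have hF : ∀ v w : Q, F (v * w) = F v * ⟨(w : S) * w * (cm (v : S) w * cm g w), mul_mem (hsq _)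
      (mul_mem (h.cm_mem hsq _ _) (h.cm_mem hsq _ _))⟩ := fun v w => Subtype.ext (by
    show g * (v * w) * (g * (v * w)) = g * v * (g * v) * ((w : S) * w * (cm (v : S) w * cm g w))
    rw [← mul_assoc g, h.sq_mul hsq, h.cm_mul_left hsq, h.comm_E (h.cm_mem hsq g w) (cm (v : S) w)])
  let Ee : Subgroup E :=
    { carrier := {b | b = 1 ∨ b = ⟨e, he⟩}
      one_mem' := Or.inl rfl
      mul_mem' := by
        rintro b c (rfl | rfl) (rfl | rfl)
        exacts [Or.inl (one_mul _), Or.inr (one_mul _), Or.inr (mul_one _),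
          Or.inl (Subtype.ext (h.elem e he))]
      inv_mem' := by
        rintro b (rfl | rfl)
        exacts [Or.inl inv_one, Or.inr (Subtype.ext (h.inv_E he))] }
  haveI : Ee.Normal := ⟨fun n hn b => by
    rwa [show b * n = n * b from Subtype.ext (h.comm_E n.2 b), mul_inv_cancel_right]⟩
  have hEe : Nat.card Ee = 2 := by
    have : (Ee : Set E) = {1, ⟨e, he⟩} := by ext b; simp [Ee]
    show Nat.card ↑(Ee : Set E) = 2
    rw [this, Nat.card_coe_set_eq, Set.ncard_pair fun e' => he1 (congrArg Subtype.val e').symm]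
  set q := Nat.card E with hq
  have hidx : Nat.card (E ⧸ Ee) * 2 = q := by
    rw [← hEe, hq]; exact (Subgroup.card_eq_card_quotient_mul_card_subgroup Ee).symm
  let π : Q → E ⧸ Ee := fun v => (F v : E ⧸ Ee)
  -- pairs with values in one class
  have hrow : ∀ w : Q, (Finset.univ.filter fun v : Q => π (v * w) = π v).card * q =
      if (w : S) ∈ E then q * q ^ 3 else 2 * q ^ 3 := by
    intro w
    have hiff : ∀ v : Q, π (v * w) = π v ↔
        (⟨(w : S) * w * (cm (v : S) w * cm g w), mul_mem (hsq _)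
          (mul_mem (h.cm_mem hsq _ _) (h.cm_mem hsq _ _))⟩ : E) ∈ Ee := fun v => by
      show (F (v * w) : E ⧸ Ee) = (F v : E ⧸ Ee) ↔ _
      rw [hF, eq_comm, QuotientGroup.eq, inv_mul_cancel_left]
    split_ifs with hw
    · rw [Finset.filter_true_of_mem, Finset.card_univ, ← Nat.card_eq_fintype_card, hQ, mul_comm]
      intro v _
      refine (hiff v).2 (Or.inl (Subtype.ext ?_))
      show (w : S) * w * (cm (v : S) w * cm g w) = 1
      rw [h.elem _ hw, cm, cm, h.comm_E hw, h.comm_E hw]; group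
    · let φ : Q →* E ⧸ Ee := (QuotientGroup.mk' Ee).comp
        { toFun := fun v => ⟨cm (v : S) w, h.cm_mem hsq _ _⟩
          map_one' := Subtype.ext (by simp [cm])
          map_mul' := fun a b => Subtype.ext (h.cm_mul_left hsq _ _ _) }
      have hφ : Function.Surjective φ := by
        intro c
        obtain ⟨b, rfl⟩ := QuotientGroup.mk_surjective c
        obtain ⟨v, hv, hvb⟩ := h.cm_surj hsq hQ w.2 hw b.2
        exact ⟨⟨v, hv⟩, congrArg (QuotientGroup.mk' Ee) (Subtype.ext hvb)⟩
      obtain ⟨v₀, hv₀⟩ := hφ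
        (⟨(w : S) * w * cm g w, mul_mem (hsq _) (h.cm_mem hsq _ _)⟩ : E)
      have hset : (Finset.univ.filter fun v : Q => π (v * w) = π v).card = Nat.card φ.ker := by
        rw [← Fintype.card_subtype, ← Nat.card_eq_fintype_card]
        refine Nat.card_congr (Equiv.subtypeEquiv (Equiv.mulLeft v₀) fun v => ?_)
        rw [hiff, MonoidHom.mem_ker, Equiv.coe_mulLeft, map_mul, hv₀]
        show _ ↔ ((_ : E) : E ⧸ Ee) * ((⟨cm (v : S) w, _⟩ : E) : E ⧸ Ee) = 1
        rw [← QuotientGroup.mk_mul, QuotientGroup.eq_one_iff]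
        refine Eq.to_iff (congrArg (· ∈ Ee) (Subtype.ext ?_))
        show (w : S) * w * (cm (v : S) w * cm g w) = (w : S) * w * cm g w * cm (v : S) w
        rw [mul_assoc _ (cm g w), h.comm_E (h.cm_mem hsq g w)]
      have h1 := φ.ker.index_mul_card
      rw [Subgroup.index_ker, MonoidHom.range_eq_top.2 hφ, Subgroup.card_top, hQ] at h1
      rw [hset, ← h1, ← hidx]; ring
  set N := fun c : E ⧸ Ee => (Finset.univ.filter fun v : Q => π v = c).card with hN
  have hNsum : ∑ c, N c = q ^ 3 := by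
    rw [← hQ, Nat.card_eq_fintype_card, ← Finset.card_univ]
    exact (Finset.card_eq_sum_card_fiberwise fun v _ => Finset.mem_univ (π v)).symm
  have hEQ : (Finset.univ.filter fun w : Q => (w : S) ∈ E).card = q := by
    rw [← Fintype.card_subtype, ← Nat.card_eq_fintype_card, hq]
    exact Nat.card_congr
      { toFun := fun w => ⟨w.1, w.2⟩
        invFun := fun b => ⟨⟨b, h.le b.2⟩, b.2⟩
        left_inv := fun _ => rfl
        right_inv := fun _ => rfl }
  have hPsum : (∑ c, N c ^ 2) * q = q * (q * q ^ 3) + (q ^ 3 - q) * (2 * q ^ 3) := by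
    have h1 : ∑ c, N c ^ 2 = ∑ w : Q, (Finset.univ.filter fun v : Q => π (v * w) = π v).card := by
      simp only [Finset.card_filter]
      rw [Finset.sum_comm]
      calc ∑ c, N c ^ 2 = ∑ c, ∑ v ∈ Finset.univ.filter (fun v : Q => π v = c), N (π v) :=
            Finset.sum_congr rfl fun c _ => by
              rw [Finset.sum_congr rfl (fun v hv => by rw [(Finset.mem_filter.1 hv).2] :
                ∀ v ∈ Finset.univ.filter (fun v : Q => π v = c), N (π v) = N c), Finset.sum_const,
                smul_eq_mul, pow_two]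
        _ = ∑ v : Q, N (π v) := Finset.sum_fiberwise _ _ _
        _ = _ := Finset.sum_congr rfl fun v _ => by
            simp only [hN]
            rw [Finset.card_filter]
            exact (Fintype.sum_equiv (Equiv.mulLeft v) _ _ fun w => rfl).symm
    rw [h1, Finset.sum_mul, Finset.sum_congr rfl fun w _ => hrow w, Finset.sum_ite, Finset.sum_const,
      Finset.sum_const, smul_eq_mul, smul_eq_mul, hEQ, Finset.filter_not, Finset.card_sdiff_of_subset
      (Finset.filter_subset _ _), hEQ, Finset.card_univ, ← Nat.card_eq_fintype_card, hQ]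
  -- Cauchy and Schwarz over the other classes
  set T := N 1 with hT
  have hT' : T = Nat.card {v : Q // g * v * (g * v) = 1 ∨ g * v * (g * v) = e} := by
    rw [hT, hN, Nat.card_eq_fintype_card, Fintype.card_subtype]
    refine congrArg Finset.card (Finset.filter_congr fun v _ => ?_)
    show ((F v : E ⧸ Ee) = 1) ↔ _
    rw [QuotientGroup.eq_one_iff]
    exact or_congr (Subtype.ext_iff) (Subtype.ext_iff)
  rw [← hT']
  have hcs := sq_sum_le_card_mul_sum_sq (s := (Finset.univ : Finset (E ⧸ Ee)).erase 1)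
    (f := fun c => (N c : ℤ))
  rw [Finset.sum_erase_eq_sub (Finset.mem_univ _), Finset.sum_erase_eq_sub (Finset.mem_univ _),
    Finset.card_erase_of_mem (Finset.mem_univ _), Finset.card_univ, ← Nat.card_eq_fintype_card] at hcs
  have hle : q ≤ q ^ 3 := Nat.le_self_pow (by norm_num) q
  have hn : 1 ≤ Nat.card (E ⧸ Ee) := Nat.card_pos
  zify [hle] at hPsum hidx hNsum ⊢
  push_cast [Nat.cast_sub hn] at hcs
  rw [hNsum, ← hT] at hcs
  set n := (Nat.card (E ⧸ Ee) : ℤ)
  set P := ∑ c, (N c : ℤ) ^ 2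
  have hq4 : (4 : ℤ) ≤ q := by exact_mod_cast h.four_le
  set Qz := (q : ℤ)
  set Tz := (T : ℤ)
  have hP : P = Qz ^ 4 + (Qz ^ 2 - 1) * (2 * Qz ^ 3) :=
    mul_right_cancel₀ (b := Qz) (by omega) (by rw [hPsum]; ring)
  rw [hP] at hcs
  have hquad : Qz * ((Tz - (Qz ^ 2 + 2 * Qz)) * (Tz - (3 * Qz ^ 2 - 2 * Qz))) ≤ 0 := by
    nlinarith [hcs, hidx]
  by_contra hlt
  push Not at hlt
  have h2 : 0 < 3 * Qz ^ 2 - 2 * Qz - Tz := by nlinarith
  have h3 : 0 < Qz ^ 2 + 2 * Qz - Tz := by linarith
  nlinarith [mul_pos (by linarith : (0 : ℤ) < Qz) (mul_pos h2 h3)]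

/-- **The involutions of the stabilizer of a coset.** -/
theorem card_sq_one (hQ : Nat.card Q = Nat.card E ^ 3) :
    Nat.card E * (Nat.card E ^ 2 + Nat.card E) ≤ Nat.card {u : S // u * u = 1} := by
  classical
  letI := Fintype.ofFinite S
  let τ : {u : S // u * u = 1} → E := fun u => ⟨cm u.1 x, h.cm_mem hsq _ _⟩
  set q := Nat.card E with hq
  have hxi : x⁻¹ = x := inv_eq_of_mul_eq_one_right h.x_sq
  have hτv : ∀ v ∈ Q, cm v x = 1 := fun v hv => by rw [cm, ← (h.x_comm v hv).eq]; group
  have hτx : cm x x = 1 := by simp [cm]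
  have hone : 2 * q ≤ Nat.card {u // τ u = 1} := by
    refine le_of_eq_of_le ?_ (Nat.card_le_card_of_injective
      (fun t : E ⊕ E => (Sum.elim
        (fun b : E => ⟨⟨(b : S), h.elem b b.2⟩, Subtype.ext (hτv b (h.le b.2))⟩)
        (fun b : E => ⟨⟨x * (b : S), by rw [h.sq_mul hsq, h.x_sq, h.elem b b.2, h.cm_comm hsq, hτv b (h.le b.2)]; simp⟩,
          Subtype.ext (show cm (x * b) x = 1 by
            rw [h.cm_mul_left hsq, hτx, hτv b (h.le b.2), one_mul])⟩) t : {u // τ u = 1})) ?_)
    · rw [Nat.card_sum, hq]; ring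
    · rintro (b | b) (c | c) hbc <;>
        have hbc' := congrArg (fun u : {u // τ u = 1} => (u.1 : S)) hbc <;> simp only [Sum.elim_inl,
          Sum.elim_inr] at hbc'
      · exact congrArg _ (Subtype.ext hbc')
      · exact absurd (h.le (eq_mul_inv_of_mul_eq hbc'.symm ▸ mul_mem b.2 (inv_mem c.2))) h.x_notMem
      · exact absurd (h.le (eq_mul_inv_of_mul_eq hbc' ▸ mul_mem c.2 (inv_mem b.2))) h.x_notMem
      · exact congrArg _ (Subtype.ext (mul_left_cancel hbc'))
  have hother : ∀ b : E, b ≠ 1 → q ^ 2 + 2 * q ≤ Nat.card {u // τ u = b} := by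
    intro b hb
    obtain ⟨g, hg⟩ := h.surj b b.2
    have hgb : cm g x = b := by
      rw [cm, hg, hxi, mul_assoc, h.x_sq, mul_one]
    refine (h.fibre_bound hsq hQ b.2 (fun e => hb (Subtype.ext e)) g).trans
      (Nat.card_le_card_of_injective
        (fun v => if hv : g * v.1 * (g * v.1) = 1 then ⟨⟨g * v.1, hv⟩, Subtype.ext (show cm (g * v.1) x = b by
          rw [h.cm_mul_left hsq, hgb, hτv _ v.1.2, mul_one])⟩
        else ⟨⟨g * v.1 * x, by
          rw [h.sq_mul hsq, v.2.resolve_left hv, h.x_sq, h.cm_mul_left hsq, hgb, hτv _ v.1.2, one_mul,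
            mul_one, h.elem b b.2]⟩, Subtype.ext (show cm (g * v.1 * x) x = b by
          rw [h.cm_mul_left hsq, h.cm_mul_left hsq, hgb, hτv _ v.1.2, hτx, mul_one, mul_one])⟩) ?_)
    intro v w hvw
    have hvw' := congrArg (fun u : {u // τ u = b} => (u.1 : S)) hvw
    have hx' : ∀ v w : Q, g * v = g * w * x → False := fun v w e =>
      h.x_notMem (by
        have e' : (v : S) = w * x := mul_left_cancel (a := g) (by rw [e, mul_assoc])
        rw [show x = (w : S)⁻¹ * v by rw [e', inv_mul_cancel_left]]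
        exact mul_mem (inv_mem w.2) v.2)
    dsimp only at hvw'
    split_ifs at hvw' with h1 h2
    · exact Subtype.ext (Subtype.ext (mul_left_cancel hvw'))
    · exact (hx' _ _ hvw').elim
    · exact (hx' _ _ hvw'.symm).elim
    · exact Subtype.ext (Subtype.ext (mul_left_cancel (mul_right_cancel hvw')))
  rw [← Nat.card_congr (Equiv.sigmaFiberEquiv τ), Nat.card_sigma,
    ← Finset.add_sum_erase _ _ (Finset.mem_univ (1 : E))]
  refine le_trans ?_ (add_le_add hone ((Finset.card_nsmul_le_sum _ _ _ fun b hb =>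
    hother b (Finset.ne_of_mem_erase hb))))
  rw [Finset.card_erase_of_mem (Finset.mem_univ _), Finset.card_univ, ← Nat.card_eq_fintype_card,
    smul_eq_mul]
  obtain ⟨r, hr⟩ := Nat.exists_eq_add_of_le (show 1 ≤ q from Nat.card_pos)
  rw [← hq, hr, Nat.add_sub_cancel_left]
  ring_nf
  omega

end CosetData

end CfsgLib.SECrit.Shape
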