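import Cfsg.Agent.Lib.Invol.SECriterion.Shape.KernelLine
import Cfsg.Agent.Lib.Invol.SECriterion.ResOfA
import Cfsg.Agent.Lib.Invol.SECriterion.SmallType.Powers

/-!
# The strong embedding criterion: the fixed points of a root of a bad involution

`x` fixes `q ^ 3 + 1` points and `g * g = x`, both fixing `p` and a second point.  Then `g` centralizes
the line, and fixes `q + 1` of the fixed points of `x` or all of them.
-/

set_option autoImplicit false
set_option linter.style.haveILetI false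

namespace CfsgLib.SECrit

open CfsgLib.Invol Subgroup

universe u

namespace Shape

/-- `q = 2^(2i)`, `s = q^3`: no root moves the line. -/
theorem root_cube_arith {i l : ℕ} (hi : 1 ≤ i) (hl : i ≤ l)
    (h : 2 ^ (i * 6) * (2 ^ i + 1) = 2 ^ l * (2 * 2 ^ i + 2 ^ l * (2 ^ i - 1))) : False := by
  obtain ⟨n, rfl⟩ := Nat.exists_eq_add_of_le hl
  obtain ⟨q, hq⟩ : ∃ q, 2 ^ i = q + 1 := ⟨2 ^ i - 1, by have := Nat.two_pow_pos i; omega⟩
  have hq1 : 1 ≤ q := by have := Nat.le_self_pow (show i ≠ 0 by omega) 2; omega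
  have hodd : Odd (2 ^ i + 1) := (even_two.pow_of_ne_zero (by omega)).add_one
  rcases n with _ | _ | n
  · have e : 2 ^ (i + 0) * (2 * 2 ^ i + 2 ^ (i + 0) * (2 ^ i - 1)) = 2 ^ (i + i) * (2 ^ i + 1) := by
      simp only [add_zero, pow_add, hq, Nat.add_sub_cancel]; ring
    obtain ⟨e1, -⟩ := Small.eq_of_two_pow_mul_odd hodd hodd (h.trans e)
    omega
  · have e : 2 ^ (i + 1) * (2 * 2 ^ i + 2 ^ (i + 1) * (2 ^ i - 1)) = 2 ^ (i + i + i + 2) * 1 := by
      simp only [pow_add, pow_one, hq, Nat.add_sub_cancel]; ring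
    obtain ⟨-, e2⟩ := Small.eq_of_two_pow_mul_odd hodd odd_one (h.trans e)
    omega
  · have e : 2 ^ (i + (n + 2)) * (2 * 2 ^ i + 2 ^ (i + (n + 2)) * (2 ^ i - 1)) =
        2 ^ (i + i + n + 3) * (1 + 2 ^ (n + 1) * (2 ^ i - 1)) := by
      simp only [pow_add, pow_one]; ring
    obtain ⟨e1, e2⟩ := Small.eq_of_two_pow_mul_odd hodd
      (((even_two.pow_of_ne_zero (by omega)).mul_right _).one_add) (h.trans e)
    rw [hq, Nat.add_sub_cancel, pow_succ] at e2
    rcases n with _ | n
    · simp only [pow_zero] at e2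
      obtain rfl : i = 1 := by
        rcases i with _ | _ | i
        · omega
        · rfl
        · have := Nat.pow_le_pow_right (n := 2) (by norm_num) (show 2 ≤ i + 2 by omega)
          omega
      omega
    · have hp : 2 ≤ 2 ^ (n + 1) := Nat.le_self_pow (by omega) 2
      nlinarith

/-- `2^l + 1` dividing `2^(3β) + 1` for `β ≤ l ≤ 3β` forces `l = β` or `l = 3β`. -/
theorem root_fix_arith {β l : ℕ} (h1 : β ≤ l) (h3 : l ≤ β * 3)
    (h : 2 ^ l + 1 ∣ 2 ^ (β * 3) + 1) : l = β ∨ l = β * 3 := by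
  obtain ⟨j, hj⟩ := Nat.exists_eq_add_of_le h3
  rw [hj, pow_add] at h
  have hj1 := Nat.two_pow_pos j
  have h2 : 2 ^ l + 1 ∣ 2 ^ j - 1 := by
    have e : (2 ^ l * 2 ^ j + 1) + (2 ^ j - 1) = (2 ^ l + 1) * 2 ^ j := by
      rw [add_mul, one_mul]; omega
    exact (Nat.dvd_add_right h).1 (e ▸ dvd_mul_right _ _)
  by_cases hjl : j ≤ l
  · rcases Nat.eq_zero_or_pos (2 ^ j - 1) with h0 | h0
    · refine Or.inr ?_
      have : j = 0 := by
        by_contra hne
        have := Nat.le_self_pow hne 2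
        omega
      omega
    · have := Nat.le_of_dvd h0 h2
      have := Nat.pow_le_pow_right (n := 2) (by norm_num) hjl
      omega
  · obtain ⟨n, hn⟩ := Nat.exists_eq_add_of_le (Nat.le_of_not_le hjl)
    have hn1 := Nat.two_pow_pos n
    have h4 : 2 ^ l + 1 ∣ 2 ^ n + 1 := by
      have e : (2 ^ j - 1) + (2 ^ n + 1) = (2 ^ l + 1) * 2 ^ n := by
        rw [add_mul, one_mul, ← pow_add, ← hn]; omega
      exact (Nat.dvd_add_right h2).1 (e ▸ dvd_mul_right _ _)
    have h5 := Nat.le_of_dvd (by omega) h4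
    have h6 : l ≤ n := (Nat.pow_le_pow_iff_right (a := 2) (by norm_num)).1 (by omega)
    exact Or.inl (by omega)

end Shape

variable {G : Type u} [Group G] [Finite G] {M : Subgroup G} {z : G}
variable (h : Setup M z) {x : G} (hl : Local M z x) (hx : IsBad M x) {p : G ⧸ M} (hxp : x • p = p)
  (ha : 2 ≤ Nat.card (CAt z ({x} : Set G) p)) {g : G} (hgg : g * g = x) (hgp : g • p = p)
  {γ : G ⧸ M} (hγp : γ ≠ p) (hxγ : x • γ = γ) (hgγ : g • γ = γ)
include h hl hx hxp ha hgg hgp hγp hxγ hgγ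

omit h hl hx hxp ha hgp hγp hxγ hgγ in
theorem root_commutes : Commute x g := by
  show x * g = g * x
  rw [← hgg, mul_assoc]

/-- The fixed points of `x` fixed by `g`, apart from `p`: a two-power, divisible by the fixed part of the
line. -/
theorem Setup.root_fix_pow : ∃ l : ℕ,
    Nat.card {t : G ⧸ M // (x • t = t ∧ g • t = t) ∧ t ≠ p} = 2 ^ l ∧
    Nat.card (CAt z (insert g ({x} : Set G)) p) + 1 ∣ 2 ^ l := by
  classical
  haveI : Fact (Nat.Prime 2) := ⟨Nat.prime_two⟩
  have hxg := root_commutes hgg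
  have hpair : ∃ d e : G, IsConj z d ∧ IsConj z e ∧ Commute x d ∧ Commute x e ∧ Commute d e ∧ d ≠ e := by
    obtain ⟨⟨d, hd, hdp, hdx⟩, ⟨e, he, hep, hex⟩, hne⟩ :=
      (Finite.one_lt_card_iff_nontrivial.1 (show 1 < Nat.card (CAt z ({x} : Set G) p) by omega)).exists_pair_ne
    exact ⟨d, e, hd, he, hdx x rfl, hex x rfl, hl.comm_at d e p hd he (hdx x rfl) (hex x rfl) hdp hep,
      fun e1 => hne (Subtype.ext e1)⟩
  obtain ⟨P, hP, hPc, hPp, hPn, htr, hker⟩ := Setup.exists_regular_twoGroup h hl hpair hxp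
  set F1 := {t : G ⧸ M // (x • t = t ∧ g • t = t) ∧ t ≠ p}
  let C' : Subgroup P :=
    { carrier := {k | ∀ t : G ⧸ M, x • t = t → g • (k : G) • t = (k : G) • g • t}
      one_mem' := fun t _ => by simp
      mul_mem' := fun {k k'} hk hk' t ht => by
        show g • ((k : G) * k') • t = ((k : G) * k') • g • t
        rw [mul_smul, mul_smul, hk _ (smul_mem_fix (hPc k' k'.2) ht), hk' t ht]
      inv_mem' := fun {k} hk t ht => by
        show g • (k : G)⁻¹ • t = (k : G)⁻¹ • g • t
        rw [eq_inv_smul_iff, ← hk _ (smul_mem_fix (hPc k k.2).inv_right ht), smul_inv_smul] }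
  obtain ⟨j, hj⟩ := (hP.to_subgroup C').index (MulAction.stabilizer C' γ)
  have horb : MulAction.orbit C' γ = {t : G ⧸ M | (x • t = t ∧ g • t = t) ∧ t ≠ p} := by
    ext t
    constructor
    · rintro ⟨k, rfl⟩
      refine ⟨⟨smul_mem_fix (hPc _ k.1.2) hxγ, ?_⟩,
        fun e => hγp (smul_left_cancel ((k : P) : G) (e.trans (hPp _ k.1.2).symm))⟩
      show g • ((k : P) : G) • γ = ((k : P) : G) • γ
      rw [k.2 γ hxγ, hgγ]
    · rintro ⟨⟨hxt, hgt⟩, htp⟩
      obtain ⟨k, hk, hkt⟩ := htr γ t hxγ hxt hγp htp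
      refine ⟨⟨⟨k, hk⟩, fun u hu => ?_⟩, hkt⟩
      have hk' : g * k * g⁻¹ ∈ P := hPn g hxg hgp k hk
      have h1 : (k⁻¹ * (g * k * g⁻¹)) • γ = γ := by
        rw [mul_smul, mul_smul, mul_smul, inv_smul_eq_iff.2 hgγ.symm, hkt, hgt, inv_smul_eq_iff, hkt]
      have h2 := hker _ (mul_mem (inv_mem hk) hk') γ hxγ hγp h1 (g • u) (smul_mem_fix hxg hu)
      rw [mul_smul, inv_smul_eq_iff, mul_smul, mul_smul, inv_smul_smul] at h2
      exact h2
  rw [MulAction.index_stabilizer, horb, ← Nat.card_coe_set_eq] at hj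
  refine ⟨j, hj, ?_⟩
  rw [← hj]
  -- the fixed part of the line acts freely
  obtain ⟨E, hE, -, -, -, -⟩ := h.exists_lineGroup hl p
  set K := E ⊓ centralizer ({g} : Set G) with hK
  have hKcard : Nat.card K = Nat.card (CAt z (insert g ({x} : Set G)) p) + 1 := by
    have e1 : (K : Set G) = insert (1 : G) {d : G | IsConj z d ∧ d • p = p ∧ ∀ y ∈ insert g ({x} : Set G), Commute y d} := by
      ext d
      simp only [hK, coe_inf, Set.mem_inter_iff, SetLike.mem_coe, hE, mem_centralizer_singleton_iff,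
        Set.mem_insert_iff, Set.mem_setOf_eq, forall_eq_or_imp, Set.mem_singleton_iff, forall_eq]
      constructor
      · rintro ⟨rfl | h1, h2⟩
        · exact Or.inl rfl
        · exact Or.inr ⟨h1.1, h1.2.1, h2.symm, h1.2.2⟩
      · rintro (rfl | ⟨h1, h2, h3, h4⟩)
        · exact ⟨Or.inl rfl, by simp⟩
        · exact ⟨Or.inr ⟨h1, h2, h4⟩, h3.symm⟩
    show Nat.card ↥(K : Set G) = _
    rw [e1, Nat.card_coe_set_eq, Set.ncard_insert_of_notMem ?_ (Set.toFinite _), ← Nat.card_coe_set_eq]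
    · rfl
    · rintro ⟨h1, -, -⟩
      exact invol_ne_one (h.crit.orderOf_conj h1) rfl
  rw [← hKcard]
  have hKx : ∀ k : K, Commute x (k : G) ∧ Commute g (k : G) ∧ (k : G) • p = p := fun k => by
    refine ⟨?_, (mem_centralizer_singleton_iff.1 k.2.2).symm, ?_⟩ <;>
      rcases (hE _).1 k.2.1 with e | e
    exacts [e ▸ Commute.one_right x, e.2.2, by rw [e, one_smul], e.2.1]
  letI : MulAction K F1 :=
    { smul := fun k t => ⟨(k : G) • t.1, ⟨smul_mem_fix (hKx k).1 t.2.1.1,
          by rw [smul_smul, (hKx k).2.1.eq, mul_smul, t.2.1.2]⟩,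
        fun e => t.2.2 (smul_left_cancel (k : G) (e.trans (hKx k).2.2.symm))⟩
      one_smul := fun t => Subtype.ext (one_smul G t.1)
      mul_smul := fun k k' t => Subtype.ext (mul_smul (k : G) (k' : G) t.1) }
  have hfree : ∀ t : F1, MulAction.stabilizer K t = ⊥ := fun t =>
    (Subgroup.eq_bot_iff_forall _).2 fun k hk => by
      rcases (hE _).1 k.2.1 with hk' | ⟨hz, hkp, -⟩
      · exact Subtype.ext hk'
      · exact absurd (h.crit.fix_unique hz (congrArg Subtype.val hk : (k : G) • t.1 = t.1) hkp) t.2.2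
  exact Dvd.intro_left _ ((Nat.card_congr (MulAction.selfEquivOrbitsQuotientProd hfree)).trans
    (Nat.card_prod _ _)).symm

/-- **A root centralizes the line, and fixes `q + 1` or all fixed points of `x`.** -/
theorem Setup.root_cases {β : ℕ} (hβ : Nat.card (CAt z ({x} : Set G) p) + 1 = 2 ^ β)
    (hk : Nat.card {c : G ⧸ M // x • c = c} = 2 ^ (β * 3) + 1) :
    (∀ d : G, IsConj z d → d • p = p → Commute x d → Commute g d) ∧
      (Nat.card {t : G ⧸ M // (x • t = t ∧ g • t = t) ∧ t ≠ p} = 2 ^ β ∨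
        ∀ t : G ⧸ M, x • t = t → g • t = t) := by
  classical
  haveI : Fact (Nat.Prime 2) := ⟨Nat.prime_two⟩
  have hxg := root_commutes hgg
  have hgg' : g * g = 1 ∨ g * g = x := Or.inr hgg
  obtain ⟨l, hF1, hdvd⟩ := h.root_fix_pow hl hx hxp ha hgg hgp hγp hxγ hgγ
  set Φ : Set (G ⧸ M) := {t | x • t = t}
  set F0 := {t : G ⧸ M // x • t = t ∧ g • t = t}
  set c := Nat.card (CAt z (insert g ({x} : Set G)) p) with hc
  set a := Nat.card (CAt z ({x} : Set G) p) with hadef
  have hA := h.isPGroup_pair hxg hgg' hx.1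
  have hceq : ∀ t : F0, Nat.card (CAt z (insert g ({x} : Set G)) t.1) = c := fun t =>
    h.crit.card_CAt_eq hA (by rintro y (rfl | hy); exacts [t.2.2, by rw [Set.mem_singleton_iff.1 hy]; exact t.2.1])
      (by rintro y (rfl | hy); exacts [hgp, by rw [Set.mem_singleton_iff.1 hy]; exact hxp])
  have hxA : IsPGroup 2 (Subgroup.closure ({x} : Set G)) := by
    rw [← zpowers_eq_closure]; exact Crit.isPGroup_zpowers_invol hx.1
  have hF0 : Nat.card F0 = 2 ^ l + 1 := by
    rw [← hF1, ← Nat.card_congr (Equiv.optionSubtypeNe (⟨p, hxp, hgp⟩ : F0)), Finite.card_option]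
    exact congrArg (· + 1) (Nat.card_congr
      ⟨fun t => ⟨t.1.1, t.1.2, fun e => t.2 (Subtype.ext e)⟩,
        fun t => ⟨⟨t.1, t.2.1⟩, fun e => t.2.2 (congrArg Subtype.val e)⟩, fun _ => rfl, fun _ => rfl⟩)
  have hsum : Nat.card {t : G ⧸ M // t ∈ Φ ∧ g • t ≠ t} + Nat.card F0 = 2 ^ (β * 3) + 1 := by
    rw [← hk, ← Nat.card_sum]
    exact Nat.card_congr
      { toFun := Sum.elim (fun t => ⟨t.1, t.2.1⟩) (fun t => ⟨t.1, t.2.1⟩)
        invFun := fun t => if hh : g • t.1 = t.1 then Sum.inr ⟨t.1, t.2, hh⟩ else Sum.inl ⟨t.1, t.2, hh⟩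
        left_inv := fun t => by rcases t with t | t <;> simp [t.2.2]
        right_inv := fun t => by by_cases hh : g • t.1 = t.1 <;> simp [hh] }
  have hl3 : l ≤ β * 3 := by
    have : 2 ^ l ≤ 2 ^ (β * 3) := by omega
    exact (Nat.pow_le_pow_iff_right (by norm_num)).1 this
  rcases h.line_cases hl hxg hgg' hxp hgp hx.1 with hall | ⟨i, hi, hci, hai, -⟩
  · refine ⟨hall, ?_⟩
    -- `g` centralizes the line
    have hca : c = a := by
      refine Nat.card_congr (Equiv.subtypeEquivRight fun d => ⟨fun hd => ⟨hd.1, hd.2.1, fun y hy => hd.2.2 y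
        (Set.mem_insert_of_mem _ hy)⟩, fun hd => ⟨hd.1, hd.2.1, ?_⟩⟩)
      rintro y (rfl | hy)
      · exact hall d hd.1 hd.2.1 (hd.2.2 x rfl)
      · exact hd.2.2 y hy
    rcases l.eq_zero_or_pos with hl0 | -
    · rw [hca, hadef, hl0, pow_zero] at hdvd
      have := Nat.le_of_dvd one_pos hdvd
      omega
    have hβl : β ≤ l := by
      rw [hca, hadef, hβ] at hdvd
      exact Nat.pow_dvd_pow_iff_le_right'.1 hdvd
    -- the moved points in one piece per fixed point
    let T : G ⧸ M → Type u := fun o =>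
      {t : G ⧸ M // (t ∈ Φ ∧ g • t ≠ t) ∧
        ∃ s : G, IsConj z s ∧ s • o = o ∧ (∀ y ∈ insert g ({x} : Set G), Commute y s) ∧ s • t = g • t}
    have hone : ∀ t : G ⧸ M, t ∈ Φ → g • t ≠ t →
        Nat.card (CSwap z (insert g ({x} : Set G)) t (g • t)) = 1 := fun t ht htne => by
      have := h.line_swaps hl hxg hgg' hxp hgp hx.1 ht htne
      rw [← hc, hca] at this
      exact (Nat.mul_eq_right (by omega : a ≠ 0)).1 this
    have hpart : Nat.card {t : G ⧸ M // t ∈ Φ ∧ g • t ≠ t} = Nat.card (Σ o : F0, T o.1) := by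
      refine (Nat.card_eq_of_bijective
        (fun q : Σ o : F0, T o.1 => (⟨q.2.1, q.2.2.1⟩ : {t : G ⧸ M // t ∈ Φ ∧ g • t ≠ t})) ⟨?_, ?_⟩).symm
      · rintro ⟨⟨o, ho⟩, ⟨t, ht, s, hs, hso, hsA, hst⟩⟩ ⟨⟨o', ho'⟩, ⟨t', ht', s', hs', hso', hsA', hst'⟩⟩ hh
        simp only [Subtype.mk.injEq] at hh
        subst hh
        haveI := (Nat.card_eq_one_iff_unique.1 (hone t ht.1 ht.2)).1
        obtain rfl : s = s' := congrArg Subtype.val
          (Subsingleton.elim (⟨s, hs, hst, hsA⟩ : CSwap z (insert g ({x} : Set G)) t (g • t))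
            ⟨s', hs', hst', hsA'⟩)
        obtain rfl := h.crit.fix_unique hs hso hso'
        rfl
      · rintro ⟨t, ht, htne⟩
        obtain ⟨⟨s, hs, hst, hsA⟩⟩ := (Nat.card_eq_one_iff_unique.1 (hone t ht htne)).2
        obtain ⟨o, ho⟩ := h.crit.fix_exists hs
        exact ⟨⟨⟨o, h.crit.smul_of_commute hs (hsA x (Set.mem_insert_of_mem _ rfl)) ho,
          h.crit.smul_of_commute hs (hsA g (Set.mem_insert _ _)) ho⟩,
          ⟨t, ⟨ht, htne⟩, s, hs, ho, hsA, hst⟩⟩, rfl⟩
    have hT : ∀ o : F0, Nat.card (T o.1) = Nat.card (T p) := by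
      intro o
      by_cases hop : o.1 = p
      · rw [hop]
      have hfix : ∀ q : G ⧸ M, x • q = q → g • q = q → ∀ y ∈ Subgroup.closure (insert g ({x} : Set G)), y • q = q :=
        fun q h1 h2 y hy => (Subgroup.closure_le (MulAction.stabilizer G q)).2
          (by rintro v (rfl | hv); exacts [h2, by rw [Set.mem_singleton_iff.1 hv]; exact h1]) hy
      obtain ⟨w, hw, hwo, hwA⟩ := h.crit.exists_commuting_swap hA hop (hfix o.1 o.2.1 o.2.2) (hfix p hxp hgp)
      have hwg : Commute g w := hwA g (Subgroup.subset_closure (Set.mem_insert _ _))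
      have hwx : Commute x w := hwA x (Subgroup.subset_closure (Set.mem_insert_of_mem _ rfl))
      have hwi := h.crit.orderOf_conj hw
      have hwp : w • p = o.1 := by rw [← hwo, smul_smul, invol_mul_self hwi, one_smul]
      have key : ∀ (o' o'' : G ⧸ M), w • o' = o'' → ∀ t : G ⧸ M,
          ((t ∈ Φ ∧ g • t ≠ t) ∧ ∃ s : G, IsConj z s ∧ s • o' = o' ∧
            (∀ y ∈ insert g ({x} : Set G), Commute y s) ∧ s • t = g • t) →
          ((w • t ∈ Φ ∧ g • w • t ≠ w • t) ∧ ∃ s : G, IsConj z s ∧ s • o'' = o'' ∧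
            (∀ y ∈ insert g ({x} : Set G), Commute y s) ∧ s • w • t = g • w • t) := by
        rintro o' o'' hoo t ⟨⟨ht, htne⟩, s, hs, hso, hsA, hst⟩
        have e : g • w • t = w • g • t := by rw [smul_smul, hwg.eq, mul_smul]
        refine ⟨⟨smul_mem_fix hwx ht, fun e1 => htne (smul_left_cancel w (e ▸ e1))⟩, w * s * w⁻¹,
          hs.trans (isConj_iff.2 ⟨w, rfl⟩), by rw [← hoo, mul_smul, mul_smul, inv_smul_smul, hso],
          fun y hy => ?_, by rw [mul_smul, mul_smul, inv_smul_smul, hst, e]⟩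
        have hyw : Commute y w := hwA y (Subgroup.subset_closure hy)
        exact (hyw.mul_right (hsA y hy)).mul_right hyw.inv_right
      refine Nat.card_congr ⟨fun t => ⟨w • t.1, key o.1 p hwo t.1 t.2⟩, fun t => ⟨w • t.1, key p o.1 hwp t.1 t.2⟩,
        fun t => Subtype.ext ?_, fun t => Subtype.ext ?_⟩ <;>
      · show w • w • t.1 = t.1
        rw [smul_smul, invol_mul_self hwi, one_smul]
    letI := Fintype.ofFinite F0
    rw [Nat.card_sigma, Finset.sum_congr rfl fun o _ => hT o, Finset.sum_const, smul_eq_mul,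
      Finset.card_univ, ← Nat.card_eq_fintype_card, hF0] at hpart
    rw [hpart, hF0] at hsum
    have hdiv : 2 ^ l + 1 ∣ 2 ^ (β * 3) + 1 := hsum ▸ ⟨Nat.card (T p) + 1, by ring⟩
    rcases Shape.root_fix_arith hβl hl3 hdiv with e | e
    · exact Or.inl (by rw [hF1, e])
    · refine Or.inr fun t ht => ?_
      by_contra htne
      have hpos : 0 < Nat.card {t : G ⧸ M // t ∈ Φ ∧ g • t ≠ t} :=
        haveI : Nonempty {t : G ⧸ M // t ∈ Φ ∧ g • t ≠ t} := ⟨⟨t, ht, htne⟩⟩
        Nat.card_pos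
      rw [hpart, e] at hpos
      rw [e] at hsum
      omega
  · -- the root moves the line
    exfalso
    rw [← hc] at hci
    rw [← hadef] at hai
    have hR : ∀ t ∈ Φ, g • t ≠ t → Nat.card (CSwap z (insert g ({x} : Set G)) t (g • t)) = c + 2 := by
      intro t ht htne
      refine Nat.eq_of_mul_eq_mul_right (show 0 < c by have := Nat.le_self_pow (show i ≠ 0 by omega) 2; omega) ?_
      rw [h.line_swaps hl hxg hgg' hxp hgp hx.1 ht htne]
      rw [← hci] at hai
      nlinarith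
    have hid := h.crit.moved_mul_eq (A := ({x} : Set G)) (r := g) (Φ := Φ)
      (fun d _ hdA t ht => smul_mem_fix (hdA x (Set.mem_insert_of_mem _ rfl)) ht)
      (fun d hd hdA t ht => h.crit.smul_of_commute hd (hdA x (Set.mem_insert_of_mem _ rfl)) ht)
      (R := c + 2) (f' := Nat.card F0) hR
      (fun d hd hdA => by
        obtain ⟨o, ho⟩ := h.crit.fix_exists hd
        have hgd := hdA g (Set.mem_insert _ _)
        have hxd := hdA x (Set.mem_insert_of_mem _ rfl)
        have hgo := h.crit.smul_of_commute hd hgd ho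
        have hxo := h.crit.smul_of_commute hd hxd ho
        have hco := hceq ⟨o, hxo, hgo⟩
        have hao : Nat.card (CAt z ({x} : Set G) o) = a := h.crit.card_CAt_eq hxA
          (by rintro y rfl; exact hxo) (by rintro y rfl; exact hxp)
        rcases h.line_cases hl hxg hgg' hxo hgo hx.1 with hall | ⟨-, -, -, -, hconj⟩
        · exfalso
          have e1 : Nat.card (CAt z (insert g ({x} : Set G)) o) = Nat.card (CAt z ({x} : Set G) o) := by
            refine Nat.card_congr (Equiv.subtypeEquivRight fun d => ⟨fun hd => ⟨hd.1, hd.2.1, fun y hy => hd.2.2 y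
              (Set.mem_insert_of_mem _ hy)⟩, fun hd => ⟨hd.1, hd.2.1, ?_⟩⟩)
            rintro y (rfl | hy)
            · exact hall d hd.1 hd.2.1 (hd.2.2 x rfl)
            · exact hd.2.2 y hy
          change Nat.card (CAt z (insert g ({x} : Set G)) o) = c at hco
          rw [e1, hao] at hco
          rw [hco, hci] at hai
          have := Nat.le_self_pow (show i ≠ 0 by omega) 2
          nlinarith
        obtain ⟨e, hxe, -, he⟩ := hconj d hd ho hxd hgd
        rw [← he]
        exact Nat.card_congr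
          { toFun := fun t => ⟨e⁻¹ • t.1, smul_mem_fix hxe.inv_right t.2.1,
              eq_inv_smul_iff.2 (by
                conv_rhs => rw [← t.2.2]
                rw [mul_smul, mul_smul])⟩
            invFun := fun t => ⟨e • t.1, smul_mem_fix hxe t.2.1,
              by rw [mul_smul, mul_smul, inv_smul_smul, t.2.2]⟩
            left_inv := fun t => Subtype.ext (smul_inv_smul e t.1)
            right_inv := fun t => Subtype.ext (inv_smul_smul e t.1) })
    letI := Fintype.ofFinite F0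
    have hD : Nat.card {d : G // IsConj z d ∧ ∀ y ∈ insert g ({x} : Set G), Commute y d} = Nat.card F0 * c := by
      rw [← Nat.card_eq_of_bijective (α := Σ t : F0, CAt z (insert g ({x} : Set G)) t.1)
        (fun s => (⟨s.2.1, s.2.2.1, s.2.2.2.2⟩ :
          {d : G // IsConj z d ∧ ∀ y ∈ insert g ({x} : Set G), Commute y d})) ⟨?_, fun d => ?_⟩, Nat.card_sigma,
        Finset.sum_congr rfl fun t _ => hceq t, Finset.sum_const, smul_eq_mul, Finset.card_univ,
        ← Nat.card_eq_fintype_card]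
      · rintro ⟨⟨t, ht⟩, ⟨d, hd⟩⟩ ⟨⟨t', ht'⟩, ⟨d', hd'⟩⟩ hh
        simp only [Subtype.mk.injEq] at hh
        subst hh
        obtain rfl := h.crit.fix_unique hd.1 hd.2.1 hd'.2.1
        rfl
      · obtain ⟨t, ht⟩ := h.crit.fix_exists d.2.1
        exact ⟨⟨⟨t, h.crit.smul_of_commute d.2.1 (d.2.2 x (Set.mem_insert_of_mem _ rfl)) ht,
          h.crit.smul_of_commute d.2.1 (d.2.2 g (Set.mem_insert _ _)) ht⟩, ⟨d.1, d.2.1, ht, d.2.2⟩⟩, rfl⟩
    rw [hD, hF0, Nat.add_sub_cancel] at hid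
    obtain ⟨mv, hmv⟩ : ∃ mv, Nat.card {t : G ⧸ M // t ∈ Φ ∧ g • t ≠ t} = mv := ⟨_, rfl⟩
    rw [hmv] at hid hsum
    rw [hF0] at hsum
    have hβi : β = i + i := Nat.pow_right_injective le_rfl
      (show 2 ^ β = 2 ^ (i + i) by rw [← hβ, hai, pow_add])
    have hil : i ≤ l := by
      rw [hci] at hdvd
      exact Nat.pow_dvd_pow_iff_le_right'.1 hdvd
    refine Shape.root_cube_arith hi hil ?_
    rw [show i * 6 = β * 3 by omega]
    obtain ⟨Q, hQ⟩ : ∃ Q, c = Q := ⟨_, rfl⟩
    rw [hQ] at hid hci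
    rw [← hci, Nat.add_sub_cancel]
    rw [← show mv + 2 ^ l = 2 ^ (β * 3) by omega]
    linear_combination hid

end CfsgLib.SECrit
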