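import Cfsg.Agent.Lib.Invol.Basic
import Mathlib.GroupTheory.Nilpotent
import Mathlib.GroupTheory.PGroup

/-!
# The Sylow group of the stabilizer of a coset of a bad involution: the abstract setting

`S` is the Sylow two-group of the stabilizer of the coset `E x`, `Q` the regular group at the point with
`Q x` the centralizer of `x`, `C` automorphisms of `S` fixing `x`, transitive on the non-trivial elements
of `E`.  Nothing is assumed about the number of members at the point.
-/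

set_option autoImplicit false

namespace CfsgLib.SECrit.Shape

universe u

/-- The data of the stabilizer of a coset. -/
structure CosetData {S : Type u} [Group S] [Finite S] (E Q : Subgroup S) (x : S) (C : Subgroup (MulAut S)) :
    Prop where
  two : IsPGroup 2 S
  four_le : 4 ≤ Nat.card E
  card_le : Nat.card Q ≤ Nat.card E ^ 3
  central : E ≤ Subgroup.center S
  elem : ∀ e ∈ E, e * e = 1
  le : E ≤ Q
  sq : ∀ v ∈ Q, v * v ∈ E
  invol : ∀ v ∈ Q, v * v = 1 → v ∈ E
  center_le : ∀ v ∈ Q, (∀ w ∈ Q, Commute v w) → v ∈ E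
  x_sq : x * x = 1
  x_notMem : x ∉ Q
  x_comm : ∀ v ∈ Q, Commute x v
  cent : ∀ g : S, Commute g x → ∃ v ∈ Q, g = v ∨ g = v * x
  translate : ∀ g : S, g * x * g⁻¹ * x ∈ E
  surj : ∀ e ∈ E, ∃ g : S, g * x * g⁻¹ = e * x
  fix_x : ∀ c ∈ C, c x = x
  stab_E : ∀ c ∈ C, ∀ e ∈ E, c e ∈ E
  stab_Q : ∀ c ∈ C, ∀ v ∈ Q, c v ∈ Q
  trans : ∀ e ∈ E, ∀ f ∈ E, e ≠ 1 → f ≠ 1 → ∃ c ∈ C, c e = f

end CfsgLib.SECrit.Shape
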