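import Cfsg.Agent.Lib.Invol.Basic
import Mathlib.GroupTheory.PGroup
import Mathlib.GroupTheory.OrderOfElement

/-!
# The Sylow group of the stabilizer of a coset of a bad involution: the kernel part

If the centralizer of `x` is `Q R` with `R` meeting `Q` trivially and centralizing it, `x` is the only
involution of `R`, `Z(Q) ≤ E` and `x` is moved inside `E x`, then `R` is generated by `x`.
-/

set_option autoImplicit false

namespace CfsgLib.SECrit.Shape

open Subgroup

universe u

variable {S : Type u} [Group S]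

/-- A two-group whose only involution is `x` either is `⟨x⟩` or has a root of `x`. -/
theorem exists_sq_eq_of_unique_invol {R : Subgroup S} (hR : IsPGroup 2 R) {x : S}
    (huniq : ∀ r ∈ R, r * r = 1 → r = 1 ∨ r = x) {r : S} (hr : r ∈ R) (h1 : r ≠ 1) (hx : r ≠ x) :
    ∃ s ∈ R, s * s = x := by
  obtain ⟨k, hk⟩ := hR ⟨r, hr⟩
  have hk' : r ^ 2 ^ k = 1 := congrArg Subtype.val hk
  clear hk
  induction k generalizing r with
  | zero => exact absurd (by simpa using hk') h1
  | succ k ih =>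
    by_cases h2 : r * r = 1
    · rcases huniq r hr h2 with e | e
      · exact absurd e h1
      · exact absurd e hx
    · by_cases h3 : r * r = x
      · exact ⟨r, hr, h3⟩
      · refine ih (mul_mem hr hr) h2 h3 ?_
        rw [← pow_two, ← pow_mul, ← pow_succ']
        exact hk'

/-- **The kernel part is `⟨x⟩`.** -/
theorem eq_one_or_of_kernel {E Q R : Subgroup S} {x : S} (hR : IsPGroup 2 R) (hxR : x ∈ R)
    (hxx : x * x = 1) (hEc : ∀ e ∈ E, ∀ g : S, Commute e g) (hEelem : ∀ e ∈ E, e * e = 1)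
    (hEQ : E ≤ Q) (hsq : ∀ v ∈ Q, v * v ∈ E) (hZ : ∀ v ∈ Q, (∀ w ∈ Q, Commute v w) → v ∈ E)
    (hint : ∀ v ∈ Q, v ∈ R → v = 1) (hcen : ∀ r ∈ R, ∀ v ∈ Q, Commute r v)
    (huniq : ∀ r ∈ R, r * r = 1 → r = 1 ∨ r = x)
    (hC : ∀ g : S, Commute g x → ∃ v ∈ Q, ∃ r ∈ R, g = v * r) {g : S}
    (htr : g * x * g⁻¹ * x ∈ E) (hmove : g * x * g⁻¹ ≠ x) :
    ∀ r ∈ R, r = 1 ∨ r = x := by
  intro r hr
  by_contra hh
  push Not at hh
  obtain ⟨s, hs, hss⟩ := exists_sq_eq_of_unique_invol hR huniq hr hh.1 hh.2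
  set e := g * x * g⁻¹ * x with he
  have hgx : g * x * g⁻¹ = e * x := by rw [he, mul_assoc _ x x, hxx, mul_one]
  have hsx : Commute s x := by rw [← hss]; exact (Commute.refl s).mul_right (Commute.refl s)
  -- the conjugate of `s` commutes with `x`
  have hc1 : Commute (g * s * g⁻¹) (g * x * g⁻¹) := hsx.conj g
  have hc2 : Commute (g * s * g⁻¹) x := by
    have h1 : Commute (g * s * g⁻¹) (e⁻¹ * (e * x)) :=
      ((hEc e⁻¹ (inv_mem htr) _).symm).mul_right (hgx ▸ hc1)
    rwa [inv_mul_cancel_left] at h1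
  obtain ⟨w, hw, r1, hr1, hwr⟩ := hC _ hc2
  -- it centralizes `Q`
  have hQ : ∀ v ∈ Q, Commute (g * s * g⁻¹) v := by
    intro v hv
    have hvx : Commute (g⁻¹ * v * g) x := by
      have h2 : Commute v (g * x * g⁻¹) := by
        rw [hgx]; exact ((hEc e htr v).symm).mul_right (hcen x hxR v hv).symm
      have h3 := h2.conj g⁻¹
      simpa [mul_assoc] using h3
    obtain ⟨v', hv', r', hr', hvr⟩ := hC _ hvx
    have hr'2 : r' * r' = 1 := by
      have h4 : (g⁻¹ * v * g) * (g⁻¹ * v * g) = v * v := by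
        calc g⁻¹ * v * g * (g⁻¹ * v * g) = g⁻¹ * (v * v) * g := by group
          _ = g⁻¹ * g * (v * v) := by rw [mul_assoc, (hEc _ (hsq v hv) g).eq, ← mul_assoc]
          _ = v * v := by rw [inv_mul_cancel, one_mul]
      have h5 : (v' * v') * (r' * r') = v * v := by
        rw [← h4, hvr, mul_assoc v' r', ← mul_assoc r', (hcen r' hr' v' hv').eq]
        simp [mul_assoc]
      refine hint _ ?_ (mul_mem hr' hr')
      rw [show r' * r' = (v' * v')⁻¹ * (v * v) by rw [← h5, inv_mul_cancel_left]]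
      exact mul_mem (inv_mem (mul_mem hv' hv')) (mul_mem hv hv)
    have hsr : Commute s r' := by
      rcases huniq r' hr' hr'2 with e1 | e1
      · rw [e1]; exact Commute.one_right s
      · rw [e1]; exact hsx
    have h6 : Commute s (g⁻¹ * v * g) := hvr ▸ (hcen s hs v' hv').mul_right hsr
    have h7 := h6.conj g
    simpa [mul_assoc] using h7
  have hwZ : w ∈ E := by
    refine hZ w hw fun v hv => ?_
    have h8 : w = (g * s * g⁻¹) * r1⁻¹ := by rw [hwr, mul_inv_cancel_right]
    rw [h8]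
    exact (hQ v hv).mul_left (hcen r1 hr1 v hv).inv_left
  have h9 : r1 * r1 = e * x := by
    rw [← hgx, ← hss]
    calc r1 * r1 = (w * w) * (r1 * r1) := by rw [hEelem w hwZ, one_mul]
      _ = (w * r1) * (w * r1) := by
          rw [mul_assoc w r1, ← mul_assoc r1 w, ← (hEc w hwZ r1).eq]; simp [mul_assoc]
      _ = g * (s * s) * g⁻¹ := by rw [← hwr]; group
  have heR : e = (r1 * r1) * x⁻¹ := by rw [h9, mul_inv_cancel_right]
  have he1 : e = 1 := hint e (hEQ htr) (heR ▸ mul_mem (mul_mem hr1 hr1) (inv_mem hxR))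
  exact hmove (by rw [hgx, he1, one_mul])

end CfsgLib.SECrit.Shape
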