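import Cfsg.Agent.Lib.Invol.SECriterion.Setup
import Cfsg.Agent.Lib.Invol.SECriterion.LocalDefs
import Cfsg.Agent.Lib.Invol.SECriterion.Local.Base
import Cfsg.Agent.Lib.Invol.SECriterion.PureE
import Cfsg.Agent.Lib.Invol.SECriterion.SmallType.Swaps

/-!
# The strong embedding criterion: the line of a bad involution under an involution or a root

`g` fixes a fixed point of `x`, commutes with `x` and has square `1` or `x`.  Either it centralizes
the line, or it fixes the square root of its order and moves the translations inside the line.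
-/

set_option autoImplicit false
set_option linter.style.haveILetI false

namespace CfsgLib.SECrit

open CfsgLib.Invol Subgroup

universe u

variable {G : Type u} [Group G] [Finite G] {M : Subgroup G} {z : G}

variable (h : Setup M z) {x : G} (hl : Local M z x)
include h hl

/-- **The line.** The members at `p` centralizing `x`, with the identity. -/
theorem Setup.exists_lineGroup (p : G ⧸ M) :
    ∃ E : Subgroup G, (∀ g : G, g ∈ E ↔ g = 1 ∨ (IsConj z g ∧ g • p = p ∧ Commute x g)) ∧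
      (∀ g ∈ E, g * g = 1) ∧ (∀ a ∈ E, ∀ b ∈ E, Commute a b) ∧ IsPGroup 2 E ∧
      Nat.card E = Nat.card (CAt z ({x} : Set G) p) + 1 := by
  haveI : Fact (Nat.Prime 2) := ⟨Nat.prime_two⟩
  have hcomm : ∀ {a b : G}, IsConj z a ∧ a • p = p ∧ Commute x a → IsConj z b ∧ b • p = p ∧ Commute x b →
      Commute a b := fun ha' hb' => hl.comm_at _ _ p ha'.1 hb'.1 ha'.2.2 hb'.2.2 ha'.2.1 hb'.2.1
  let E : Subgroup G :=
    { carrier := {g | g = 1 ∨ (IsConj z g ∧ g • p = p ∧ Commute x g)}
      one_mem' := Or.inl rfl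
      inv_mem' := by
        rintro a (rfl | ha')
        · exact Or.inl inv_one
        · rw [invol_inv (h.crit.orderOf_conj ha'.1)]; exact Or.inr ha'
      mul_mem' := by
        rintro a b (rfl | ha') (rfl | hb')
        · exact Or.inl (one_mul 1)
        · rw [one_mul]; exact Or.inr hb'
        · rw [mul_one]; exact Or.inr ha'
        · by_cases e : a = b
          · rw [← e, invol_mul_self (h.crit.orderOf_conj ha'.1)]; exact Or.inl rfl
          · exact Or.inr ⟨h.isConj_mul ha'.1 hb'.1 (hcomm ha' hb') e,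
              by rw [mul_smul, hb'.2.1, ha'.2.1], ha'.2.2.mul_right hb'.2.2⟩ }
  have hsq : ∀ g ∈ E, g * g = 1 := by
    rintro g (rfl | hg)
    · exact one_mul 1
    · exact invol_mul_self (h.crit.orderOf_conj hg.1)
  refine ⟨E, fun g => Iff.rfl, hsq, ?_, fun g => ⟨1, Subtype.ext ?_⟩, ?_⟩
  · rintro a (rfl | ha') b (rfl | hb')
    · exact Commute.refl 1
    · exact Commute.one_left b
    · exact Commute.one_right a
    · exact hcomm ha' hb'
  · rw [SubmonoidClass.coe_pow, pow_one, pow_two, hsq _ g.2, OneMemClass.coe_one]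
  · show Nat.card ↥({g : G | g = 1 ∨ (IsConj z g ∧ g • p = p ∧ Commute x g)} : Set G) = _
    rw [show {g : G | g = 1 ∨ (IsConj z g ∧ g • p = p ∧ Commute x g)} =
        insert (1 : G) {g : G | IsConj z g ∧ g • p = p ∧ Commute x g} from rfl,
      Nat.card_coe_set_eq, Set.ncard_insert_of_notMem ?_ (Set.toFinite _), ← Nat.card_coe_set_eq]
    · exact congrArg (· + 1) (Nat.card_congr (Equiv.subtypeEquivRight fun g => by simp))
    · rintro ⟨h1, -, -⟩
      exact invol_ne_one (h.crit.orderOf_conj h1) rfl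

variable {g : G} (hxg : Commute x g) (hgg : g * g = 1 ∨ g * g = x)
include hxg hgg

omit h hl hxg in
/-- The square of `g` centralizes what `x` centralizes. -/
theorem sq_commute {e : G} (he : Commute x e) : Commute (g * g) e := by
  rcases hgg with e1 | e1 <;> rw [e1]
  exacts [Commute.one_left e, he]

omit hl in
/-- `g` and `x` generate a two-group. -/
theorem Setup.isPGroup_pair (hx : orderOf x = 2) :
    IsPGroup 2 (Subgroup.closure (insert g ({x} : Set G))) := by
  haveI : Fact (Nat.Prime 2) := ⟨Nat.prime_two⟩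
  have _ := h.crit
  have h4 : g ^ 4 = 1 := by
    rw [show 4 = 2 * 2 from rfl, pow_mul, pow_two g]
    rcases hgg with e1 | e1 <;> rw [e1, pow_two]
    exacts [one_mul 1, invol_mul_self hx]
  have hg : IsPGroup 2 (zpowers g) := by
    obtain ⟨k, -, hk⟩ := (Nat.dvd_prime_pow Nat.prime_two).1
      (orderOf_dvd_of_pow_eq_one h4 : _ ∣ 2 ^ 2)
    exact IsPGroup.of_card (n := k) (by rw [Nat.card_zpowers, hk])
  have hn : zpowers x ≤ normalizer (zpowers g : Set G) :=
    zpowers_le.2 (centralizer_le_normalizer _ (mem_centralizer_iff.2 fun y hy => by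
      obtain ⟨i, rfl⟩ := mem_zpowers_iff.1 hy
      exact (hxg.symm.zpow_left i).eq))
  refine (IsPGroup.to_sup_of_normal_left' hg (Crit.isPGroup_zpowers_invol hx) hn).to_le ?_
  rw [closure_le]
  rintro y (rfl | hy)
  · exact mem_sup_left (mem_zpowers _)
  · rw [Set.mem_singleton_iff.1 hy]; exact mem_sup_right (mem_zpowers x)

variable {p : G ⧸ M} (hxp : x • p = p) (hgp : g • p = p) (hx : orderOf x = 2)
include hxp hgp hx

/-- The swaps commuting with `g` of a fixed point of `x` moved by it. -/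
theorem Setup.line_swaps {δ : G ⧸ M} (hδ : x • δ = δ) (hne : g • δ ≠ δ) :
    Nat.card (CSwap z (insert g ({x} : Set G)) δ (g • δ)) *
      Nat.card (CAt z (insert g ({x} : Set G)) p) = Nat.card (CAt z ({x} : Set G) p) := by
  have hA : IsPGroup 2 (Subgroup.closure ({x} : Set G)) := by
    rw [← zpowers_eq_closure]; exact Crit.isPGroup_zpowers_invol hx
  rw [← h.crit.card_CAt_eq hA (a := δ) (b := p) (by rintro y rfl; exact hδ) (by rintro y rfl; exact hxp)]
  have hggδ : g • g • δ = δ := by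
    rw [smul_smul]
    rcases hgg with e1 | e1 <;> rw [e1]
    exacts [one_smul G δ, hδ]
  refine h.crit.card_swap_mul (A := ({x} : Set G)) hne.symm rfl hggδ (fun d y hy => ?_)
    (fun d => sq_commute hgg (d.2.2.2 x rfl)) fun s => ?_
  · rw [Set.mem_singleton_iff.1 hy]
    exact (hxg.mul_right (d.2.2.2 x rfl)).mul_right hxg.inv_right
  obtain ⟨s, hs, hsδ, hsA⟩ := s
  have hgs : Commute g s := hsA g (Set.mem_insert _ _)
  have hxs : Commute x s := hsA x (Set.mem_insert_of_mem _ rfl)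
  obtain ⟨o, ho⟩ := h.crit.fix_exists hs
  have hgo : g • o = o := h.crit.smul_of_commute hs hgs ho
  have hxo : x • o = o := h.crit.smul_of_commute hs hxs ho
  have hso := h.crit.orderOf_conj hs
  have hsq : s * g * (s * g) = 1 ∨ s * g * (s * g) = x := by
    rwa [show s * g * (s * g) = (s * s) * (g * g) by
      rw [hgs.mul_mul_mul_comm], invol_mul_self hso, one_mul]
  have hfix : (s * g) • δ = δ := by rw [mul_smul, ← hsδ, smul_smul, invol_mul_self hso, one_smul]
  show Nat.card (CAt z (insert (s * g) ({x} : Set G)) δ) = _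
  rw [h.crit.card_CAt_eq (h.isPGroup_pair (hxs.mul_right hxg) hsq hx) (a := δ) (b := o)
    (by rintro y (rfl | hy); exacts [hfix, by rw [Set.mem_singleton_iff.1 hy]; exact hδ])
    (by rintro y (rfl | hy); exacts [by rw [mul_smul, hgo, ho], by rw [Set.mem_singleton_iff.1 hy]; exact hxo]),
    ← h.crit.card_CAt_eq (h.isPGroup_pair hxg hgg hx) (a := o) (b := p)
    (by rintro y (rfl | hy); exacts [hgo, by rw [Set.mem_singleton_iff.1 hy]; exact hxo])
    (by rintro y (rfl | hy); exacts [hgp, by rw [Set.mem_singleton_iff.1 hy]; exact hxp])]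
  refine Nat.card_congr (Equiv.subtypeEquivRight fun t => ⟨?_, ?_⟩)
  · rintro ⟨ht, hto, htA⟩
    refine ⟨ht, hto, ?_⟩
    rintro y (rfl | hy)
    · have h1 : Commute s t := hl.comm_at s t o hs ht hxs (htA x (Set.mem_insert_of_mem _ rfl)) ho hto
      have := h1.inv_left.mul_left (htA _ (Set.mem_insert _ _))
      rwa [inv_mul_cancel_left] at this
    · exact htA y (Set.mem_insert_of_mem _ hy)
  · rintro ⟨ht, hto, htA⟩
    refine ⟨ht, hto, ?_⟩
    rintro y (rfl | hy)
    · exact (hl.comm_at s t o hs ht hxs (htA x (Set.mem_insert_of_mem _ rfl)) ho hto).mul_left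
        (htA g (Set.mem_insert _ _))
    · exact htA y (Set.mem_insert_of_mem _ hy)

/-- **The line under `g`**: `g` centralizes it, or fixes the square root of it, all of which are
products `e (g e g⁻¹)`, so then `g d` is conjugate to `g` for each fixed member `d`. -/
theorem Setup.line_cases :
    (∀ d : G, IsConj z d → d • p = p → Commute x d → Commute g d) ∨
    ∃ i : ℕ, 1 ≤ i ∧ Nat.card (CAt z (insert g ({x} : Set G)) p) + 1 = 2 ^ i ∧
      Nat.card (CAt z ({x} : Set G) p) + 1 = 2 ^ i * 2 ^ i ∧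
      ∀ d : G, IsConj z d → d • p = p → Commute x d → Commute g d →
        ∃ e : G, Commute x e ∧ e • p = p ∧ e * g * e⁻¹ = g * d := by
  classical
  haveI : Fact (Nat.Prime 2) := ⟨Nat.prime_two⟩
  by_cases hall : ∀ d : G, IsConj z d → d • p = p → Commute x d → Commute g d
  · exact Or.inl hall
  refine Or.inr ?_
  push Not at hall
  obtain ⟨d₁, hd₁, hd₁p, hxd₁, hgd₁⟩ := hall
  obtain ⟨E, hE, hE2, hEc, hEP, hEcard⟩ := h.exists_lineGroup hl p
  have hconjE : ∀ e ∈ E, g * e * g⁻¹ ∈ E := by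
    intro e he
    rcases (hE e).1 he with rfl | ⟨h1, h2, h3⟩
    · exact (hE _).2 (Or.inl (by group))
    · exact (hE _).2 (Or.inr ⟨h1.trans (isConj_iff.2 ⟨g, rfl⟩),
        by rw [mul_smul, mul_smul, inv_smul_eq_iff.2 hgp.symm, h2, hgp],
        (hxg.mul_right h3).mul_right hxg.inv_right⟩)
  have hxE : ∀ e ∈ E, Commute x e := fun e he => by
    rcases (hE e).1 he with rfl | h1
    exacts [Commute.one_right x, h1.2.2]
  have hepE : ∀ e ∈ E, e • p = p := fun e he => by
    rcases (hE e).1 he with rfl | h1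
    exacts [one_smul G p, h1.2.1]
  have hr2 : ∀ e ∈ E, g * (g * e * g⁻¹) * g⁻¹ = e := fun e he => by
    calc g * (g * e * g⁻¹) * g⁻¹ = (g * g) * e * (g * g)⁻¹ := by group
      _ = e := by rw [(sq_commute hgg (hxE e he)).eq, mul_inv_cancel_right]
  let φ : E →* G :=
    { toFun := fun e => (e : G) * (g * e * g⁻¹)
      map_one' := by simp
      map_mul' := fun e e' => by
        show (e : G) * e' * (g * ((e : G) * e') * g⁻¹) = e * (g * e * g⁻¹) * (e' * (g * e' * g⁻¹))
        rw [show g * ((e : G) * e') * g⁻¹ = (g * e * g⁻¹) * (g * e' * g⁻¹) by group]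
        exact Commute.mul_mul_mul_comm (hEc _ e'.2 _ (hconjE e e.2)) _ _ }
  set K := E ⊓ centralizer ({g} : Set G) with hK
  set c := Nat.card (CAt z (insert g ({x} : Set G)) p) with hc
  set a := Nat.card (CAt z ({x} : Set G) p) with ha
  have hKcard : Nat.card K = c + 1 := by
    have e1 : (K : Set G) = insert (1 : G) {d : G | IsConj z d ∧ d • p = p ∧ ∀ y ∈ insert g ({x} : Set G), Commute y d} := by
      ext d
      simp only [hK, coe_inf, Set.mem_inter_iff, SetLike.mem_coe, hE, mem_centralizer_singleton_iff,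
        Set.mem_insert_iff, Set.mem_setOf_eq, forall_eq_or_imp, Set.mem_singleton_iff, forall_eq]
      constructor
      · rintro ⟨rfl | h1, h2⟩
        · exact Or.inl rfl
        · exact Or.inr ⟨h1.1, h1.2.1, h2.symm, h1.2.2⟩
      · rintro (rfl | ⟨h1, h2, h3, h4⟩)
        · exact ⟨Or.inl rfl, by simp⟩
        · exact ⟨Or.inr ⟨h1, h2, h4⟩, h3.symm⟩
    show Nat.card ↥(K : Set G) = _
    rw [e1, Nat.card_coe_set_eq, Set.ncard_insert_of_notMem ?_ (Set.toFinite _), ← Nat.card_coe_set_eq]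
    · rfl
    · rintro ⟨h1, -, -⟩
      exact invol_ne_one (h.crit.orderOf_conj h1) rfl
  have hker : Nat.card φ.ker = c + 1 := by
    rw [← hKcard]
    refine Nat.card_congr ⟨fun e => ⟨e.1.1, e.1.2, mem_centralizer_singleton_iff.2 ?_⟩,
      fun k => ⟨⟨k.1, k.2.1⟩, ?_⟩, fun _ => rfl, fun _ => rfl⟩
    · have h2 := inv_eq_of_mul_eq_one_right (show (e.1 : G) * (g * e.1 * g⁻¹) = 1 from e.2)
      rw [inv_eq_of_mul_eq_one_right (hE2 _ e.1.2)] at h2
      exact (mul_inv_eq_iff_eq_mul.1 h2.symm).symm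
    · show (k : G) * (g * k * g⁻¹) = 1
      rw [← mem_centralizer_singleton_iff.1 k.2.2, mul_inv_cancel_right, hE2 _ k.2.1]
  have hrange : φ.range ≤ K := by
    rintro _ ⟨e, rfl⟩
    refine ⟨mul_mem e.2 (hconjE e e.2), mem_centralizer_singleton_iff.2 ?_⟩
    refine (mul_inv_eq_iff_eq_mul.1 (?_ : g * φ e * g⁻¹ = φ e)).symm
    show g * ((e : G) * (g * e * g⁻¹)) * g⁻¹ = (e : G) * (g * e * g⁻¹)
    rw [show g * ((e : G) * (g * e * g⁻¹)) * g⁻¹ = (g * e * g⁻¹) * (g * (g * e * g⁻¹) * g⁻¹) by group,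
      hr2 e e.2, (hEc _ (hconjE e e.2) _ e.2).eq]
  obtain ⟨l, hl'⟩ := (hEP.to_le (hrange.trans inf_le_left)).exists_card_eq
  have hmul : 2 ^ l * (c + 1) = a + 1 := by
    rw [← hl', ← hker, ← hEcard, ← index_ker, mul_comm, card_mul_index]
  have hl0 : l ≠ 0 := by
    intro e0
    rw [e0, pow_zero, one_mul] at hmul
    have h1 : K = E := eq_of_le_of_card_ge inf_le_left (by rw [hKcard, hEcard, hmul])
    exact hgd₁ (mem_centralizer_singleton_iff.1
      (h1.ge ((hE d₁).2 (Or.inr ⟨hd₁, hd₁p, hxd₁⟩))).2).symm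
  -- a moved fixed point of `x`
  obtain ⟨δ, hδ, hne⟩ : ∃ δ, x • δ = δ ∧ g • δ ≠ δ := by
    by_contra hh
    push Not at hh
    apply hgd₁
    have hge : IsConj z (g * d₁ * g⁻¹) := hd₁.trans (isConj_iff.2 ⟨g, rfl⟩)
    have hxge : Commute x (g * d₁ * g⁻¹) := (hxg.mul_right hxd₁).mul_right hxg.inv_right
    have h1 := hl.eq_of_ker _ _ hd₁ hge hxd₁ hxge (mem_locKer.2
      ⟨mul_mem (inv_mem (mem_locGroup hd₁ hxd₁)) (mem_locGroup hge hxge), fun t ht => by
        rw [mul_smul, inv_smul_eq_iff, mul_smul, mul_smul, inv_smul_eq_iff.2 (hh t ht).symm,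
          hh _ (smul_mem_fix hxd₁ ht)]⟩)
    exact (mul_inv_eq_iff_eq_mul.1 h1.symm)
  have hsw := h.line_swaps hl hxg hgg hxp hgp hx hδ hne
  rw [← hc, ← ha] at hsw
  have hle : 2 ^ l ≤ c + 1 := hl' ▸ hKcard ▸ card_le_of_le hrange
  have h2l : 2 ≤ 2 ^ l := Nat.le_self_pow hl0 2
  have hdvd : c ∣ 2 ^ l - 1 := by
    obtain ⟨k, hk⟩ : c ∣ a := Dvd.intro_left _ hsw
    rw [hk] at hmul
    refine ⟨k - 2 ^ l, ?_⟩
    rw [Nat.mul_sub]
    have : c * 2 ^ l + 2 ^ l = c * k + 1 := by rw [← hmul]; ring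
    omega
  have h2 : 2 ^ l = c + 1 := by
    have := Nat.le_of_dvd (by omega) hdvd
    omega
  refine ⟨l, Nat.one_le_iff_ne_zero.2 hl0, h2.symm, by rw [← hmul, h2], fun d hd hdp hxd hgd => ?_⟩
  have hrK : φ.range = K := eq_of_le_of_card_ge hrange (by rw [hl', h2, hKcard])
  obtain ⟨e, he⟩ : d ∈ φ.range := by
    rw [hrK]
    exact ⟨(hE d).2 (Or.inr ⟨hd, hdp, hxd⟩), mem_centralizer_singleton_iff.2 hgd.symm.eq⟩
  refine ⟨e, hxE e e.2, hepE e e.2, ?_⟩
  rw [← he]
  show (e : G) * g * (e : G)⁻¹ = g * (e * (g * e * g⁻¹))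
  rw [inv_eq_of_mul_eq_one_right (hE2 _ e.2),
    show g * ((e : G) * (g * e * g⁻¹)) = (g * e * g⁻¹) * (g * (g * e * g⁻¹) * g⁻¹) * g by group,
    hr2 _ e.2, (hEc _ (hconjE e e.2) _ e.2).eq]
  group

end CfsgLib.SECrit
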